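import Groth.Prelude.Def_Found
import Mathlib.RingTheory.Spectrum.Prime.Topology
import Mathlib.Order.Cover
import Mathlib.RingTheory.Ideal.MinimalPrime.Basic

set_option autoImplicit false
universe u

namespace Groth.Agent.H46

open CAlg

/-- Transfer of the catenary property along an order embedding of spectra with order-convex
image. -/
theorem isCatenary_of_convex_embedding {A B : Type u} [CommRing A] [CommRing B]
    (f : PrimeSpectrum B → PrimeSpectrum A)
    (hf : ∀ p q, f p ≤ f q ↔ p ≤ q)
    (hconv : ∀ p q y, f p ≤ y → y ≤ f q → y ∈ Set.range f)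
    (hA : IsCatenary A) : IsCatenary B := by
  have hinj : Function.Injective f := by
    intro p q h
    exact le_antisymm ((hf p q).mp h.le) ((hf q p).mp h.ge)
  have hmono : StrictMono f := by
    intro p q hpq
    refine lt_of_le_of_ne ((hf p q).mpr hpq.le) ?_
    intro h
    exact hpq.ne (hinj h)
  have hcov : ∀ p q : PrimeSpectrum B, p ⋖ q → f p ⋖ f q := by
    intro p q hpq
    refine ⟨hmono hpq.lt, ?_⟩
    intro y hpy hyq
    obtain ⟨x, rfl⟩ := hconv p q y hpy.le hyq.le
    have hlt : ∀ a b : PrimeSpectrum B, f a < f b → a < b := by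
      intro a b hab
      refine lt_of_le_of_ne ((hf a b).mp hab.le) ?_
      rintro rfl
      exact lt_irrefl _ hab
    exact hpq.2 (hlt _ _ hpy) (hlt _ _ hyq)
  refine ⟨?_, ?_⟩
  · intro p q hpq
    obtain ⟨n, hn⟩ := hA.1 (f p) (f q) ((hf p q).mpr hpq)
    refine ⟨n, fun s hs hl => ?_⟩
    have := hn (s.map f hmono) (by rw [LTSeries.head_map, hs]) (by rw [LTSeries.last_map, hl])
    simpa using this
  · intro s t hhead hlast hs ht
    have := hA.2 (s.map f hmono) (t.map f hmono)
      (by rw [LTSeries.head_map, LTSeries.head_map, hhead])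
      (by rw [LTSeries.last_map, LTSeries.last_map, hlast])
      (fun i => hcov _ _ (hs i)) (fun i => hcov _ _ (ht i))
    simpa using this

/-- A ring is catenary as soon as every prime lies in an upward closed subset of the spectrum which
is order isomorphic to the spectrum of a catenary ring. -/
theorem isCatenary_of_upperSet_embeddings {A : Type u} [CommRing A]
    (H : ∀ P : PrimeSpectrum A, ∃ (B : Type u) (_ : CommRing B)
      (f : PrimeSpectrum B → PrimeSpectrum A), (∀ p q, f p ≤ f q ↔ p ≤ q) ∧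
        (∀ p y, f p ≤ y → y ∈ Set.range f) ∧ P ∈ Set.range f ∧ IsCatenary B) :
    IsCatenary A := by
  classical
  -- lifting a series starting in the range
  have lift : ∀ (B : Type u) [CommRing B] (f : PrimeSpectrum B → PrimeSpectrum A),
      (∀ p q, f p ≤ f q ↔ p ≤ q) → (∀ p y, f p ≤ y → y ∈ Set.range f) →
      ∀ (s : LTSeries (PrimeSpectrum A)), s.head ∈ Set.range f →
      ∃ s' : LTSeries (PrimeSpectrum B), s'.length = s.length ∧
        (∀ P', f P' = s.head → s'.head = P') ∧ (∀ Q', f Q' = s.last → s'.last = Q') ∧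
        ((∀ i : Fin s.length, s (Fin.castSucc i) ⋖ s (Fin.succ i)) →
          ∀ i : Fin s'.length, s' (Fin.castSucc i) ⋖ s' (Fin.succ i)) := by
    intro B _ f hf hup s hs
    have hinj : Function.Injective f := by
      intro p q h
      exact le_antisymm ((hf p q).mp h.le) ((hf q p).mp h.ge)
    have hlt : ∀ a b : PrimeSpectrum B, f a < f b ↔ a < b := by
      intro a b
      rw [lt_iff_le_and_ne, lt_iff_le_and_ne, hf, hinj.ne_iff]
    obtain ⟨P', hP'⟩ := hs
    have hmem : ∀ i, s i ∈ Set.range f := fun i => hup P' _ (hP' ▸ s.head_le i)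
    choose g hg using hmem
    refine ⟨LTSeries.mk s.length g ?_, rfl, ?_, ?_, ?_⟩
    · intro i j hij
      rw [← hlt, hg, hg]
      exact s.strictMono hij
    · intro P'' hP''
      apply hinj
      change f (g 0) = f P''
      rw [hg, hP'']
      rfl
    · intro Q' hQ'
      apply hinj
      change f (g (Fin.last _)) = f Q'
      rw [hg, hQ']
      rfl
    · intro hsat i
      have h1 := hsat i
      change g (Fin.castSucc i) ⋖ g (Fin.succ i)
      refine ⟨?_, ?_⟩
      · rw [← hlt, hg, hg]; exact h1.lt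
      · intro z hz1 hz2
        rw [← hlt, hg] at hz1 hz2
        exact h1.2 hz1 hz2
  refine ⟨?_, ?_⟩
  · intro p q hpq
    obtain ⟨B, _, f, hf, hup, ⟨P', hP'⟩, hB⟩ := H p
    obtain ⟨Q', hQ'⟩ := hup P' q (hP' ▸ hpq)
    obtain ⟨n, hn⟩ := hB.1 P' Q' ((hf P' Q').mp (by rw [hP', hQ']; exact hpq))
    refine ⟨n, fun s hs hl => ?_⟩
    obtain ⟨s', hlen, hhead, hlast, -⟩ := lift B f hf hup s (hs ▸ ⟨P', hP'⟩)
    rw [← hlen]
    exact hn s' (hhead P' (by rw [hP', hs])) (hlast Q' (by rw [hQ', hl]))
  · intro s t hhead hlast hs ht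
    obtain ⟨B, _, f, hf, hup, ⟨P', hP'⟩, hB⟩ := H s.head
    obtain ⟨Q', hQ'⟩ := hup P' s.last (hP' ▸ s.head_le_last)
    obtain ⟨s', hlen, hhead', hlast', hsat'⟩ := lift B f hf hup s ⟨P', hP'⟩
    obtain ⟨t', hlent, hheadt', hlastt', hsatt'⟩ := lift B f hf hup t (hhead ▸ ⟨P', hP'⟩)
    rw [← hlen, ← hlent]
    apply hB.2 s' t'
    · rw [hhead' P' hP', hheadt' P' (by rw [hP', hhead])]
    · rw [hlast' Q' hQ', hlastt' Q' (by rw [hQ', hlast])]
    · exact hsat' hs
    · exact hsatt' ht

end Groth.Agent.H46
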