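import Groth.Prelude.Def_CAlgX
import Mathlib.RingTheory.Flat.Basic
import Mathlib.RingTheory.Flat.Equalizer
import Mathlib.RingTheory.TensorProduct.Basic
import Mathlib.RingTheory.Ideal.Quotient.Operations
import Mathlib.LinearAlgebra.TensorProduct.Pi
import Mathlib.LinearAlgebra.TensorProduct.RightExactness

set_option autoImplicit false
universe u

namespace Groth.Agent.H46

open TensorProduct

section

variable (A B A' : Type u) [CommRing A] [CommRing B] [CommRing A'] [Algebra A B] [Algebra A A']
  (r : ℕ) (f : Fin r → B)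

/-- The trivial (Koszul) relations among the `f i`. -/
def trivRel {B : Type u} [CommRing B] {r : ℕ} (f : Fin r → B) : Submodule B (Fin r → B) :=
  Submodule.span B {v : Fin r → B | ∃ i j : Fin r, v = Pi.single i (f j) - Pi.single j (f i)}

/-- Base change of a trivial relation is a trivial relation. -/
theorem tmul_mem_trivRel (t : Fin r → B) (ht : t ∈ trivRel f) (x : A') :
    (fun k => x ⊗ₜ[A] t k) ∈ trivRel (fun i => ((1 : A') ⊗ₜ[A] f i : A' ⊗[A] B)) := by
  classical
  induction ht using Submodule.span_induction generalizing x with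
  | mem t ht =>
    obtain ⟨i, j, rfl⟩ := ht
    have : (fun k => x ⊗ₜ[A] (Pi.single i (f j) - Pi.single j (f i) : Fin r → B) k) =
        (x ⊗ₜ[A] (1 : B)) • (Pi.single i ((1 : A') ⊗ₜ[A] f j) - Pi.single j ((1 : A') ⊗ₜ[A] f i) :
          Fin r → A' ⊗[A] B) := by
      funext k
      simp only [Pi.sub_apply, Pi.smul_apply, smul_eq_mul, tmul_sub, mul_sub]
      congr 1
      · by_cases h : k = i
        · subst h; simp
        · simp [Pi.single_eq_of_ne h]
      · by_cases h : k = j
        · subst h; simp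
        · simp [Pi.single_eq_of_ne h]
    rw [this]
    exact Submodule.smul_mem _ _ (Submodule.subset_span ⟨i, j, rfl⟩)
  | zero =>
    have : (fun k => x ⊗ₜ[A] (0 : Fin r → B) k) = (0 : Fin r → A' ⊗[A] B) := by
      funext k; simp
    rw [this]; exact Submodule.zero_mem _
  | add t t' _ _ iht iht' =>
    have : (fun k => x ⊗ₜ[A] (t + t') k) = (fun k => x ⊗ₜ[A] t k) + (fun k => x ⊗ₜ[A] t' k) := by
      funext k; simp [tmul_add]
    rw [this]; exact Submodule.add_mem _ (iht x) (iht' x)
  | smul b t _ iht =>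
    have : (fun k => x ⊗ₜ[A] (b • t) k) = ((1 : A') ⊗ₜ[A] b) • (fun k => x ⊗ₜ[A] t k) := by
      funext k; simp
    rw [this]; exact Submodule.smul_mem _ _ (iht x)

theorem isH1Regular_baseChange
    (hflat : Module.Flat A (B ⧸ Ideal.span (Set.range f))) (hq : CAlgX.IsH1Regular f) :
    CAlgX.IsH1Regular (fun i => ((1 : A') ⊗ₜ[A] f i : A' ⊗[A] B)) := by
  classical
  intro a' ha'
  change a' ∈ trivRel (fun i => ((1 : A') ⊗ₜ[A] f i : A' ⊗[A] B))
  set I : Ideal B := Ideal.span (Set.range f) with hI
  let π : B →ₗ[A] (B ⧸ I) := (Ideal.Quotient.mkₐ A I).toLinearMap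
  have hπ : Function.Surjective π := Ideal.Quotient.mkₐ_surjective A I
  set K : Submodule A B := LinearMap.ker π with hKdef
  have hK : ∀ x, x ∈ K ↔ x ∈ I := by
    intro x
    rw [hKdef, LinearMap.mem_ker]
    exact Ideal.Quotient.eq_zero_iff_mem
  have hinj : Function.Injective (K.subtype.lTensor A') :=
    LinearMap.lTensor_injective_of_exact_of_flat π hπ K.subtype K.subtype_injective
      (LinearMap.exact_subtype_ker_map π) A'
  let d₁ : (Fin r → B) →ₗ[A] B := (Fintype.linearCombination B f).restrictScalars A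
  have hd₁ : ∀ a, d₁ a = ∑ i, a i * f i := by
    intro a
    simp [d₁, Fintype.linearCombination_apply]
  have hd₁K : ∀ a, d₁ a ∈ K := by
    intro a
    rw [hK, hd₁]
    exact I.sum_mem fun i _ => I.mul_mem_left _ (Ideal.subset_span ⟨i, rfl⟩)
  let db : (Fin r → B) →ₗ[A] K := d₁.codRestrict K hd₁K
  have hdb_surj : Function.Surjective db := by
    rintro ⟨x, hx⟩
    rw [hK, hI] at hx
    have hx' : x ∈ Submodule.span B (Set.range f) := hx
    rw [← Fintype.range_linearCombination] at hx'
    obtain ⟨a, ha⟩ := hx'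
    exact ⟨a, Subtype.ext ha⟩
  have hex : Function.Exact ((LinearMap.ker db).subtype.lTensor A') (db.lTensor A') :=
    lTensor_exact A' (LinearMap.exact_subtype_ker_map db) hdb_surj
  -- the element α
  let e := TensorProduct.piRight A A A' (fun _ : Fin r => B)
  set α := e.symm a' with hα
  -- formula for d₁ ⊗ A' in terms of a'
  let Φ : (Fin r → A' ⊗[A] B) →ₗ[A] A' ⊗[A] B :=
    ∑ i, (LinearMap.mulRight A ((1 : A') ⊗ₜ[A] f i)) ∘ₗ (LinearMap.proj i)
  have hΦ : ∀ b', Φ b' = ∑ i, b' i * ((1 : A') ⊗ₜ[A] f i) := by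
    intro b'
    simp [Φ]
  have hcomp : (d₁.lTensor A') ∘ₗ e.symm.toLinearMap = Φ := by
    apply LinearMap.pi_ext'
    intro i
    apply TensorProduct.ext'
    intro x b
    simp only [LinearMap.comp_apply, LinearMap.coe_single, LinearEquiv.coe_coe]
    rw [show e.symm (Pi.single i (x ⊗ₜ[A] b)) = x ⊗ₜ[A] (Pi.single i b : Fin r → B) from
      TensorProduct.piRight_symm_single A A A' (fun _ : Fin r => B) x i b]
    rw [LinearMap.lTensor_tmul, hd₁, hΦ]
    rw [Finset.sum_eq_single i, Finset.sum_eq_single i]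
    · simp
    · intro j _ hj; simp [Pi.single_eq_of_ne hj]
    · simp
    · intro j _ hj; simp [Pi.single_eq_of_ne hj]
    · simp
  have h1 : (d₁.lTensor A') α = 0 := by
    have := congrArg (fun g : (Fin r → A' ⊗[A] B) →ₗ[A] A' ⊗[A] B => g a') hcomp
    simp only [LinearMap.comp_apply, LinearEquiv.coe_coe] at this
    rw [hα, this, hΦ]
    exact ha'
  have h2 : (db.lTensor A') α = 0 := by
    apply hinj
    rw [map_zero, ← LinearMap.comp_apply, ← LinearMap.lTensor_comp]
    exact h1
  obtain ⟨β, hβ⟩ := (hex α).mp h2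
  have ha'e : a' = e α := by rw [hα, LinearEquiv.apply_symm_apply]
  rw [ha'e, ← hβ]
  clear hβ h2 h1 ha'e
  induction β using TensorProduct.induction_on with
  | zero => simp
  | add x y hx hy => rw [map_add, map_add]; exact Submodule.add_mem _ hx hy
  | tmul x t =>
    rw [LinearMap.lTensor_tmul]
    have ht : (t : Fin r → B) ∈ trivRel f := by
      apply hq
      have := t.2
      rw [LinearMap.mem_ker] at this
      have h3 : d₁ (t : Fin r → B) = 0 := congrArg Subtype.val this
      rw [hd₁] at h3
      exact h3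
    have := tmul_mem_trivRel A B A' r f _ ht x
    convert this using 1
    change TensorProduct.piRight A A A' (fun _ : Fin r => B) (x ⊗ₜ[A] (t : Fin r → B)) = _
    rw [TensorProduct.piRight_apply, TensorProduct.piRightHom_tmul]

end

end Groth.Agent.H46
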