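import Groth.Agent.H46.AdicSmoothLocal
import Mathlib.RingTheory.SimpleModule.Basic
import Mathlib.Algebra.Module.Torsion.Basic
import Mathlib.RingTheory.Artinian.Ring
import Mathlib.RingTheory.HopkinsLevitzki
import Mathlib.RingTheory.Length

set_option autoImplicit false
set_option linter.style.haveILetI false
universe u

namespace Groth.Agent.H46

open IsLocalRing

theorem isSemisimpleModule_of_isTorsionBySet_maximal {A M : Type*} [CommRing A] [AddCommGroup M]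
    [Module A M] (𝔪 : Ideal A) [h𝔪 : 𝔪.IsMaximal] (h : Module.IsTorsionBySet A M (𝔪 : Set A)) :
    IsSemisimpleModule A M := by
  letI := h.module
  letI : Field (A ⧸ 𝔪) := Ideal.Quotient.field 𝔪
  exact h.isSemisimpleModule_iff.mp inferInstance

/-- If `W ⋖ K` are ideals then the image of `K` in `A/W` is a simple module. -/
theorem isSimpleModule_map_of_covBy {A : Type*} [CommRing A] {W K : Ideal A} (h : W ⋖ K) :
    IsSimpleModule (A ⧸ W) ↥(K.map (Ideal.Quotient.mk W)) := by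
  rw [isSimpleModule_iff_isAtom]
  have hsurj : Function.Surjective (Ideal.Quotient.mk W) := Ideal.Quotient.mk_surjective
  constructor
  · intro hbot
    have : K ≤ W := by
      intro x hx
      have h1 : Ideal.Quotient.mk W x ∈ K.map (Ideal.Quotient.mk W) := Ideal.mem_map_of_mem _ hx
      rw [hbot, Ideal.mem_bot] at h1
      exact Ideal.Quotient.eq_zero_iff_mem.mp h1
    exact h.lt.not_ge this
  · intro N hN
    have h1 : W ≤ Ideal.comap (Ideal.Quotient.mk W) N := by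
      intro x hx
      rw [Ideal.mem_comap, Ideal.Quotient.eq_zero_iff_mem.mpr hx]
      exact N.zero_mem
    have h2 : Ideal.comap (Ideal.Quotient.mk W) N ≤ K := by
      intro x hx
      have hx' : Ideal.Quotient.mk W x ∈ K.map (Ideal.Quotient.mk W) := hN.le hx
      rw [Ideal.mem_map_iff_of_surjective _ hsurj] at hx'
      obtain ⟨y, hy, hxy⟩ := hx'
      have : x - y ∈ W := by
        rw [← Ideal.Quotient.eq_zero_iff_mem, map_sub, hxy, sub_self]
      have := K.add_mem (h.le this) hy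
      rwa [sub_add_cancel] at this
    rcases h.eq_or_eq h1 h2 with h3 | h3
    · rw [← Ideal.map_comap_of_surjective _ hsurj N, h3, Ideal.map_quotient_self]
    · exfalso
      apply hN.ne
      rw [← Ideal.map_comap_of_surjective _ hsurj N, h3]

/-- In a local ring, an ideal killed by the maximal ideal is the intersection of the ideals it
covers. -/
theorem exists_covBy_not_mem {A : Type*} [CommRing A] [IsLocalRing A] (K : Ideal A)
    (hK : ∀ a ∈ maximalIdeal A, ∀ x ∈ K, a * x = 0) {x : A} (hx : x ∈ K) (hx0 : x ≠ 0) :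
    ∃ W : Ideal A, W ⋖ K ∧ x ∉ W := by
  obtain ⟨W, hWmax⟩ : ∃ W : Ideal A, Maximal (fun W : Ideal A => W ≤ K ∧ x ∉ W) W := by
    apply zorn_le₀
    intro c hc hchain
    rcases c.eq_empty_or_nonempty with rfl | hne
    · exact ⟨⊥, ⟨bot_le, by simpa using hx0⟩, by simp⟩
    · refine ⟨sSup c, ⟨sSup_le fun W hW => (hc hW).1, ?_⟩, fun W hW => le_sSup hW⟩
      intro hmem
      rw [Submodule.mem_sSup_of_directed hne hchain.directedOn] at hmem
      obtain ⟨W, hW, hxW⟩ := hmem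
      exact (hc hW).2 hxW
  refine ⟨W, ?_, hWmax.prop.2⟩
  have hWK : W < K := lt_of_le_of_ne hWmax.prop.1 (fun h => hWmax.prop.2 (h ▸ hx))
  refine ⟨hWK, ?_⟩
  intro W' hWW' hW'K
  -- x ∈ W'
  have hxW' : x ∈ W' := by
    by_contra hcon
    exact hWW'.not_ge (hWmax.le_of_ge ⟨hW'K.le, hcon⟩ hWW'.le)
  apply hW'K.not_ge
  intro y hy
  by_cases hyW : y ∈ W
  · exact hWW'.le hyW
  · have hlt : W < W ⊔ Ideal.span {y} := by
      refine lt_of_le_of_ne le_sup_left ?_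
      intro h
      apply hyW
      rw [h]
      exact Ideal.mem_sup_right (Ideal.subset_span rfl)
    have hx' : x ∈ W ⊔ Ideal.span {y} := by
      by_contra hcon
      refine hlt.not_ge (hWmax.le_of_ge ⟨?_, hcon⟩ hlt.le)
      exact sup_le hWmax.prop.1 ((Ideal.span_singleton_le_iff_mem _).mpr hy)
    rw [Submodule.mem_sup] at hx'
    obtain ⟨w, hw, z, hz, hwz⟩ := hx'
    rw [Ideal.mem_span_singleton'] at hz
    obtain ⟨a, rfl⟩ := hz
    have ha : IsUnit a := by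
      by_contra hau
      have : a * y = 0 := hK a hau y hy
      apply hWmax.prop.2
      rw [← hwz, this, add_zero]
      exact hw
    obtain ⟨u, rfl⟩ := ha
    have : y = ↑u⁻¹ * (x - w) := by
      rw [← hwz, add_sub_cancel_left, ← mul_assoc, Units.inv_mul, one_mul]
    rw [this]
    exact W'.mul_mem_left _ (W'.sub_mem hxW' (hWW'.le hw))


theorem surjLiftSimple_of_smallExt {R S : Type u} [CommRing R] [CommRing S] [IsLocalRing R]
    [IsLocalRing S] [IsNoetherianRing S] [Algebra R S] [IsLocalHom (algebraMap R S)]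
    (H : ∀ (A : Type u) [CommRing A] [IsLocalRing A] [IsArtinianRing A] [Algebra R A]
        [IsLocalHom (algebraMap R A)] (J : Ideal A), J ^ 2 = ⊥ → Module.length A J = 1 →
        ∀ [IsLocalRing (A ⧸ J)] (ψ : S →ₐ[R] A ⧸ J) [IsLocalHom ψ.toRingHom],
          Function.Bijective (ResidueField.map ψ.toRingHom) →
          ∃ χ : S →ₐ[R] A, (Ideal.Quotient.mkₐ R J).comp χ = ψ)
    (t : ℕ) (A' : Type u) [CommRing A'] [Algebra R A']
    (p : A' →ₐ[R] S ⧸ maximalIdeal S ^ (t + 1)) (hp : Function.Surjective p)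
    (hK : (RingHom.ker p) ^ 2 = ⊥) (hs : IsSimpleModule A' ↥(RingHom.ker p)) :
    ∃ χ : S →ₐ[R] A', p.comp χ = Ideal.Quotient.mkₐ R (maximalIdeal S ^ (t + 1)) := by
  obtain ⟨hA', hRA', hQ, ψ', hψ', hnil, -, hbij, hfin⟩ := local_data t A' p hp hK
  have hB : IsArtinianRing (S ⧸ maximalIdeal S ^ (t + 1)) :=
    (isArtinianRing_iff_isNilpotent_maximalIdeal _).mpr ⟨t + 1, maximalIdeal_quot_pow t⟩
  have hArt : IsArtinianRing A' := by
    letI : Algebra A' (S ⧸ maximalIdeal S ^ (t + 1)) :=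
      (p : A' →+* S ⧸ maximalIdeal S ^ (t + 1)).toAlgebra
    have h1 : IsArtinian A' (S ⧸ maximalIdeal S ^ (t + 1)) :=
      isArtinian_of_surjective_algebraMap (R := S ⧸ maximalIdeal S ^ (t + 1))
        (M := S ⧸ maximalIdeal S ^ (t + 1)) hp
    have h2 : IsArtinian A' ↥(RingHom.ker p) := inferInstance
    refine isArtinian_of_range_eq_ker (Submodule.subtype (RingHom.ker p))
      (Algebra.linearMap A' (S ⧸ maximalIdeal S ^ (t + 1))) ?_
    ext x
    simp only [Submodule.range_subtype, LinearMap.mem_ker, Algebra.linearMap_apply]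
    rfl
  obtain ⟨χ, hχ⟩ := H A' (RingHom.ker p) hK (Module.length_eq_one_iff.mpr hs) ψ' hbij
  exact ⟨χ, hfin χ hχ⟩


section Core

variable {R S : Type u} [CommRing R] [CommRing S] [IsLocalRing R] [IsLocalRing S] [Algebra R S]
  [IsLocalHom (algebraMap R S)]

set_option maxHeartbeats 2000000 in
theorem surjLiftTors_of_surjLiftSimple (t : ℕ)
    (H : ∀ (A'' : Type u) [CommRing A''] [Algebra R A'']
      (p'' : A'' →ₐ[R] S ⧸ maximalIdeal S ^ (t + 1)), Function.Surjective p'' →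
      (RingHom.ker p'') ^ 2 = ⊥ → IsSimpleModule A'' ↥(RingHom.ker p'') →
      ∃ χ : S →ₐ[R] A'', p''.comp χ = Ideal.Quotient.mkₐ R (maximalIdeal S ^ (t + 1)))
    (A' : Type u) [CommRing A'] [Algebra R A']
    (p : A' →ₐ[R] S ⧸ maximalIdeal S ^ (t + 1)) (hp : Function.Surjective p)
    (htors : ∀ a x, p a ∈ maximalIdeal (S ⧸ maximalIdeal S ^ (t + 1)) → p x = 0 → a * x = 0) :
    ∃ χ : S →ₐ[R] A', p.comp χ = Ideal.Quotient.mkₐ R (maximalIdeal S ^ (t + 1)) := by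
  set B := S ⧸ maximalIdeal S ^ (t + 1) with hB
  set K : Ideal A' := RingHom.ker p with hKdef
  have hzero_mem : (0 : B) ∈ maximalIdeal B := (maximalIdeal B).zero_mem
  have hK2 : K ^ 2 = ⊥ := by
    rw [eq_bot_iff, pow_two, Ideal.mul_le]
    intro x hx y hy
    rw [Ideal.mem_bot]
    apply htors x y
    · rw [(RingHom.mem_ker).mp hx]; exact hzero_mem
    · exact (RingHom.mem_ker).mp hy
  obtain ⟨hA', -, -, -, -, -, hpmax, -, -⟩ := local_data t A' p hp hK2
  have hKtors : ∀ a ∈ maximalIdeal A', ∀ x ∈ K, a * x = 0 := fun a ha x hx =>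
    htors a x (hpmax a ha) ((RingHom.mem_ker).mp hx)
  -- the index set
  let Idx := {W : Ideal A' // W ⋖ K}
  have hWK : ∀ W : Idx, ∀ a ∈ W.1, p a = 0 := fun W a ha => (RingHom.mem_ker).mp (W.2.le ha)
  let pW : ∀ W : Idx, A' ⧸ W.1 →ₐ[R] B := fun W => Ideal.Quotient.liftₐ W.1 p (hWK W)
  have hpW_mk : ∀ (W : Idx) (a : A'), pW W (Ideal.Quotient.mk W.1 a) = p a := fun W a => rfl
  have hpW_surj : ∀ W : Idx, Function.Surjective (pW W) := by
    intro W b
    obtain ⟨a, rfl⟩ := hp b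
    exact ⟨Ideal.Quotient.mk W.1 a, rfl⟩
  have hkerW : ∀ W : Idx, RingHom.ker (pW W) = K.map (Ideal.Quotient.mk W.1) := by
    intro W
    ext x
    obtain ⟨a, rfl⟩ := Ideal.Quotient.mk_surjective x
    rw [RingHom.mem_ker, hpW_mk, Ideal.mem_map_iff_of_surjective _ Ideal.Quotient.mk_surjective]
    constructor
    · intro h
      exact ⟨a, (RingHom.mem_ker).mpr h, rfl⟩
    · rintro ⟨y, hy, hya⟩
      have : a - y ∈ W.1 := by
        rw [← Ideal.Quotient.eq_zero_iff_mem, map_sub, hya, sub_self]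
      have h1 := hWK W _ this
      rw [map_sub, (RingHom.mem_ker).mp hy, sub_zero] at h1
      exact h1
  have hkerW2 : ∀ W : Idx, (RingHom.ker (pW W)) ^ 2 = ⊥ := by
    intro W
    rw [hkerW, ← Ideal.map_pow, hK2, Ideal.map_bot]
  have hsimple : ∀ W : Idx, IsSimpleModule (A' ⧸ W.1) ↥(RingHom.ker (pW W)) := by
    intro W
    rw [hkerW]
    exact isSimpleModule_map_of_covBy W.2
  choose χW hχW using fun W : Idx => H (A' ⧸ W.1) (pW W) (hpW_surj W) (hkerW2 W) (hsimple W)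
  -- the big fibre product
  let P := B × (∀ W : Idx, A' ⧸ W.1)
  let C : Subalgebra R P :=
    ⨅ W : Idx, AlgHom.equalizer
      ((pW W).comp ((Pi.evalAlgHom R (fun W : Idx => A' ⧸ W.1) W).comp (AlgHom.snd R B _)))
      (AlgHom.fst R B _)
  have mem_C : ∀ x : P, x ∈ C ↔ ∀ W : Idx, pW W (x.2 W) = x.1 := by
    intro x
    simp only [C, Algebra.mem_iInf, AlgHom.mem_equalizer]
    rfl
  let q : C →ₐ[R] B := (AlgHom.fst R B _).comp C.val
  let ι : A' →ₐ[R] C :=
    AlgHom.codRestrict (AlgHom.prod p (AlgHom.pi (fun W : Idx => Ideal.Quotient.mkₐ R W.1))) C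
      (by intro a; rw [mem_C]; intro W; rfl)
  have hqι : ∀ a, q (ι a) = p a := fun a => rfl
  have hι2 : ∀ (a : A') (W : Idx), (ι a).1.2 W = Ideal.Quotient.mk W.1 a := fun a W => rfl
  have hCmem : ∀ (c : C) (W : Idx), pW W (c.1.2 W) = q c := fun c W => (mem_C c.1).mp c.2 W
  have hι_inj : ∀ a, ι a = 0 → a = 0 := by
    intro a ha
    by_contra hne
    have haK : a ∈ K := by
      rw [hKdef, RingHom.mem_ker, ← hqι, ha, map_zero]
    obtain ⟨W, hW, haW⟩ := exists_covBy_not_mem K hKtors haK hne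
    apply haW
    have h1 := hι2 a ⟨W, hW⟩
    rw [ha] at h1
    exact Ideal.Quotient.eq_zero_iff_mem.mp h1.symm
  have hq_surj : Function.Surjective q := by
    intro b
    obtain ⟨a, rfl⟩ := hp b
    exact ⟨ι a, rfl⟩
  have key : ∀ c m : C, q c ∈ maximalIdeal B → q m = 0 → c * m = 0 := by
    intro c m hc hm
    apply Subtype.ext
    apply Prod.ext
    · change q c * q m = 0
      rw [hm, mul_zero]
    · funext W
      change c.1.2 W * m.1.2 W = 0
      obtain ⟨a, ha⟩ := Ideal.Quotient.mk_surjective (c.1.2 W)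
      obtain ⟨x, hx⟩ := Ideal.Quotient.mk_surjective (m.1.2 W)
      have h1 : p a = q c := by rw [← hCmem c W, ← ha]; rfl
      have h2 : p x = q m := by rw [← hCmem m W, ← hx]; rfl
      rw [← ha, ← hx, ← map_mul, htors a x (h1 ▸ hc) (h2 ▸ hm), map_zero]
  set M : Ideal C := RingHom.ker q with hMdef
  have hM2 : M ^ 2 = ⊥ := by
    rw [eq_bot_iff, pow_two, Ideal.mul_le]
    intro x hx y hy
    rw [Ideal.mem_bot]
    apply key x y
    · rw [(RingHom.mem_ker).mp hx]; exact hzero_mem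
    · exact (RingHom.mem_ker).mp hy
  obtain ⟨hC, -, -, -, -, -, hqmax, -, -⟩ := local_data t C q hq_surj hM2
  have hMtors : Module.IsTorsionBySet C ↥M (maximalIdeal C : Set C) := by
    intro m c
    apply Subtype.ext
    change (c : C) * m.1 = 0
    exact key c m.1 (hqmax c c.2) ((RingHom.mem_ker).mp m.2)
  have hMss : IsSemisimpleModule C ↥M :=
    isSemisimpleModule_of_isTorsionBySet_maximal (maximalIdeal C) hMtors
  -- the image of K in M
  let KC : Submodule C ↥M :=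
    { carrier := {m | ∃ k ∈ K, ι k = m.1}
      add_mem' := by
        rintro m m' ⟨k, hk, hkm⟩ ⟨k', hk', hkm'⟩
        exact ⟨k + k', K.add_mem hk hk', by rw [map_add, hkm, hkm']; rfl⟩
      zero_mem' := ⟨0, K.zero_mem, by rw [map_zero]; rfl⟩
      smul_mem' := by
        rintro c m ⟨k, hk, hkm⟩
        obtain ⟨a, ha⟩ := hp (q c)
        refine ⟨a * k, K.mul_mem_left a hk, ?_⟩
        have h1 : (c - ι a) * ι k = 0 := by
          apply key
          · rw [map_sub, hqι, ha, sub_self]; exact hzero_mem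
          · rw [hqι]; exact (RingHom.mem_ker).mp hk
        rw [sub_mul, sub_eq_zero] at h1
        rw [map_mul, ← h1, hkm]
        rfl }
  obtain ⟨N', hN'⟩ := hMss.toComplementedLattice.exists_isCompl KC
  let N : Ideal C := Submodule.map (Submodule.subtype M) N'
  have hNM : N ≤ M := by
    rintro _ ⟨m, -, rfl⟩
    exact m.2
  let φ : A' →ₐ[R] C ⧸ N := (Ideal.Quotient.mkₐ R N).comp ι
  have hφ_inj : Function.Injective φ := by
    rw [injective_iff_map_eq_zero]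
    intro a ha
    have h1 : ι a ∈ N := Ideal.Quotient.eq_zero_iff_mem.mp ha
    obtain ⟨m, hmN, hm⟩ := h1
    have haK : a ∈ K := by
      rw [hKdef, RingHom.mem_ker, ← hqι]
      exact (RingHom.mem_ker).mp (hNM ⟨m, hmN, hm⟩)
    have hmK : m ∈ KC := ⟨a, haK, hm.symm⟩
    have hm0 : m = 0 := by
      have : m ∈ KC ⊓ N' := ⟨hmK, hmN⟩
      rw [hN'.inf_eq_bot] at this
      exact this
    apply hι_inj
    rw [← hm, hm0]
    rfl
  have hφ_surj : Function.Surjective φ := by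
    intro y
    obtain ⟨c, rfl⟩ := Ideal.Quotient.mk_surjective y
    obtain ⟨a, ha⟩ := hp (q c)
    have hmem : c - ι a ∈ M := by
      rw [hMdef, RingHom.mem_ker, map_sub, hqι, ha, sub_self]
    have htop : (⟨c - ι a, hmem⟩ : ↥M) ∈ KC ⊔ N' := by
      rw [hN'.sup_eq_top]; trivial
    rw [Submodule.mem_sup] at htop
    obtain ⟨k', ⟨k, hk, hkk'⟩, n, hn, hsum⟩ := htop
    refine ⟨a + k, ?_⟩
    change Ideal.Quotient.mk N (ι (a + k)) = Ideal.Quotient.mk N c
    rw [Ideal.Quotient.eq]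
    have h1 : (k' : C) + (n : C) = c - ι a := congrArg Subtype.val hsum
    have h2 : ι (a + k) - c = -(n : C) := by
      rw [map_add, hkk', ← sub_eq_zero]
      have : c = ι a + ((k' : C) + (n : C)) := by rw [h1]; ring
      rw [this]; ring
    rw [h2]
    exact N.neg_mem ⟨n, hn, rfl⟩
  let e : A' ≃ₐ[R] C ⧸ N := AlgEquiv.ofBijective φ ⟨hφ_inj, hφ_surj⟩
  let χ'' : S →ₐ[R] C :=
    AlgHom.codRestrict (AlgHom.prod (Ideal.Quotient.mkₐ R (maximalIdeal S ^ (t + 1)))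
      (AlgHom.pi χW)) C (by
        intro s
        rw [mem_C]
        intro W
        exact congrArg (fun f : S →ₐ[R] B => f s) (hχW W))
  have hqχ'' : ∀ s, q (χ'' s) = Ideal.Quotient.mk _ s := fun s => rfl
  refine ⟨(e.symm : C ⧸ N →ₐ[R] A').comp ((Ideal.Quotient.mkₐ R N).comp χ''), ?_⟩
  ext s
  set a : A' := e.symm (Ideal.Quotient.mk N (χ'' s)) with ha
  have h1 : e a = Ideal.Quotient.mk N (χ'' s) := by rw [ha, AlgEquiv.apply_symm_apply]
  have h2 : Ideal.Quotient.mk N (ι a) = Ideal.Quotient.mk N (χ'' s) := h1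
  rw [Ideal.Quotient.eq] at h2
  have h3 := (RingHom.mem_ker).mp (hNM h2)
  rw [map_sub, hqι, hqχ'', sub_eq_zero] at h3
  exact h3

end Core


section GTL

variable {R S : Type u} [CommRing R] [CommRing S] [IsLocalRing R] [IsLocalRing S] [Algebra R S]
  [IsLocalHom (algebraMap R S)]

/-- From the lifting property along surjections with kernel killed by the maximal ideal to the
general lifting property for square-zero extensions with `𝔫`-torsion kernel. -/
theorem gtl_of_surjLiftTors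
    (H : ∀ (t : ℕ) (A' : Type u) [CommRing A'] [Algebra R A']
      (p : A' →ₐ[R] S ⧸ maximalIdeal S ^ (t + 1)), Function.Surjective p →
      (∀ a x, p a ∈ maximalIdeal (S ⧸ maximalIdeal S ^ (t + 1)) → p x = 0 → a * x = 0) →
      ∃ χ : S →ₐ[R] A', p.comp χ = Ideal.Quotient.mkₐ R (maximalIdeal S ^ (t + 1)))
    (A : Type u) [CommRing A] [Algebra R A] (J : Ideal A) (ψ : S →ₐ[R] A ⧸ J) (k : ℕ)
    (hk : ∀ x ∈ maximalIdeal S ^ k, ψ x = 0)
    (tors : ∀ s ∈ maximalIdeal S, ∀ a : A, Ideal.Quotient.mk J a = ψ s → ∀ j ∈ J, a * j = 0) :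
    ∃ χ : S →ₐ[R] A, (Ideal.Quotient.mkₐ R J).comp χ = ψ := by
  have hI : ∀ x ∈ maximalIdeal S ^ (k + 1), ψ x = 0 := fun x hx =>
    hk x (Ideal.pow_le_pow_right (Nat.le_succ k) hx)
  obtain ⟨A', _, _, p, q, hp, hpq, hinj⟩ := exists_pullback J ψ (maximalIdeal S ^ (k + 1)) hI
  have htors : ∀ a x, p a ∈ maximalIdeal (S ⧸ maximalIdeal S ^ (k + 1)) → p x = 0 →
      a * x = 0 := by
    intro a x ha hx
    obtain ⟨s, hs⟩ := Ideal.Quotient.mk_surjective (p a)
    have hsn : s ∈ maximalIdeal S := by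
      rw [mem_maximalIdeal, mem_nonunits_iff]
      intro hu
      rw [mem_maximalIdeal, mem_nonunits_iff] at ha
      apply ha
      rw [← hs]
      exact hu.map _
    have h1 : Ideal.Quotient.mk J (q a) = ψ s := by
      rw [hpq, ← hs]; rfl
    have h2 : q x ∈ J := by
      rw [← Ideal.Quotient.eq_zero_iff_mem, hpq, hx, map_zero]
    apply hinj
    · rw [map_mul, hx, mul_zero]
    · rw [map_mul]
      exact tors s hsn (q a) h1 (q x) h2
  obtain ⟨χ', hχ'⟩ := H k A' p hp htors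
  exact ⟨q.comp χ', lift_of_pullback J ψ _ hI p q hpq χ' hχ'⟩

end GTL

section Filtration

variable {R S : Type u} [CommRing R] [CommRing S] [Algebra R S]

/-- One step of the filtration argument. -/
theorem filtration_step (𝔫 : Ideal S)
    (G : ∀ (A : Type u) [CommRing A] [Algebra R A] (J : Ideal A) (ψ : S →ₐ[R] A ⧸ J) (k : ℕ),
      J ^ 2 = ⊥ → (∀ x ∈ 𝔫 ^ k, ψ x = 0) →
      (∀ s ∈ 𝔫, ∀ a : A, Ideal.Quotient.mk J a = ψ s → ∀ j ∈ J, a * j = 0) →
      ∃ χ : S →ₐ[R] A, (Ideal.Quotient.mkₐ R J).comp χ = ψ)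
    (A : Type u) [CommRing A] [Algebra R A] (J : Ideal A) (hJ : J ^ 2 = ⊥) (ψ : S →ₐ[R] A ⧸ J)
    (k : ℕ) (hk : ∀ x ∈ 𝔫 ^ k, ψ x = 0) (I₀ : Ideal A) (hI₀ : I₀ ≤ J)
    (χ₀ : S →ₐ[R] A ⧸ I₀)
    (hχ₀ : ∀ s a, χ₀ s = Ideal.Quotient.mk I₀ a → ψ s = Ideal.Quotient.mk J a) :
    ∃ χ₁ : S →ₐ[R] A ⧸ (Ideal.comap (Ideal.Quotient.mk J) (𝔫.map ψ.toRingHom) * I₀),
      ∀ s a, χ₁ s = Ideal.Quotient.mk _ a → ψ s = Ideal.Quotient.mk J a := by
  set 𝔞 : Ideal A := Ideal.comap (Ideal.Quotient.mk J) (𝔫.map ψ.toRingHom) with h𝔞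
  set I₁ : Ideal A := 𝔞 * I₀ with hI₁
  have hI₁₀ : I₁ ≤ I₀ := Ideal.mul_le_right
  set J₁ : Ideal (A ⧸ I₁) := I₀.map (Ideal.Quotient.mk I₁) with hJ₁
  have hJ₁sq : J₁ ^ 2 = ⊥ := by
    rw [hJ₁, ← Ideal.map_pow, eq_bot_iff]
    have : I₀ ^ 2 ≤ ⊥ := by rw [← hJ]; exact Ideal.pow_right_mono hI₀ 2
    exact (Ideal.map_mono this).trans (by rw [Ideal.map_bot])
  let θ : A ⧸ I₀ →ₐ[R] (A ⧸ I₁) ⧸ J₁ :=
    Ideal.Quotient.liftₐ I₀ ((Ideal.Quotient.mkₐ R J₁).comp (Ideal.Quotient.mkₐ R I₁)) (by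
      intro a ha
      change Ideal.Quotient.mk J₁ (Ideal.Quotient.mk I₁ a) = 0
      rw [Ideal.Quotient.eq_zero_iff_mem]
      exact Ideal.mem_map_of_mem _ ha)
  have hθ : ∀ a, θ (Ideal.Quotient.mk I₀ a) = Ideal.Quotient.mk J₁ (Ideal.Quotient.mk I₁ a) :=
    fun a => rfl
  have hθinj : ∀ a a', θ (Ideal.Quotient.mk I₀ a) = Ideal.Quotient.mk J₁ (Ideal.Quotient.mk I₁ a') →
      Ideal.Quotient.mk I₀ a = Ideal.Quotient.mk I₀ a' := by
    intro a a' h
    rw [hθ, ← sub_eq_zero, ← map_sub, ← map_sub, Ideal.Quotient.eq_zero_iff_mem, hJ₁,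
      Ideal.mem_map_iff_of_surjective _ Ideal.Quotient.mk_surjective] at h
    obtain ⟨b, hb, hba⟩ := h
    rw [Ideal.Quotient.eq]
    have h1 : b - (a - a') ∈ I₁ := by
      rw [← Ideal.Quotient.eq_zero_iff_mem, map_sub, hba, sub_self]
    have := I₀.sub_mem hb (hI₁₀ h1)
    rwa [sub_sub_cancel] at this
  let ψ₁ : S →ₐ[R] (A ⧸ I₁) ⧸ J₁ := θ.comp χ₀
  have hψ₁ : ∀ s, ψ₁ s = θ (χ₀ s) := fun s => rfl
  -- χ₀ kills 𝔫^(k+k)
  have hχ₀k : ∀ x ∈ 𝔫 ^ (k + k), χ₀ x = 0 := by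
    apply map_pow_add_eq_zero_of_sq_zero χ₀.toRingHom 𝔫 (J.map (Ideal.Quotient.mk I₀)) ?_ k
    · intro x hx
      obtain ⟨a, ha⟩ := Ideal.Quotient.mk_surjective (χ₀ x)
      have h1 := hχ₀ x a ha.symm
      rw [hk x hx] at h1
      change χ₀ x ∈ _
      rw [← ha]
      exact Ideal.mem_map_of_mem _ (Ideal.Quotient.eq_zero_iff_mem.mp h1.symm)
    · rw [← Ideal.map_pow, hJ, Ideal.map_bot]
  have key : ∀ s (ã : A), Ideal.Quotient.mk J₁ (Ideal.Quotient.mk I₁ ã) = ψ₁ s →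
      ψ s = Ideal.Quotient.mk J ã := by
    intro s ã h
    obtain ⟨c, hc⟩ := Ideal.Quotient.mk_surjective (χ₀ s)
    rw [hψ₁, ← hc] at h
    have h2 := hθinj c ã h.symm
    exact hχ₀ s ã (by rw [← hc, h2])
  obtain ⟨χ₁, hχ₁⟩ := G (A ⧸ I₁) J₁ ψ₁ (k + k) hJ₁sq
    (fun x hx => by rw [hψ₁, hχ₀k x hx, map_zero]) (by
      intro s hs a₁ ha₁ j hj
      obtain ⟨ã, rfl⟩ := Ideal.Quotient.mk_surjective a₁
      rw [hJ₁, Ideal.mem_map_iff_of_surjective _ Ideal.Quotient.mk_surjective] at hj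
      obtain ⟨j', hj', rfl⟩ := hj
      have h1 := key s ã ha₁
      have hã : ã ∈ 𝔞 := by
        rw [h𝔞, Ideal.mem_comap, ← h1]
        exact Ideal.mem_map_of_mem _ hs
      rw [← map_mul, Ideal.Quotient.eq_zero_iff_mem]
      exact Ideal.mul_mem_mul hã hj')
  refine ⟨χ₁, ?_⟩
  intro s a ha
  apply key s a
  have := congrArg (fun f : S →ₐ[R] (A ⧸ I₁) ⧸ J₁ => f s) hχ₁
  simp only [AlgHom.comp_apply] at this
  rw [← this, ha]
  rfl

/-- The filtration `J ⊇ 𝔞 J ⊇ 𝔞² J ⊇ ⋯`. -/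
def filt {A : Type u} [CommRing A] (𝔞 J : Ideal A) : ℕ → Ideal A
  | 0 => J
  | (i + 1) => 𝔞 * filt 𝔞 J i

theorem filt_eq {A : Type u} [CommRing A] (𝔞 J : Ideal A) (i : ℕ) : filt 𝔞 J i = 𝔞 ^ i * J := by
  induction i with
  | zero => rw [pow_zero, Ideal.one_eq_top, Ideal.top_mul]; rfl
  | succ i ih => rw [pow_succ', mul_assoc, ← ih]; rfl

theorem filt_le {A : Type u} [CommRing A] (𝔞 J : Ideal A) (i : ℕ) : filt 𝔞 J i ≤ J := by
  rw [filt_eq]; exact Ideal.mul_le_right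

theorem isAdicFormallySmooth_of_gtl (𝔫 : Ideal S)
    (G : ∀ (A : Type u) [CommRing A] [Algebra R A] (J : Ideal A) (ψ : S →ₐ[R] A ⧸ J) (k : ℕ),
      J ^ 2 = ⊥ → (∀ x ∈ 𝔫 ^ k, ψ x = 0) →
      (∀ s ∈ 𝔫, ∀ a : A, Ideal.Quotient.mk J a = ψ s → ∀ j ∈ J, a * j = 0) →
      ∃ χ : S →ₐ[R] A, (Ideal.Quotient.mkₐ R J).comp χ = ψ) :
    CAlgX.IsAdicFormallySmooth R S 𝔫 := by
  intro A _ _ J hJ ψ hk
  obtain ⟨k, hk⟩ := hk
  have h𝔞k : (Ideal.comap (Ideal.Quotient.mk J) (𝔫.map ψ.toRingHom)) ^ k ≤ J := by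
    refine (Ideal.le_comap_pow _ k).trans ?_
    rw [← Ideal.map_pow]
    have : (𝔫 ^ k).map ψ.toRingHom = ⊥ := by
      rw [eq_bot_iff, Ideal.map_le_iff_le_comap]
      intro x hx
      rw [Ideal.mem_comap, Ideal.mem_bot]
      exact hk x hx
    rw [this]
    intro x hx
    rw [Ideal.mem_comap, Ideal.mem_bot] at hx
    exact Ideal.Quotient.eq_zero_iff_mem.mp hx
  have claim : ∀ i : ℕ, ∃ χ : S →ₐ[R] A ⧸
      filt (Ideal.comap (Ideal.Quotient.mk J) (𝔫.map ψ.toRingHom)) J i,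
      ∀ s a, χ s = Ideal.Quotient.mk _ a → ψ s = Ideal.Quotient.mk J a := by
    intro i
    induction i with
    | zero => exact ⟨ψ, fun s a ha => ha⟩
    | succ i ih =>
      obtain ⟨χ₀, hχ₀⟩ := ih
      exact filtration_step 𝔫 G A J hJ ψ k hk _ (filt_le _ J i) χ₀ hχ₀
  obtain ⟨χk, hχk⟩ := claim k
  have hIk : filt (Ideal.comap (Ideal.Quotient.mk J) (𝔫.map ψ.toRingHom)) J k = ⊥ := by
    rw [filt_eq, eq_bot_iff, ← hJ, pow_two]
    exact Ideal.mul_mono_left h𝔞k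
  have hbij : Function.Bijective (Ideal.Quotient.mkₐ R
      (filt (Ideal.comap (Ideal.Quotient.mk J) (𝔫.map ψ.toRingHom)) J k)) := by
    constructor
    · rw [injective_iff_map_eq_zero]
      intro a ha
      have : a ∈ filt (Ideal.comap (Ideal.Quotient.mk J) (𝔫.map ψ.toRingHom)) J k :=
        Ideal.Quotient.eq_zero_iff_mem.mp ha
      rw [hIk] at this
      exact this
    · exact Ideal.Quotient.mkₐ_surjective R _
  let e := AlgEquiv.ofBijective _ hbij
  refine ⟨(e.symm : _ →ₐ[R] A).comp χk, ?_⟩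
  ext s
  have h1 : χk s = Ideal.Quotient.mk _ (e.symm (χk s)) := (e.apply_symm_apply (χk s)).symm
  exact (hχk s _ h1).symm

end Filtration


end Groth.Agent.H46
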