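import Groth.Prelude.Def_CAlgX
import Mathlib.RingTheory.AdicCompletion.Algebra
import Mathlib.RingTheory.AdicCompletion.Completeness
import Mathlib.RingTheory.Ideal.Quotient.Operations

set_option autoImplicit false
set_option linter.style.haveILetI false
universe u

namespace Groth.Agent.H46

open AdicCompletion

/-- For a finitely generated ideal, the kernel of `Ŝ → S/I^n` is the extension of `I^n`. -/
theorem ker_evalₐ_eq_map {R : Type*} [CommRing R] (I : Ideal R) (fg : I.FG) (n : ℕ) :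
    RingHom.ker (evalₐ I n).toRingHom = (I ^ n).map (algebraMap R (AdicCompletion I R)) := by
  ext x
  trans x ∈ (AdicCompletion.eval I R n).ker
  · have eq : I ^ n * ⊤ = I ^ n := by simp
    have : Function.Injective (Ideal.Quotient.factor ((le_of_eq eq))) := by
      simpa [RingHom.injective_iff_ker_eq_bot, Ideal.Quotient.factor_ker]
        using Ideal.map_mk_eq_bot_of_le (le_of_eq eq.symm)
    simpa [← factor_eval_eq_evalₐ] using map_eq_zero_iff _ this
  · simp [← pow_smul_top_eq_ker_eval fg]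

/-- A ring map into `A` sending `𝔫^k` into a square-zero ideal `J` kills `𝔫^(k+k)`. -/
theorem map_pow_add_eq_zero_of_sq_zero {S A : Type*} [CommRing S] [CommRing A] (χ : S →+* A)
    (𝔫 : Ideal S) (J : Ideal A) (hJ : J ^ 2 = ⊥) (k : ℕ) (h : ∀ x ∈ 𝔫 ^ k, χ x ∈ J) :
    ∀ x ∈ 𝔫 ^ (k + k), χ x = 0 := by
  intro x hx
  rw [pow_add] at hx
  refine Submodule.mul_induction_on hx ?_ ?_
  · intro a ha b hb
    have : χ a * χ b ∈ J ^ 2 := by
      rw [pow_two]; exact Ideal.mul_mem_mul (h a ha) (h b hb)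
    rw [hJ] at this
    rw [map_mul]; exact this
  · intro a b ha hb
    rw [map_add, ha, hb, add_zero]


theorem ringHom_ext_of_adicCompletion {R X : Type*} [CommRing R] [CommRing X] (𝔪 : Ideal R)
    (h𝔪 : 𝔪.FG) (N : ℕ) (f g : AdicCompletion 𝔪 R →+* X)
    (hfg : f.comp (algebraMap R (AdicCompletion 𝔪 R)) = g.comp (algebraMap R (AdicCompletion 𝔪 R)))
    (hf : ∀ x ∈ (𝔪 ^ N).map (algebraMap R (AdicCompletion 𝔪 R)), f x = 0)
    (hg : ∀ x ∈ (𝔪 ^ N).map (algebraMap R (AdicCompletion 𝔪 R)), g x = 0) : f = g := by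
  ext x
  obtain ⟨r, hr⟩ := Ideal.Quotient.mk_surjective (evalₐ 𝔪 N x)
  have h1 : x - algebraMap R _ r ∈ RingHom.ker (evalₐ 𝔪 N).toRingHom := by
    rw [RingHom.mem_ker]
    change evalₐ 𝔪 N (x - algebraMap R _ r) = 0
    rw [map_sub, ← hr, AdicCompletion.algebraMap_apply, evalₐ_of, Algebra.algebraMap_self,
      RingHom.id_apply, sub_self]
  rw [ker_evalₐ_eq_map 𝔪 h𝔪] at h1
  have e1 := hf _ h1
  have e2 := hg _ h1
  rw [map_sub, sub_eq_zero] at e1 e2
  rw [e1, e2]
  exact congrArg (fun φ : R →+* X => φ r) hfg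

theorem isAdicFormallySmooth_iff_completion_base {R T : Type u} [CommRing R] [CommRing T]
    [Algebra R T] (𝔪 : Ideal R) (h𝔪 : 𝔪.FG) (𝔑 : Ideal T) (c : ℕ)
    (hc : (𝔪 ^ c).map (algebraMap R T) ≤ 𝔑)
    (ψ : AdicCompletion 𝔪 R →+* T)
    (hψ : ψ.comp (algebraMap R (AdicCompletion 𝔪 R)) = algebraMap R T) :
    CAlgX.IsAdicFormallySmooth R T 𝔑 ↔
      @CAlgX.IsAdicFormallySmooth (AdicCompletion 𝔪 R) _ T _ ψ.toAlgebra 𝔑 := by
  set ι := algebraMap R (AdicCompletion 𝔪 R) with hι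
  set 𝔞 : Ideal (AdicCompletion 𝔪 R) := (𝔪 ^ c).map ι with h𝔞
  have hψι : ∀ r, ψ (ι r) = algebraMap R T r := fun r => congrArg (fun φ : R →+* T => φ r) hψ
  have h𝔞map : 𝔞.map ψ ≤ 𝔑 := by
    rw [h𝔞, Ideal.map_map, hψ]; exact hc
  have hψ𝔞 : ∀ k : ℕ, ∀ x ∈ 𝔞 ^ k, ψ x ∈ 𝔑 ^ k := by
    intro k x hx
    have : ψ x ∈ (𝔞 ^ k).map ψ := Ideal.mem_map_of_mem _ hx
    rw [Ideal.map_pow] at this
    exact Ideal.pow_right_mono h𝔞map k this
  have h𝔞pow : ∀ n : ℕ, (𝔪 ^ (c * n)).map ι = 𝔞 ^ n := by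
    intro n
    rw [h𝔞, ← Ideal.map_pow, pow_mul]
  constructor
  · intro h
    letI algT : Algebra (AdicCompletion 𝔪 R) T := ψ.toAlgebra
    intro A _ _ J hJ ψ' hk
    obtain ⟨k, hk⟩ := hk
    letI algA : Algebra R A := ((algebraMap (AdicCompletion 𝔪 R) A).comp ι).toAlgebra
    have hcomm : ∀ r : R, ψ' (algebraMap R T r) = algebraMap R (A ⧸ J) r := by
      intro r
      rw [← hψι]
      exact ψ'.commutes (ι r)
    let ψR : T →ₐ[R] A ⧸ J := { ψ'.toRingHom with commutes' := hcomm }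
    have hψR : ∀ t, ψR t = ψ' t := fun t => rfl
    obtain ⟨χ, hχ⟩ := h A J hJ ψR ⟨k, hk⟩
    have hχ' : ∀ t, Ideal.Quotient.mk J (χ t) = ψ' t := by
      intro t
      exact congrArg (fun f : T →ₐ[R] A ⧸ J => f t) hχ
    have hχψ : χ.toRingHom.comp ψ = algebraMap (AdicCompletion 𝔪 R) A := by
      apply ringHom_ext_of_adicCompletion 𝔪 h𝔪 (c * (k + k))
      · ext r
        simp only [RingHom.comp_apply]
        rw [hψι]
        exact χ.commutes r
      · rw [h𝔞pow]
        apply map_pow_add_eq_zero_of_sq_zero _ 𝔞 J hJ k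
        intro x hx
        rw [← Ideal.Quotient.eq_zero_iff_mem]
        change Ideal.Quotient.mk J (χ (ψ x)) = 0
        rw [hχ']
        exact hk _ (hψ𝔞 k x hx)
      · rw [h𝔞pow]
        apply map_pow_add_eq_zero_of_sq_zero _ 𝔞 J hJ k
        intro x hx
        rw [← Ideal.Quotient.eq_zero_iff_mem]
        have : Ideal.Quotient.mk J (algebraMap (AdicCompletion 𝔪 R) A x) = ψ' (ψ x) :=
          (ψ'.commutes x).symm
        rw [this]
        exact hk _ (hψ𝔞 k x hx)
    let χ' : T →ₐ[AdicCompletion 𝔪 R] A :=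
      { χ.toRingHom with
        commutes' := fun x => congrArg (fun φ : AdicCompletion 𝔪 R →+* A => φ x) hχψ }
    refine ⟨χ', ?_⟩
    ext t
    exact hχ' t
  · intro h A _ _ J hJ ψ' hk
    obtain ⟨k, hk⟩ := hk
    letI algT : Algebra (AdicCompletion 𝔪 R) T := ψ.toAlgebra
    have hR : ∀ r ∈ 𝔪 ^ (c * (k + k)), algebraMap R A r = 0 := by
      rw [pow_mul]
      apply map_pow_add_eq_zero_of_sq_zero _ (𝔪 ^ c) J hJ k
      intro r hr
      rw [← Ideal.Quotient.eq_zero_iff_mem]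
      have : Ideal.Quotient.mk J (algebraMap R A r) = ψ' (algebraMap R T r) :=
        (ψ'.commutes r).symm
      rw [this]
      apply hk
      have : algebraMap R T r ∈ ((𝔪 ^ c) ^ k).map (algebraMap R T) := Ideal.mem_map_of_mem _ hr
      rw [Ideal.map_pow] at this
      exact Ideal.pow_right_mono hc k this
    let φ : AdicCompletion 𝔪 R →+* A :=
      (Ideal.Quotient.lift (𝔪 ^ (c * (k + k))) (algebraMap R A) hR).comp
        (evalₐ 𝔪 (c * (k + k))).toRingHom
    have hφι : ∀ r, φ (ι r) = algebraMap R A r := by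
      intro r
      change Ideal.Quotient.lift (𝔪 ^ (c * (k + k))) (algebraMap R A) hR
        (evalₐ 𝔪 (c * (k + k)) (algebraMap R _ r)) = _
      rw [AdicCompletion.algebraMap_apply, evalₐ_of, Algebra.algebraMap_self, RingHom.id_apply]
      rfl
    letI algA' : Algebra (AdicCompletion 𝔪 R) A := φ.toAlgebra
    have hcomm : ψ'.toRingHom.comp ψ = (Ideal.Quotient.mk J).comp φ := by
      apply ringHom_ext_of_adicCompletion 𝔪 h𝔪 (c * (k + k))
      · ext r
        simp only [RingHom.comp_apply]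
        rw [hψι, hφι]
        exact ψ'.commutes r
      · rw [h𝔞pow]
        intro x hx
        exact hk _ (Ideal.pow_le_pow_right (Nat.le_add_right k k) (hψ𝔞 _ x hx))
      · rw [← ker_evalₐ_eq_map 𝔪 h𝔪]
        intro x hx
        have hx' : evalₐ 𝔪 (c * (k + k)) x = 0 := hx
        change Ideal.Quotient.mk J (Ideal.Quotient.lift (𝔪 ^ (c * (k + k))) (algebraMap R A) hR
          (evalₐ 𝔪 (c * (k + k)) x)) = 0
        rw [hx', _root_.map_zero, _root_.map_zero]
    let ψ'' : T →ₐ[AdicCompletion 𝔪 R] A ⧸ J :=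
      { ψ'.toRingHom with
        commutes' := fun x => congrArg (fun f : AdicCompletion 𝔪 R →+* A ⧸ J => f x) hcomm }
    obtain ⟨χ, hχ⟩ := h A J hJ ψ'' ⟨k, hk⟩
    have hχ' : ∀ t, Ideal.Quotient.mk J (χ t) = ψ' t := by
      intro t
      exact congrArg (fun f : T →ₐ[AdicCompletion 𝔪 R] A ⧸ J => f t) hχ
    let χR : T →ₐ[R] A :=
      { χ.toRingHom with
        commutes' := fun r => by
          change χ (algebraMap R T r) = algebraMap R A r
          rw [← hψι, ← hφι]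
          exact χ.commutes (ι r) }
    refine ⟨χR, ?_⟩
    ext t
    exact hχ' t

end Groth.Agent.H46
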