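import Groth.Prelude.Def_CAlgX
import Groth.Agent.S9318
import Mathlib.RingTheory.Smooth.Field
import Mathlib.Algebra.Algebra.Rat
import Mathlib.RingTheory.Smooth.Basic
import Mathlib.RingTheory.MvPowerSeries.Equiv
import Mathlib.RingTheory.MvPowerSeries.Inverse
import Mathlib.RingTheory.AdicCompletion.Completeness

set_option autoImplicit false
set_option linter.style.haveILetI false
universe u

namespace Groth.Agent.H46


theorem isAdicFormallySmooth_of_formallySmooth {R S : Type u} [CommRing R] [CommRing S]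
    [Algebra R S] [Algebra.FormallySmooth R S] (𝔫 : Ideal S) :
    CAlgX.IsAdicFormallySmooth R S 𝔫 := by
  intro A _ _ J hJ ψ _
  exact Algebra.FormallySmooth.comp_surjective R S J hJ ψ

theorem isAdicFormallySmooth_mono {R S : Type u} [CommRing R] [CommRing S]
    [Algebra R S] {𝔫 𝔫' : Ideal S} (h : 𝔫 ≤ 𝔫') (H : CAlgX.IsAdicFormallySmooth R S 𝔫) :
    CAlgX.IsAdicFormallySmooth R S 𝔫' := by
  intro A _ _ J hJ ψ hk
  obtain ⟨k, hk⟩ := hk
  exact H A J hJ ψ ⟨k, fun x hx => hk x (Ideal.pow_right_mono h k hx)⟩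

theorem isAdicFormallySmooth_of_algEquiv {R S S' : Type u} [CommRing R] [CommRing S] [CommRing S']
    [Algebra R S] [Algebra R S'] (e : S ≃ₐ[R] S') {𝔫 : Ideal S} {𝔫' : Ideal S'}
    (h : 𝔫'.map (e.symm : S' →+* S) ≤ 𝔫) (H : CAlgX.IsAdicFormallySmooth R S' 𝔫') :
    CAlgX.IsAdicFormallySmooth R S 𝔫 := by
  intro A _ _ J hJ ψ hk
  obtain ⟨k, hk⟩ := hk
  obtain ⟨χ', hχ'⟩ := H A J hJ (ψ.comp (e.symm : S' →ₐ[R] S)) ⟨k, by
    intro x hx
    apply hk
    have : (e.symm : S' →+* S) x ∈ (𝔫' ^ k).map (e.symm : S' →+* S) := Ideal.mem_map_of_mem _ hx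
    rw [Ideal.map_pow] at this
    exact Ideal.pow_right_mono h k this⟩
  refine ⟨χ'.comp (e : S →ₐ[R] S'), ?_⟩
  rw [← AlgHom.comp_assoc, hχ']
  ext s
  simp

theorem formallySmooth_rat_of_charZero (K : Type) [Field K] [CharZero K] :
    Algebra.FormallySmooth ℚ K := by
  obtain ⟨s, hs⟩ := exists_isTranscendenceBasis ℚ K
  have halg := hs.isAlgebraic_field
  have : Algebra.IsSeparable (IntermediateField.adjoin ℚ (Set.range ((↑) : s → K))) K :=
    Algebra.IsAlgebraic.isSeparable_of_perfectField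
  exact Algebra.FormallySmooth.of_algebraicIndependent_of_isSeparable hs.1

open MvPowerSeries in
theorem isAdicFormallySmooth_mvPowerSeries (R₀ K : Type u) [CommRing R₀] [CommRing K]
    [Algebra R₀ K] [Algebra.FormallySmooth R₀ K] (n : ℕ) :
    CAlgX.IsAdicFormallySmooth R₀ (MvPowerSeries (Fin n) K)
      (Ideal.span (Set.range (MvPowerSeries.X : Fin n → MvPowerSeries (Fin n) K))) := by
  have hfg := MvPolynomial.idealOfVars_fg (Fin n) K
  haveI : Algebra.FormallySmooth R₀ (MvPolynomial (Fin n) K) :=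
    Algebra.FormallySmooth.comp R₀ K (MvPolynomial (Fin n) K)
  have h1 : CAlgX.IsAdicFormallySmooth R₀ (MvPolynomial (Fin n) K)
      (MvPolynomial.idealOfVars (Fin n) K) := isAdicFormallySmooth_of_formallySmooth _
  have h2 := (Groth.Agent.S9318.result (R := R₀) (MvPolynomial.idealOfVars (Fin n) K) hfg).mp h1
  let e₀ := toAdicCompletionAlgEquiv (Fin n) K
  have hcoe : ∀ p : MvPolynomial (Fin n) K, e₀ (p : MvPowerSeries (Fin n) K) =
      algebraMap (MvPolynomial (Fin n) K) _ p := by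
    intro p
    rw [toAdicCompletionAlgEquiv_apply, toAdicCompletion_coe]
    rfl
  let e : MvPowerSeries (Fin n) K ≃ₐ[R₀]
      AdicCompletion (MvPolynomial.idealOfVars (Fin n) K) (MvPolynomial (Fin n) K) :=
    AlgEquiv.ofRingEquiv (f := e₀.toRingEquiv) (by
      intro r
      have : algebraMap R₀ (MvPowerSeries (Fin n) K) r =
          ((algebraMap R₀ (MvPolynomial (Fin n) K) r : MvPolynomial (Fin n) K) :
            MvPowerSeries (Fin n) K) := by
        rw [MvPowerSeries.algebraMap_apply, MvPolynomial.algebraMap_apply, MvPolynomial.coe_C]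
      rw [this]
      exact hcoe _)
  apply isAdicFormallySmooth_of_algEquiv e ?_ h2
  rw [Ideal.map_map, Ideal.map_span, Ideal.span_le]
  rintro _ ⟨_, ⟨i, rfl⟩, rfl⟩
  apply Ideal.subset_span
  refine ⟨i, ?_⟩
  have h3 : e.symm (algebraMap (MvPolynomial (Fin n) K) _ (MvPolynomial.X i)) =
      ((MvPolynomial.X i : MvPolynomial (Fin n) K) : MvPowerSeries (Fin n) K) := by
    rw [← hcoe]
    exact e.symm_apply_apply _
  rw [MvPolynomial.coe_X] at h3
  exact h3.symm


/-- The variables lie in the maximal ideal of a power series ring over a field. -/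
theorem span_X_le_maximalIdeal (K : Type u) [Field K] (n : ℕ) :
    Ideal.span (Set.range (MvPowerSeries.X : Fin n → MvPowerSeries (Fin n) K)) ≤
      IsLocalRing.maximalIdeal (MvPowerSeries (Fin n) K) := by
  rw [Ideal.span_le]
  rintro _ ⟨i, rfl⟩
  change MvPowerSeries.X i ∈ IsLocalRing.maximalIdeal (MvPowerSeries (Fin n) K)
  rw [IsLocalRing.mem_maximalIdeal, mem_nonunits_iff, MvPowerSeries.isUnit_iff_constantCoeff,
    MvPowerSeries.constantCoeff_X]
  exact not_isUnit_zero

end Groth.Agent.H46
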