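import Mathlib
import Groth.Agent.Lead.RegularLocal3

/-!
# Regularity of quotients via derivations
-/

open IsLocalRing Polynomial

namespace Groth.Agent.H46

universe u

/-- The quotient of a regular local ring by an element of `m ∖ m²` is regular. -/
theorem isRegularLocalRing_quotient_of_not_mem_sq (A : Type u) [CommRing A] [IsRegularLocalRing A]
    (a : A) (ha : a ∈ maximalIdeal A) (ha2 : a ∉ maximalIdeal A ^ 2) :
    IsRegularLocalRing (A ⧸ Ideal.span {a}) := by
  obtain ⟨t, ht, hspan⟩ := Groth.Agent.Lead.RLR.exists_finset_span_insert A a ha ha2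
  exact (Groth.Agent.Lead.RLR.quotient_regular A a t hspan ht.le).1

/-- A derivation maps `P ^ 2` into `P`. -/
theorem derivation_mem_of_mem_sq {R : Type u} [CommRing R] (D : Derivation ℤ R R) (P : Ideal R)
    {x : R} (hx : x ∈ P ^ 2) : D x ∈ P := by
  rw [pow_two] at hx
  refine Submodule.mul_induction_on hx ?_ ?_
  · intro a ha b hb
    rw [D.leibniz, smul_eq_mul, smul_eq_mul]
    exact P.add_mem (P.mul_mem_right _ ha) (P.mul_mem_right _ hb)
  · intro a b ha hb
    rw [map_add]
    exact P.add_mem ha hb

/-- Localization of a quotient at a prime, as a quotient of the localization. -/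
theorem isRegularLocalRing_localization_quotient {R : Type u} [CommRing R] (I : Ideal R)
    (𝔭 : Ideal (R ⧸ I)) [𝔭.IsPrime]
    (h : IsRegularLocalRing (Localization.AtPrime (𝔭.comap (Ideal.Quotient.mk I)) ⧸
      I.map (algebraMap R (Localization.AtPrime (𝔭.comap (Ideal.Quotient.mk I)))))) :
    IsRegularLocalRing (Localization.AtPrime 𝔭) := by
  set P := 𝔭.comap (Ideal.Quotient.mk I) with hP
  have hsub : Algebra.algebraMapSubmonoid (R ⧸ I) P.primeCompl = 𝔭.primeCompl := by
    ext x
    constructor
    · rintro ⟨y, hy, rfl⟩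
      exact hy
    · intro hx
      obtain ⟨y, rfl⟩ := Ideal.Quotient.mk_surjective x
      exact ⟨y, hx, rfl⟩
  have hloc : IsLocalization (Algebra.algebraMapSubmonoid (R ⧸ I) P.primeCompl)
      (Localization.AtPrime P ⧸ I.map (algebraMap R (Localization.AtPrime P))) := inferInstance
  rw [hsub] at hloc
  let e : Localization.AtPrime 𝔭 ≃ₐ[R ⧸ I]
      (Localization.AtPrime P ⧸ I.map (algebraMap R (Localization.AtPrime P))) :=
    IsLocalization.algEquiv 𝔭.primeCompl _ _
  exact IsRegularLocalRing.of_ringEquiv e.toRingEquiv.symm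

theorem isRegularLocalRing_localization_quotient_of_derivation (R : Type u) [CommRing R]
    [IsRegularRing R] (f : R) (D : Derivation ℤ R R) (P : Ideal R) [hPprime : P.IsPrime]
    (hfP : f ∈ P) (hDf : D f ∉ P) :
    IsRegularLocalRing (Localization.AtPrime P ⧸
      (Ideal.span {f}).map (algebraMap R (Localization.AtPrime P))) := by
  have e1 : (Ideal.span {f}).map (algebraMap R (Localization.AtPrime P)) =
      Ideal.span {algebraMap R (Localization.AtPrime P) f} := by
    rw [Ideal.map_span, Set.image_singleton]
  rw [e1]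
  apply isRegularLocalRing_quotient_of_not_mem_sq
  · exact (IsLocalization.AtPrime.to_map_mem_maximal_iff (Localization.AtPrime P) P f).mpr hfP
  · intro hmem
    rw [← Localization.AtPrime.map_eq_maximalIdeal, ← Ideal.map_pow,
      IsLocalization.algebraMap_mem_map_algebraMap_iff P.primeCompl] at hmem
    obtain ⟨s, hs, hsf⟩ := hmem
    have h2 := derivation_mem_of_mem_sq D P hsf
    rw [D.leibniz, smul_eq_mul, smul_eq_mul] at h2
    have h3 : s * D f ∈ P := by
      have h4 : f * D s ∈ P := P.mul_mem_right _ hfP
      exact (Ideal.add_mem_iff_left P h4).mp h2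
    rcases hPprime.mem_or_mem h3 with h5 | h5
    · exact hs h5
    · exact hDf h5

/-- If `R` is regular and `D f` is a unit modulo `f` for a derivation `D`, then `R/(f)` is
regular. -/
theorem isRegularRing_quotient_of_derivation (R : Type u) [CommRing R] [IsRegularRing R]
    (f : R) (D : Derivation ℤ R R)
    (hD : IsUnit (Ideal.Quotient.mk (Ideal.span {f}) (D f))) :
    IsRegularRing (R ⧸ Ideal.span ({f} : Set R)) := by
  rw [isRegularRing_iff]
  intro 𝔭 h𝔭
  refine isRegularLocalRing_localization_quotient (Ideal.span {f}) 𝔭 ?_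
  have hPprime : (𝔭.comap (Ideal.Quotient.mk (Ideal.span {f}))).IsPrime := Ideal.comap_isPrime _ _
  have hfP : f ∈ 𝔭.comap (Ideal.Quotient.mk (Ideal.span {f})) := by
    rw [Ideal.mem_comap]
    have : Ideal.Quotient.mk (Ideal.span {f}) f = 0 :=
      Ideal.Quotient.eq_zero_iff_mem.mpr (Ideal.subset_span rfl)
    rw [this]
    exact 𝔭.zero_mem
  have hDf : D f ∉ 𝔭.comap (Ideal.Quotient.mk (Ideal.span {f})) := by
    intro hmem
    have h1 : Ideal.Quotient.mk (Ideal.span {f}) (D f) ∈ 𝔭 := hmem
    exact h𝔭.ne_top (Ideal.eq_top_of_isUnit_mem _ h1 hD)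
  exact isRegularLocalRing_localization_quotient_of_derivation R f D _ hfP hDf

/-- Coefficientwise extension of a derivation of `R` to `R[X]`. -/
noncomputable def polyDer {R : Type u} [CommRing R] (D : Derivation ℤ R R) :
    Derivation ℤ R[X] R[X] :=
  (PolynomialModule.equivPolynomialSelf (R := R)).toLinearMap.compDer D.mapCoeffs

theorem polyDer_coeff {R : Type u} [CommRing R] (D : Derivation ℤ R R) (q : R[X]) (i : ℕ) :
    (polyDer D q).coeff i = D (q.coeff i) := by
  induction q using Polynomial.induction_on' with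
  | add p q hp hq => rw [map_add, coeff_add, hp, hq, coeff_add, map_add]
  | monomial n a =>
    have : polyDer D (monomial n a) = monomial n (D a) := by
      simp [polyDer, PolynomialModule.equivPolynomialSelf_apply_eq]
    rw [this, coeff_monomial, coeff_monomial]
    split_ifs <;> simp


/-- `R[z]/(p(z) - f)` is regular for `p ∈ ℤ[z]` when `D f` is a unit. -/
theorem isRegularRing_polynomial_quotient_of_derivation (R : Type u) [CommRing R]
    [IsRegularRing R] (f : R) (D : Derivation ℤ R R) (hD : IsUnit (D f)) (p : Polynomial ℤ) :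
    IsRegularRing (Polynomial R ⧸
      Ideal.span ({Polynomial.map (Int.castRingHom R) p - Polynomial.C f} : Set (Polynomial R))) := by
  let D' : @Derivation ℤ R[X] R[X] _ _ _ (Ring.toIntAlgebra _) _ _ :=
    Derivation.mk' ((polyDer D).toLinearMap.toAddMonoidHom.toIntLinearMap)
      (fun a b => (polyDer D).leibniz a b)
  have hD' : ∀ q, D' q = polyDer D q := fun _ => rfl
  apply isRegularRing_quotient_of_derivation _ _ D'
  have h1 : D' (Polynomial.map (Int.castRingHom R) p - Polynomial.C f) =
      Polynomial.C (-(D f)) := by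
    rw [hD']
    ext i
    rw [polyDer_coeff, Polynomial.coeff_sub, Polynomial.coeff_map, map_sub, Polynomial.coeff_C,
      Polynomial.coeff_C]
    have h0 : D (Int.castRingHom R (p.coeff i)) = 0 := by
      have := D.map_algebraMap (p.coeff i)
      simp
    rw [h0, zero_sub]
    split_ifs <;> simp
  rw [h1]
  exact (hD.neg.map Polynomial.C).map _

end Groth.Agent.H46
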