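import Mathlib

/-!
# Embeddings of a residue field extension into the algebraic closure
-/

set_option autoImplicit false
universe u

namespace Groth.Agent.H46

section

variable {A κ L : Type u} [CommRing A] [Field κ] [Field L]
  (r : A →+* κ) (hr : Function.Surjective r) (t : A →+* L)
  (hker : RingHom.ker r ≤ RingHom.ker t) (ht : t.IsIntegral)

/-- The embeddings compatible with `A`. -/
abbrev EmbOver : Type u :=
  {σ : L →+* AlgebraicClosure κ // σ.comp t = (algebraMap κ (AlgebraicClosure κ)).comp r}

include hr hker ht in
theorem embOver_nonempty_and_subsingleton_iff :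
    Nonempty (EmbOver r t) ∧
      (Subsingleton (EmbOver r t) ↔ ∀ x : L, ∃ n : ℕ, x ^ (ringExpChar L) ^ n ∈ t.range) := by
  -- the map `κ → L`
  let ι : κ →+* L := RingHom.liftOfSurjective r hr ⟨t, hker⟩
  have hι : ∀ a, ι (r a) = t a := fun a => RingHom.liftOfSurjective_comp_apply r hr ⟨t, hker⟩ a
  let _ : Algebra κ L := ι.toAlgebra
  have halg : ∀ k : κ, algebraMap κ L k = ι k := fun k => rfl
  -- algebraic
  have hint : Algebra.IsAlgebraic κ L := by
    refine ⟨fun x => ?_⟩
    obtain ⟨p, hpm, hp⟩ := ht x
    refine IsIntegral.isAlgebraic ⟨p.map r, hpm.map r, ?_⟩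
    rw [Polynomial.eval₂_map]
    have : (algebraMap κ L).comp r = t := RingHom.ext fun a => hι a
    rw [this]
    exact hp
  -- the equivalence with algebra homs
  let e : EmbOver r t ≃ (L →ₐ[κ] AlgebraicClosure κ) :=
    { toFun := fun σ => { σ.1 with
        commutes' := fun k => by
          obtain ⟨a, rfl⟩ := hr k
          have := congrArg (fun φ => φ a) σ.2
          simp only [RingHom.comp_apply] at this
          simp only [RingHom.toMonoidHom_eq_coe, OneHom.toFun_eq_coe, MonoidHom.toOneHom_coe,
            MonoidHom.coe_coe, halg, hι]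
          exact this }
      invFun := fun φ => ⟨φ.toRingHom, by
        ext a
        simp only [RingHom.comp_apply]
        rw [← hι a, ← halg]
        exact φ.commutes (r a)⟩
      left_inv := fun σ => by
        apply Subtype.ext
        rfl
      right_inv := fun φ => by
        ext x
        rfl }
  have hne : Nonempty (L →ₐ[κ] AlgebraicClosure κ) := ⟨IsAlgClosed.lift⟩
  refine ⟨hne.map e.symm, ?_⟩
  rw [e.subsingleton_congr,
    ← (Field.embEquivOfIsAlgClosed κ L (AlgebraicClosure κ)).subsingleton_congr,
    ← isPurelyInseparable_iff_subsingleton_emb]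
  have hq : ExpChar κ (ringExpChar L) := ι.expChar ι.injective (ringExpChar L)
  rw [isPurelyInseparable_iff_pow_mem κ (ringExpChar L)]
  have hrange : (algebraMap κ L).range = t.range := by
    ext x
    constructor
    · rintro ⟨k, rfl⟩
      obtain ⟨a, rfl⟩ := hr k
      exact ⟨a, (hι a).symm⟩
    · rintro ⟨a, rfl⟩
      exact ⟨r a, hι a⟩
  rw [hrange]

end

end Groth.Agent.H46
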