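import Mathlib
import Groth.Prelude.Def_Brnch
import Groth.Agent.H46.GeomBranchField
import Groth.Agent.S9235

/-!
# `numGeomBranches A = 1` iff `A` is geometrically unibranch
-/

set_option autoImplicit false
universe u

namespace Groth.Agent.H46

section

variable (A : Type u) [CommRing A] [IsLocalRing A]

/-- The map `A → normRed A`. -/
noncomputable def toNormRed : A →+* CAlg2.normRed A :=
  (algebraMap (CAlg2.red A) (CAlg2.normRed A)).comp (Ideal.Quotient.mk (nilradical A))

omit [IsLocalRing A] in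
theorem toNormRed_isIntegral : (toNormRed A).IsIntegral := by
  have h1 : (Ideal.Quotient.mk (nilradical A)).IsIntegral :=
    RingHom.isIntegral_of_surjective _ Ideal.Quotient.mk_surjective
  have h2 : (algebraMap (CAlg2.red A) (CAlg2.normRed A)).IsIntegral :=
    algebraMap_isIntegral_iff.mpr inferInstance
  exact RingHom.IsIntegral.trans (Ideal.Quotient.mk (nilradical A))
    (algebraMap (CAlg2.red A) (CAlg2.normRed A)) h1 h2

omit [IsLocalRing A] in
theorem toResidue_eq (m' : MaximalSpectrum (CAlg2.normRed A)) :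
    Brnch.toResidue A m' = (Ideal.Quotient.mk m'.asIdeal).comp (toNormRed A) := rfl

omit [IsLocalRing A] in
theorem toResidue_isIntegral (m' : MaximalSpectrum (CAlg2.normRed A)) :
    (Brnch.toResidue A m').IsIntegral := by
  rw [toResidue_eq]
  intro x
  obtain ⟨y, rfl⟩ := Ideal.Quotient.mk_surjective x
  obtain ⟨p, hpm, hp⟩ := toNormRed_isIntegral A y
  refine ⟨p, hpm, ?_⟩
  rw [← Polynomial.hom_eval₂, hp, map_zero]

theorem ker_residue_le (m' : MaximalSpectrum (CAlg2.normRed A)) :
    RingHom.ker (IsLocalRing.residue A) ≤ RingHom.ker (Brnch.toResidue A m') := by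
  have := m'.isMaximal
  have hmax : (m'.asIdeal.comap (toNormRed A)).IsMaximal :=
    Ideal.isMaximal_comap_of_isIntegral_of_isMaximal' (toNormRed A) (toNormRed_isIntegral A)
      m'.asIdeal
  have heq : m'.asIdeal.comap (toNormRed A) = IsLocalRing.maximalIdeal A :=
    IsLocalRing.eq_maximalIdeal hmax
  rw [IsLocalRing.ker_residue, ← heq]
  intro a ha
  rw [RingHom.mem_ker, toResidue_eq, RingHom.comp_apply, Ideal.Quotient.eq_zero_iff_mem]
  exact ha

/-- Nonemptiness and the subsingleton criterion for `Brnch.Emb`. -/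
theorem emb_nonempty_and_subsingleton_iff (m' : MaximalSpectrum (CAlg2.normRed A)) :
    Nonempty (Brnch.Emb A m') ∧ (Subsingleton (Brnch.Emb A m') ↔
      ∀ x : CAlg2.normRed A ⧸ m'.asIdeal,
        ∃ n : ℕ, x ^ (ringExpChar (CAlg2.normRed A ⧸ m'.asIdeal)) ^ n ∈
          (Brnch.toResidue A m').range) := by
  have := m'.isMaximal
  let _ : Field (CAlg2.normRed A ⧸ m'.asIdeal) := Ideal.Quotient.field m'.asIdeal
  exact embOver_nonempty_and_subsingleton_iff (IsLocalRing.residue A) IsLocalRing.residue_surjective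
    (Brnch.toResidue A m') (ker_residue_le A m') (toResidue_isIntegral A m')

theorem numGeomBranches_eq_one_iff :
    Brnch.numGeomBranches A = 1 ↔ CAlg2.IsGeomUnibranch A := by
  classical
  constructor
  · intro h
    have hfin : (minimalPrimes A).Finite := by
      by_contra hcon
      unfold Brnch.numGeomBranches at h
      rw [if_neg hcon] at h
      exact ENat.top_ne_one h
    unfold Brnch.numGeomBranches at h
    rw [if_pos hfin, ENat.card_eq_one_iff_unique] at h
    obtain ⟨hU⟩ := h
    have hsub : Subsingleton (Σ m' : MaximalSpectrum (CAlg2.normRed A), Brnch.Emb A m') :=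
      hU.instSubsingleton
    have hMsub : Subsingleton (MaximalSpectrum (CAlg2.normRed A)) := by
      refine ⟨fun m₁ m₂ => ?_⟩
      obtain ⟨σ₁⟩ := (emb_nonempty_and_subsingleton_iff A m₁).1
      obtain ⟨σ₂⟩ := (emb_nonempty_and_subsingleton_iff A m₂).1
      exact congrArg Sigma.fst (Subsingleton.elim (⟨m₁, σ₁⟩ : Σ m', Brnch.Emb A m') ⟨m₂, σ₂⟩)
    have hMne : Nonempty (MaximalSpectrum (CAlg2.normRed A)) := ⟨hU.default.1⟩
    have hbr : Brnch.numBranches A = 1 := by
      unfold Brnch.numBranches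
      rw [if_pos hfin, ENat.card_eq_one_iff_unique]
      exact ⟨⟨⟨hMne.some⟩, fun a => Subsingleton.elim _ _⟩⟩
    refine ⟨(Groth.Agent.S9235.result A).mp hbr, ?_⟩
    intro m' hm'
    have hEsub : Subsingleton (Brnch.Emb A ⟨m', hm'⟩) := by
      refine ⟨fun σ₁ σ₂ => ?_⟩
      have := Subsingleton.elim
        (⟨⟨m', hm'⟩, σ₁⟩ : Σ m' : MaximalSpectrum (CAlg2.normRed A), Brnch.Emb A m')
        ⟨⟨m', hm'⟩, σ₂⟩
      exact eq_of_heq (Sigma.mk.inj this).2
    exact (emb_nonempty_and_subsingleton_iff A ⟨m', hm'⟩).2.mp hEsub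
  · rintro ⟨hU, hpow⟩
    have hbr := (Groth.Agent.S9235.result A).mpr hU
    have hfin : (minimalPrimes A).Finite := by
      by_contra hcon
      unfold Brnch.numBranches at hbr
      rw [if_neg hcon] at hbr
      exact ENat.top_ne_one hbr
    unfold Brnch.numBranches at hbr
    rw [if_pos hfin, ENat.card_eq_one_iff_unique] at hbr
    obtain ⟨hM⟩ := hbr
    unfold Brnch.numGeomBranches
    rw [if_pos hfin, ENat.card_eq_one_iff_unique]
    have hE : ∀ m' : MaximalSpectrum (CAlg2.normRed A), Subsingleton (Brnch.Emb A m') := by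
      intro m'
      have := m'.isMaximal
      exact (emb_nonempty_and_subsingleton_iff A m').2.mpr (hpow m'.asIdeal)
    obtain ⟨σ₀⟩ := (emb_nonempty_and_subsingleton_iff A hM.default).1
    refine ⟨⟨⟨⟨hM.default, σ₀⟩⟩, ?_⟩⟩
    rintro ⟨m', σ⟩
    have hm : m' = hM.default := hM.uniq m'
    subst hm
    have := hE hM.default
    rw [Subsingleton.elim σ σ₀]
    rfl

end

end Groth.Agent.H46
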