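import Mathlib
import Groth.Prelude.Def_DerCA

/-!
# Termwise localisation of complexes of modules and homology
-/

namespace Groth.Agent.H46

open CategoryTheory Limits

universe u

variable {R : Type u} [CommRing R]

instance preservesHomology_locFunctor (S : Submonoid R) :
    (DerCA.locFunctor S).PreservesHomology := by
  apply Functor.preservesHomology_of_map_exact
  intro X hX
  rw [ShortComplex.ShortExact.moduleCat_exact_iff_function_exact] at hX ⊢
  exact LocalizedModule.map_exact S X.f.hom X.g.hom hX

/-- Homology commutes with termwise localisation. -/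
noncomputable def locHomologyIso (S : Submonoid R) (K : DRing.Cx R) (q : ℤ) :
    ((DerCA.locCx S).obj K).homology q ≅ (DerCA.locFunctor S).obj (K.homology q) :=
  (K.sc q).mapHomologyIso (DerCA.locFunctor S)

end Groth.Agent.H46

namespace Groth.Agent.H46

open CategoryTheory Limits

universe u

variable {R : Type u} [CommRing R]

set_option backward.isDefEq.respectTransparency false in
theorem homologyMap_locCxUnit_eq (S : Submonoid R) (K : DRing.Cx R) (q : ℤ) :
    HomologicalComplex.homologyMap (DerCA.locCxUnit S K) q =
      ShortComplex.homologyMap ((K.sc q).mapNatTrans (DerCA.locUnit S)) := rfl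

theorem isLocalizedModule_homologyMap_mapNatTrans (S : Submonoid R)
    (X : ShortComplex (ModuleCat.{u} R)) :
    IsLocalizedModule S (ShortComplex.homologyMap (X.mapNatTrans (DerCA.locUnit S))).hom := by
  rw [ShortComplex.homologyMap_mapNatTrans]
  have h1 : Function.Bijective (X.mapHomologyIso (𝟭 (ModuleCat.{u} R))).hom.hom :=
    (ConcreteCategory.isIso_iff_bijective _).mp inferInstance
  have h2 : Function.Bijective (X.mapHomologyIso (DerCA.locFunctor S)).inv.hom :=
    (ConcreteCategory.isIso_iff_bijective _).mp inferInstance
  change IsLocalizedModule S ((X.mapHomologyIso (DerCA.locFunctor S)).inv.hom ∘ₗ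
    ((DerCA.locUnit S).app X.homology).hom ∘ₗ
      (X.mapHomologyIso (𝟭 (ModuleCat.{u} R))).hom.hom)
  refine (IsLocalizedModule.comp_iff_of_bijective_left S _ h2).mpr ?_
  refine (IsLocalizedModule.comp_iff_of_bijective_right S _ h1).mpr ?_
  exact (inferInstance : IsLocalizedModule S (LocalizedModule.mkLinearMap S X.homology))

set_option backward.isDefEq.respectTransparency false in
/-- The map induced on cohomology by the termwise localisation map is a localisation map. -/
theorem isLocalizedModule_homologyMap_locCxUnit (S : Submonoid R) (K : DRing.Cx R) (q : ℤ) :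
    IsLocalizedModule S (HomologicalComplex.homologyMap (DerCA.locCxUnit S K) q).hom :=
  isLocalizedModule_homologyMap_mapNatTrans S (K.sc q)

end Groth.Agent.H46
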