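import Mathlib
import Groth.Prelude.Def_DerCA
import Groth.Agent.H46.LocCxHomology

/-!
# The cohomology of the extended Čech complex is torsion
-/

namespace Groth.Agent.H46

open CategoryTheory Limits Pretriangulated

universe u

attribute [local instance] HasDerivedCategory.standard

variable {R : Type u} [CommRing R]

theorem extCech_homology_torsion (M : ModuleCat.{u} R) :
    ∀ (fs : List R) (f : R), f ∈ fs → ∀ (q : ℤ) (x : (DerCA.extCech M fs).homology q),
      ∃ n : ℕ, f ^ n • x = 0 := by
  intro fs
  induction fs with
  | nil => intro f hf; simp at hf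
  | cons g fs ih =>
    intro f hf q x
    set K := DerCA.extCech M fs with hK
    set φ := DerCA.locCxUnit (Submonoid.powers g) K with hφ
    change ((CochainComplex.mappingCocone φ).homology q : ModuleCat.{u} R) at x
    change ∃ n : ℕ, f ^ n • x = 0
    let T := CochainComplex.mappingCocone.triangle φ
    have hT : DerivedCategory.Q.mapTriangle.obj T ∈ distTriang _ :=
      DerivedCategory.mappingCocone_triangle_distinguished φ
    have ex1 := CochainComplex.homologyMap_exact₁_of_distTriang T hT (q - 1) q (by omega)
    have z2 := CochainComplex.homologyMap_comp_eq_zero_of_distTriang T hT q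
    have z3 := CochainComplex.homologyMap_homologyδOfTriangle T hT (q - 1) q (by omega)
    have hloc : ∀ j, IsLocalizedModule (Submonoid.powers g)
        (HomologicalComplex.homologyMap φ j).hom :=
      fun j => isLocalizedModule_homologyMap_locCxUnit _ K j
    rw [ShortComplex.ShortExact.moduleCat_exact_iff_function_exact] at ex1
    dsimp at ex1
    let δ : ((DerCA.locCx (Submonoid.powers g)).obj K).homology (q - 1) ⟶
        (CochainComplex.mappingCocone φ).homology q :=
      CochainComplex.homologyδOfTriangle T (q - 1) q (by omega)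
    let π : (CochainComplex.mappingCocone φ).homology q ⟶ K.homology q :=
      HomologicalComplex.homologyMap (CochainComplex.mappingCocone.fst φ) q
    have ex1' : ∀ x' : (CochainComplex.mappingCocone φ).homology q, π x' = 0 →
        ∃ z : ((DerCA.locCx (Submonoid.powers g)).obj K).homology (q - 1), δ z = x' := by
      intro x' hx'
      exact (ex1 x').mp hx'
    have z2' : ∀ x' : (CochainComplex.mappingCocone φ).homology q,
        HomologicalComplex.homologyMap φ q (π x') = 0 := by
      intro x'
      have := congrArg (fun m => m.hom x') z2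
      exact this
    have z3' : ∀ w : K.homology (q - 1),
        δ (HomologicalComplex.homologyMap φ (q - 1) w) = 0 := by
      intro w
      have := congrArg (fun m => m.hom w) z3
      exact this
    have hloc_tors : ∀ (j : ℤ) (z : ((DerCA.locCx (Submonoid.powers g)).obj K).homology j),
        ∃ (k : ℕ) (w : K.homology j), g ^ k • z = HomologicalComplex.homologyMap φ j w := by
      intro j z
      obtain ⟨⟨w, s⟩, hws⟩ := IsLocalizedModule.surj (Submonoid.powers g)
        (HomologicalComplex.homologyMap φ j).hom z
      obtain ⟨k, hk⟩ := s.2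
      refine ⟨k, w, ?_⟩
      have hk' : g ^ k = (s : R) := hk
      rw [hk']
      exact hws
    have hπsmul : ∀ (a : R) (x' : (CochainComplex.mappingCocone φ).homology q),
        π (a • x') = a • π x' := fun a x' => π.hom.map_smul a x'
    have hδsmul : ∀ (a : R) (z : ((DerCA.locCx (Submonoid.powers g)).obj K).homology (q - 1)),
        δ (a • z) = a • δ z := fun a z => δ.hom.map_smul a z
    rcases List.mem_cons.mp hf with rfl | hf'
    · -- `f = g`
      obtain ⟨c, hc⟩ := IsLocalizedModule.exists_of_eq (S := Submonoid.powers f)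
        (f := (HomologicalComplex.homologyMap φ q).hom) (x₁ := π x) (x₂ := 0)
        (by rw [map_zero]; exact z2' x)
      obtain ⟨n, hn⟩ := c.2
      have hn'' : f ^ n = (c : R) := hn
      have hn' : f ^ n • π x = 0 := by
        rw [hn'']
        have hc' : (c : R) • π x = (c : R) • (0 : K.homology q) := hc
        rw [smul_zero] at hc'
        exact hc'
      obtain ⟨z, hz⟩ := ex1' (f ^ n • x) (by rw [hπsmul]; exact hn')
      obtain ⟨k, w, hw⟩ := hloc_tors (q - 1) z
      refine ⟨k + n, ?_⟩
      rw [pow_add, mul_smul, ← hz, ← hδsmul, hw]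
      exact z3' w
    · -- `f ∈ fs`
      obtain ⟨n, hn⟩ := ih f hf' q (π x)
      obtain ⟨z, hz⟩ := ex1' (f ^ n • x) (by rw [hπsmul]; exact hn)
      obtain ⟨k, w, hw⟩ := hloc_tors (q - 1) z
      obtain ⟨m, hm⟩ := ih f hf' (q - 1) w
      have h2 : g ^ k • (f ^ m • z) = 0 := by
        rw [smul_comm, hw, ← map_smul, hm, map_zero]
      have h3 : f ^ m • z = 0 := by
        have := (IsLocalizedModule.smul_inj (HomologicalComplex.homologyMap φ (q - 1)).hom
          (⟨g ^ k, k, rfl⟩ : Submonoid.powers g) (f ^ m • z) 0).mp (by
            rw [smul_zero]; exact h2)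
        exact this
      refine ⟨m + n, ?_⟩
      rw [pow_add, mul_smul, ← hz, ← hδsmul, h3, map_zero]

theorem exists_uniform_pow_smul_eq_zero {R M : Type*} [CommRing R] [AddCommGroup M] [Module R M]
    (x : M) (l : List R) (h : ∀ f ∈ l, ∃ n : ℕ, f ^ n • x = 0) :
    ∃ n : ℕ, 1 ≤ n ∧ ∀ f ∈ l, f ^ n • x = 0 := by
  induction l with
  | nil => exact ⟨1, le_rfl, by simp⟩
  | cons a l ih =>
    obtain ⟨n, hn1, hn⟩ := ih (fun f hf => h f (List.mem_cons_of_mem _ hf))
    obtain ⟨m, hm⟩ := h a List.mem_cons_self
    refine ⟨n + m, by omega, ?_⟩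
    intro f hf
    rcases List.mem_cons.mp hf with rfl | hf'
    · rw [pow_add, mul_smul, hm, smul_zero]
    · rw [add_comm, pow_add, mul_smul, hn f hf', smul_zero]

end Groth.Agent.H46
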