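import Mathlib
import Groth.Agent.H11.FPLift

/-!
# Spreading out morphisms from `Spec 𝒪_{X,x}` into schemes locally of finite presentation

Mathlib's `spread_out_of_isGermInjective` needs germ-injectivity of `X` at `x`.  When the target is
locally of finite presentation this is unnecessary (this is the TODO in Mathlib's file).
-/

universe u

open AlgebraicGeometry CategoryTheory TopologicalSpace Opposite

namespace Groth.Agent.H46

variable {R A : CommRingCat.{u}} {X Y S : Scheme.{u}}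

set_option backward.isDefEq.respectTransparency false in
/-- Lifting a map `A ⟶ 𝒪_{X,x}` to a neighbourhood when `A` is finitely presented over `R`. -/
theorem exists_lift_of_finitePresentation {x : X} {U : X.Opens} (hU : IsAffineOpen U)
    (hxU : x ∈ U)
    (φ : A ⟶ X.presheaf.stalk x) (φRA : R ⟶ A) (φRX : R ⟶ Γ(X, U))
    (hφRA : RingHom.FinitePresentation φRA.hom)
    (e : φRA ≫ φ = φRX ≫ X.presheaf.germ U x hxU) :
    ∃ (V : X.Opens) (hxV : x ∈ V) (φ' : A ⟶ Γ(X, V)) (i : V ≤ U), IsAffineOpen V ∧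
      φ = φ' ≫ X.presheaf.germ V x hxV ∧ φRX ≫ X.presheaf.map i.hom.op = φRA ≫ φ' := by
  let _a1 : Algebra R A := φRA.hom.toAlgebra
  let _a2 : Algebra R Γ(X, U) := φRX.hom.toAlgebra
  let _a3 : Algebra Γ(X, U) (X.presheaf.stalk x) :=
    TopCat.Presheaf.algebra_section_stalk X.presheaf ⟨x, hxU⟩
  let _a4 : Algebra R (X.presheaf.stalk x) := (φRX ≫ X.presheaf.germ U x hxU).hom.toAlgebra
  have _st : IsScalarTower R Γ(X, U) (X.presheaf.stalk x) := IsScalarTower.of_algebraMap_eq' rfl
  have _fp : Algebra.FinitePresentation R A := hφRA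
  have _loc : IsLocalization.AtPrime (X.presheaf.stalk x) (hU.primeIdealOf ⟨x, hxU⟩).asIdeal :=
    hU.isLocalization_stalk ⟨x, hxU⟩
  let ψ : A →ₐ[R] X.presheaf.stalk x :=
    { φ.hom with commutes' := DFunLike.congr_fun (congr_arg CommRingCat.Hom.hom e) }
  obtain ⟨t, ht, ψ', hψ'⟩ := Groth.Agent.H11.FPLift.exists_lift
    (hU.primeIdealOf ⟨x, hxU⟩).asIdeal.primeCompl ψ
  have hxt : x ∈ X.basicOpen t := by
    rw [X.mem_basicOpen _ _ hxU]
    exact IsLocalization.map_units (X.presheaf.stalk x)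
      (⟨t, ht⟩ : (hU.primeIdealOf ⟨x, hxU⟩).asIdeal.primeCompl)
  have _loc2 : IsLocalization.Away t Γ(X, X.basicOpen t) := hU.isLocalization_basicOpen t
  let eqv : Localization.Away t ≃ₐ[Γ(X, U)] Γ(X, X.basicOpen t) :=
    IsLocalization.algEquiv (Submonoid.powers t) _ _
  refine ⟨X.basicOpen t, hxt, CommRingCat.ofHom (eqv.toRingEquiv.toRingHom.comp ψ'.toRingHom),
    X.basicOpen_le t, hU.basicOpen t, ?_, ?_⟩
  · ext a
    change φ a = X.presheaf.germ (X.basicOpen t) x hxt (eqv (ψ' a))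
    have h1 : φ a = Groth.Agent.H11.FPLift.can (R := R) (L := X.presheaf.stalk x)
        (hU.primeIdealOf ⟨x, hxU⟩).asIdeal.primeCompl t ht (ψ' a) := (hψ' a).symm
    rw [h1]
    -- two `Γ(X,U)`-algebra maps out of the localisation agree
    have h2 : (Groth.Agent.H11.FPLift.can (R := R) (L := X.presheaf.stalk x)
        (hU.primeIdealOf ⟨x, hxU⟩).asIdeal.primeCompl t ht).toRingHom =
        ((X.presheaf.germ (X.basicOpen t) x hxt).hom.comp eqv.toRingEquiv.toRingHom) := by
      apply IsLocalization.ringHom_ext (Submonoid.powers t)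
      ext b
      simp only [RingHom.comp_apply]
      change Groth.Agent.H11.FPLift.can (R := R) (L := X.presheaf.stalk x) _ t ht
          (algebraMap _ _ b) =
        X.presheaf.germ (X.basicOpen t) x hxt (eqv (algebraMap _ _ b))
      rw [Groth.Agent.H11.FPLift.can_algebraMap, eqv.commutes]
      change X.presheaf.germ U x hxU b = X.presheaf.germ (X.basicOpen t) x hxt
        (X.presheaf.map (homOfLE (X.basicOpen_le t)).op b)
      rw [TopCat.Presheaf.germ_res_apply]
    exact congrArg (fun f => f (ψ' a)) h2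
  · ext r
    change X.presheaf.map (homOfLE (X.basicOpen_le t)).op (φRX r) = eqv (ψ' (φRA r))
    have h1 : ψ' (φRA r) = algebraMap R (Localization.Away t) r := ψ'.commutes r
    rw [h1, IsScalarTower.algebraMap_apply R Γ(X, U) (Localization.Away t), eqv.commutes]
    rfl

variable (sX : X ⟶ S) (sY : Y ⟶ S)

set_option backward.isDefEq.respectTransparency.types false in
/-- Spreading out (Stacks 0BX6) without germ-injectivity, for targets locally of finite
presentation. -/
theorem spread_out_of_locallyOfFinitePresentation [LocallyOfFinitePresentation sY] {x : X} {y : Y}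
    (e : sX x = sY y) (φ : Y.presheaf.stalk y ⟶ X.presheaf.stalk x)
    (h : sY.stalkMap y ≫ φ =
      S.presheaf.stalkSpecializes (Inseparable.of_eq e).specializes ≫ sX.stalkMap x) :
    ∃ (U : X.Opens) (hxU : x ∈ U) (f : U.toScheme ⟶ Y),
      Spec.map φ ≫ Y.fromSpecStalk y = U.fromSpecStalkOfMem x hxU ≫ f ∧
      f ≫ sY = U.ι ≫ sX := by
  obtain ⟨_, ⟨U, hU, rfl⟩, hxU, -⟩ :=
    S.isBasis_affineOpens.exists_subset_of_mem_open (Set.mem_univ (sX x)) isOpen_univ
  have hyU : sY y ∈ U := e ▸ hxU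
  obtain ⟨_, ⟨V : Y.Opens, hV, rfl⟩, hyV, iVU⟩ :=
    Y.isBasis_affineOpens.exists_subset_of_mem_open hyU (sY ⁻¹ᵁ U).2
  obtain ⟨_, ⟨U' : X.Opens, hU', rfl⟩, hxU', iU'U⟩ :=
    X.isBasis_affineOpens.exists_subset_of_mem_open hxU (sX ⁻¹ᵁ U).2
  have : sY.appLE U V iVU ≫ Y.presheaf.germ V y hyV ≫ φ =
      sX.appLE U U' iU'U ≫ X.presheaf.germ U' x hxU' := by
    rw [Scheme.Hom.appLE, Category.assoc, Y.presheaf.germ_res_assoc,
      ← Scheme.Hom.germ_stalkMap_assoc, h]
    simp [Scheme.Hom.appLE]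
  obtain ⟨W, hxW, φ', i, hW, h₁, h₂⟩ :=
    exists_lift_of_finitePresentation (R := Γ(S, U)) (A := Γ(Y, V)) (U := U') (x := x) hU' hxU'
    (Y.presheaf.germ _ y hyV ≫ φ) (sY.appLE U V iVU) (sX.appLE U U' iU'U)
    (sY.finitePresentation_appLE hU hV _) this
  refine ⟨W, hxW, W.toSpecΓ ≫ Spec.map φ' ≫ hV.fromSpec, ?_, ?_⟩
  · rw [W.fromSpecStalkOfMem_toSpecΓ_assoc x hxW, ← Spec.map_comp_assoc, ← h₁,
      Spec.map_comp, Category.assoc, ← IsAffineOpen.fromSpecStalk,
      IsAffineOpen.fromSpecStalk_eq_fromSpecStalk]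
  · simp only [Category.assoc]
    rw [← IsAffineOpen.SpecMap_appLE_fromSpec sY hU hV iVU, ← Spec.map_comp_assoc, ← h₂,
      Scheme.Hom.appLE_map, ← hW.isoSpec_hom,
      IsAffineOpen.SpecMap_appLE_fromSpec sX hU hW (i.trans iU'U),
      ← Iso.eq_inv_comp, IsAffineOpen.isoSpec_inv_ι_assoc]

set_option backward.isDefEq.respectTransparency.types false in
/-- Spreading out an `S`-morphism `Spec 𝒪_{X,x} ⟶ Y` to a neighbourhood of `x`, for `Y` locally
of finite presentation over `S`. -/
theorem spread_out_of_locallyOfFinitePresentation' [LocallyOfFinitePresentation sY] {x : X}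
    (φ : Spec (X.presheaf.stalk x) ⟶ Y)
    (h : φ ≫ sY = X.fromSpecStalk x ≫ sX) :
    ∃ (U : X.Opens) (hxU : x ∈ U) (f : U.toScheme ⟶ Y),
      φ = U.fromSpecStalkOfMem x hxU ≫ f ∧ f ≫ sY = U.ι ≫ sX := by
  have := spread_out_of_locallyOfFinitePresentation sX sY ?_ (Scheme.stalkClosedPointTo φ) ?_
  · simpa only [Scheme.Spec_stalkClosedPointTo_fromSpecStalk] using this
  · rw [← Scheme.Hom.comp_apply, h, Scheme.Hom.comp_apply, Scheme.fromSpecStalk_closedPoint]
  · apply Spec.map_injective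
    rw [← cancel_mono (S.fromSpecStalk _)]
    simpa only [Spec.map_comp, Category.assoc, Scheme.SpecMap_stalkMap_fromSpecStalk,
      Scheme.Spec_stalkClosedPointTo_fromSpecStalk_assoc,
      Scheme.SpecMap_stalkSpecializes_fromSpecStalk]

end Groth.Agent.H46
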