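import Mathlib

/-!
# Generic finiteness at a minimal prime with finite fibre
-/

set_option autoImplicit false
set_option linter.style.haveILetI false

universe u

namespace Groth.Agent.H46.GenFinite

open TensorProduct Polynomial

variable {R S : Type u} [CommRing R] [CommRing S] [Algebra R S]

section fibre

variable [Algebra.FiniteType R S] (p : Ideal R) [p.IsPrime]

/-- finite fibre over `p` implies the fibre ring is finite over the residue field -/
theorem finite_fiber_of_finite_primesOver (hfin : (p.primesOver S).Finite) :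
    Module.Finite p.ResidueField (p.Fiber S) := by
  rw [Module.finite_iff_isArtinianRing, isArtinianRing_iff_isNoetherianRing_krullDimLE_zero]
  haveI : IsJacobsonRing (p.Fiber S) := isJacobsonRing_of_finiteType (A := p.ResidueField)
  haveI : Finite (p.primesOver S) := hfin
  haveI : Finite (PrimeSpectrum (p.Fiber S)) :=
    (PrimeSpectrum.primesOverOrderIsoFiber R S p).toEquiv.finite_iff.mp inferInstance
  exact ⟨Algebra.FiniteType.isNoetherianRing p.ResidueField _,
    (PrimeSpectrum.discreteTopology_iff_finite_and_krullDimLE_zero.mp inferInstance).right⟩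

end fibre

section claim

variable (p : Ideal R) [p.IsPrime]

/-- the maximal ideal of `R_p` extended to `S_p` consists of nilpotents when `p` is minimal -/
theorem isNilpotent_of_mem_map (hp : p ∈ minimalPrimes R)
    (z : Localization (Algebra.algebraMapSubmonoid S p.primeCompl))
    (hz : z ∈ Ideal.map (algebraMap (Localization p.primeCompl)
      (Localization (Algebra.algebraMapSubmonoid S p.primeCompl)))
      (IsLocalRing.maximalIdeal (Localization p.primeCompl))) : IsNilpotent z := by
  have h1 : IsLocalRing.maximalIdeal (Localization p.primeCompl) ≤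
      nilradical (Localization p.primeCompl) := by
    have := IsLocalization.AtPrime.radical_map_of_mem_minimalPrimes
      (Localization p.primeCompl) p ⊥ hp
    rw [Ideal.map_bot, IsLocalization.AtPrime.map_eq_maximalIdeal] at this
    rw [← this]
    exact le_rfl
  have h2 : Ideal.map (algebraMap (Localization p.primeCompl)
      (Localization (Algebra.algebraMapSubmonoid S p.primeCompl)))
      (IsLocalRing.maximalIdeal (Localization p.primeCompl)) ≤
      nilradical (Localization (Algebra.algebraMapSubmonoid S p.primeCompl)) := by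
    rw [Ideal.map_le_iff_le_comap]
    intro a ha
    rw [Ideal.mem_comap, mem_nilradical]
    exact (mem_nilradical.mp (h1 ha)).map _
  exact mem_nilradical.mp (h2 hz)

attribute [local instance] Algebra.TensorProduct.rightAlgebra in
theorem exists_smul_isIntegral (hp : p ∈ minimalPrimes R)
    [Module.Finite p.ResidueField (p.Fiber S)] (x : S) : ∃ r ∉ p, IsIntegral R (r • x) := by
  let Rp := Localization.AtPrime p
  let F := p.Fiber S
  have h1 : IsIntegral p.ResidueField ((1 : p.ResidueField) ⊗ₜ[R] x : F) :=
    Algebra.IsIntegral.isIntegral _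
  have h2 : IsIntegral Rp ((1 : p.ResidueField) ⊗ₜ[R] x : F) :=
    isIntegral_trans (A := p.ResidueField) _ h1
  obtain ⟨⟨s, hs⟩, h3⟩ := IsIntegral.exists_multiple_integral_of_isLocalization p.primeCompl _ h2
  obtain ⟨Q, hQm, hQ⟩ := h3
  let ι : S →ₐ[R] F := Algebra.TensorProduct.includeRight
  let y : S := aeval (s • x) Q
  have hy : ι y = 0 := by
    have e1 : ι y = aeval (ι (s • x)) Q := (aeval_algHom_apply ι (s • x) Q).symm
    rw [e1]
    have e2 : ι (s • x) = (⟨s, hs⟩ : p.primeCompl) • ((1 : p.ResidueField) ⊗ₜ[R] x : F) := by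
      rw [map_smul]; rfl
    rw [e2]
    exact hQ
  -- pass to `S_p / p S_p`
  let Sp := Localization (Algebra.algebraMapSubmonoid S p.primeCompl)
  have h4 : IsNilpotent (algebraMap S Sp y) := by
    apply isNilpotent_of_mem_map p hp
    rw [← Ideal.Quotient.eq_zero_iff_mem]
    have e := (Ideal.Fiber.algEquivQuotient (S := S) p).commutes y
    have e' : (Ideal.Fiber.algEquivQuotient (S := S) p) (ι y) = Ideal.Quotient.mk _ (algebraMap S Sp y) := e
    rw [← e', hy, map_zero]
  obtain ⟨N, hN⟩ := h4
  -- `s • x` is integral over `R` in `S_p`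
  have h5 : IsIntegral R (algebraMap S Sp (s • x)) := by
    refine ⟨Q ^ N, hQm.pow N, ?_⟩
    rw [← aeval_def, map_pow]
    have : aeval (algebraMap S Sp (s • x)) Q = algebraMap S Sp y :=
      aeval_algHom_apply (IsScalarTower.toAlgHom R S Sp) (s • x) Q
    rw [this, hN]
  obtain ⟨m, hm, h6⟩ := IsLocalization.exists_isIntegral_smul_of_isIntegral_map p.primeCompl h5
  refine ⟨m * s, p.primeCompl.mul_mem hm hs, ?_⟩
  rwa [mul_smul]

end claim

section main

variable [Algebra.FiniteType R S]

/-- **Generic finiteness at a minimal prime**: if only finitely many primes of `S` lie over the minimal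
prime `p` of `R`, then `R_g → S_g` is finite for some `g ∉ p`. -/
theorem exists_finite_awayMap (p : Ideal R) (hp : p ∈ minimalPrimes R)
    (hfin : (p.primesOver S).Finite) :
    ∃ g : R, g ∉ p ∧ (Localization.awayMap (algebraMap R S) g).Finite := by
  classical
  haveI : p.IsPrime := hp.1.1
  haveI := finite_fiber_of_finite_primesOver p hfin
  obtain ⟨t, ht⟩ := (Algebra.FiniteType.out : (⊤ : Subalgebra R S).FG)
  choose r hr hint using fun x : S => exists_smul_isIntegral p hp x
  let g : R := ∏ x ∈ t, r x
  have hg : g ∉ p := fun h => by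
    obtain ⟨x, _, hx⟩ := (Ideal.IsPrime.prod_mem_iff).mp h
    exact hr x hx
  refine ⟨g, hg, ?_⟩
  let Rg := Localization.Away g
  let Sg := Localization.Away (algebraMap R S g)
  rw [RingHom.finite_iff_isIntegral_and_finiteType]
  refine ⟨?_, RingHom.finiteType_localizationPreserves.away _ g _ _
    (RingHom.finiteType_algebraMap.mpr inferInstance)⟩
  letI algRgSg : Algebra Rg Sg := (Localization.awayMap (algebraMap R S) g).toAlgebra
  haveI tow : IsScalarTower R Rg Sg := IsScalarTower.of_algebraMap_eq fun x => by
    change algebraMap R Sg x = Localization.awayMap (algebraMap R S) g (algebraMap R Rg x)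
    rw [Localization.awayMap, IsLocalization.Away.map, IsLocalization.map_eq,
      IsScalarTower.algebraMap_apply R S Sg]
  change (algebraMap Rg Sg).IsIntegral
  rw [algebraMap_isIntegral_iff]
  let A' : Subalgebra Rg Sg := integralClosure Rg Sg
  have hgu : IsUnit (algebraMap R Rg g) := IsLocalization.Away.algebraMap_isUnit g
  have ha : ∀ x ∈ t, algebraMap S Sg x ∈ A' := by
    intro x hx
    have i1 : IsIntegral R (algebraMap S Sg (r x • x)) :=
      (hint x).map (IsScalarTower.toAlgHom R S Sg)
    have i2 : IsIntegral Rg (algebraMap S Sg (r x • x)) := i1.tower_top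
    have e : algebraMap S Sg (r x • x) =
        algebraMap Rg Sg (algebraMap R Rg (r x)) * algebraMap S Sg x := by
      rw [Algebra.smul_def, map_mul, ← IsScalarTower.algebraMap_apply R S Sg,
        IsScalarTower.algebraMap_apply R Rg Sg]
    have hu : IsUnit (algebraMap R Rg (r x)) :=
      isUnit_of_dvd_unit (map_dvd _ (Finset.dvd_prod_of_mem r hx)) hgu
    obtain ⟨u, hu'⟩ := hu
    have e2 : algebraMap S Sg x = algebraMap Rg Sg (↑u⁻¹ : Rg) * algebraMap S Sg (r x • x) := by
      rw [e, ← hu', ← mul_assoc, ← map_mul, Units.inv_mul, map_one, one_mul]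
    rw [e2]
    exact A'.mul_mem (A'.algebraMap_mem _) i2
  have hb : ∀ z : S, algebraMap S Sg z ∈ A' := by
    have hle : Algebra.adjoin R (t : Set S) ≤
        (A'.restrictScalars R).comap (IsScalarTower.toAlgHom R S Sg) :=
      Algebra.adjoin_le fun x hx => ha x hx
    intro z
    have hz : z ∈ Algebra.adjoin R (t : Set S) := by rw [ht]; trivial
    exact hle hz
  refine ⟨fun w => ?_⟩
  obtain ⟨z, ⟨_, k, rfl⟩, rfl⟩ :=
    IsLocalization.exists_mk'_eq (Submonoid.powers (algebraMap R S g)) w
  let v : Rg := IsLocalization.mk' Rg (1 : R) (⟨g ^ k, k, rfl⟩ : Submonoid.powers g)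
  have hv : v * algebraMap R Rg (g ^ k) = 1 := by
    have := IsLocalization.mk'_spec Rg (1 : R) (⟨g ^ k, k, rfl⟩ : Submonoid.powers g)
    simpa using this
  have hw : IsLocalization.mk' Sg z
      (⟨(fun x => algebraMap R S g ^ x) k, k, rfl⟩ : Submonoid.powers (algebraMap R S g)) =
      algebraMap S Sg z * algebraMap Rg Sg v := by
    rw [IsLocalization.mk'_eq_iff_eq_mul]
    simp only
    rw [← map_pow, ← IsScalarTower.algebraMap_apply R S Sg, IsScalarTower.algebraMap_apply R Rg Sg,
      mul_assoc, ← map_mul, hv, map_one, mul_one]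
  rw [hw]
  exact A'.mul_mem (hb z) (A'.algebraMap_mem v)

end main

end Groth.Agent.H46.GenFinite
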