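import Mathlib

/-!
# Base change of a cofiltered limit of schemes along a morphism to one stage

Given a diagram `D : I ⥤ Scheme`, a cone `c`, an index `i` and `xi : Xi ⟶ D.obj i`, the diagram
`(j → i) ↦ D.obj j ×_{D.obj i} Xi` on `Over i` and its cone with apex `c.pt ×_{D.obj i} Xi`,
which is a limit cone when `c` is and `I` is cofiltered.
-/

open CategoryTheory Limits AlgebraicGeometry

namespace Groth.Agent.H46
universe u
variable {I : Type u} [SmallCategory I] (D : I ⥤ Scheme.{u}) (c : Cone D)
  (i : I) {Xi : Scheme.{u}} (xi : Xi ⟶ D.obj i)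

/-- The diagram `(j → i) ↦ S_j ×_{S_i} X_i`. -/
noncomputable def pbDiagram : Over i ⥤ Scheme.{u} :=
  Over.post D ⋙ Over.pullback xi ⋙ Over.forget _

/-- The cone over `pbDiagram` with apex `S ×_{S_i} X_i`. -/
noncomputable def pbCone : Cone (pbDiagram D i xi) :=
  (Over.pullback xi ⋙ Over.forget _).mapCone ((Over.conePost _ _).obj c)

/-- `pbCone` is a limit cone. -/
noncomputable def pbConeIsLimit [IsCofiltered I] (hc : IsLimit c) : IsLimit (pbCone D c i xi) :=
  isLimitOfPreserves (Over.pullback xi ⋙ Over.forget _) (Over.isLimitConePost _ hc)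

set_option backward.defeqAttrib.useBackward true in
set_option backward.isDefEq.respectTransparency false in
@[reassoc]
lemma pbDiagram_map_fst {j k : Over i} (f : j ⟶ k) :
    (pbDiagram D i xi).map f ≫ pullback.fst (D.map k.hom) xi =
      pullback.fst (D.map j.hom) xi ≫ D.map f.left := by
  simp [pbDiagram]

set_option backward.defeqAttrib.useBackward true in
set_option backward.isDefEq.respectTransparency false in
@[reassoc]
lemma pbDiagram_map_snd {j k : Over i} (f : j ⟶ k) :
    (pbDiagram D i xi).map f ≫ pullback.snd (D.map k.hom) xi =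
      pullback.snd (D.map j.hom) xi := by
  simp [pbDiagram]

set_option backward.defeqAttrib.useBackward true in
set_option backward.isDefEq.respectTransparency false in
@[reassoc]
lemma pbCone_π_fst (j : Over i) :
    (pbCone D c i xi).π.app j ≫ pullback.fst (D.map j.hom) xi =
      pullback.fst (c.π.app i) xi ≫ c.π.app j.left := by
  simp [pbCone]

set_option backward.defeqAttrib.useBackward true in
set_option backward.isDefEq.respectTransparency false in
@[reassoc]
lemma pbCone_π_snd (j : Over i) :
    (pbCone D c i xi).π.app j ≫ pullback.snd (D.map j.hom) xi =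
      pullback.snd (c.π.app i) xi := by
  simp [pbCone]

set_option backward.isDefEq.respectTransparency false in
lemma isAffineHom_pullback_snd [∀ (i j : I) (f : i ⟶ j), IsAffineHom (D.map f)] (j : Over i) :
    IsAffineHom (pullback.snd (D.map j.hom) xi) :=
  MorphismProperty.pullback_snd (P := @IsAffineHom) _ _ inferInstance

set_option backward.isDefEq.respectTransparency false in
instance pbDiagram_isAffineHom [∀ (i j : I) (f : i ⟶ j), IsAffineHom (D.map f)]
    {j k : Over i} (f : j ⟶ k) : IsAffineHom ((pbDiagram D i xi).map f) := by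
  have h1 : IsAffineHom (pullback.snd (D.map k.hom) xi) := isAffineHom_pullback_snd D i xi k
  have h2 : IsAffineHom ((pbDiagram D i xi).map f ≫ pullback.snd (D.map k.hom) xi) := by
    rw [pbDiagram_map_snd]; exact isAffineHom_pullback_snd D i xi j
  exact IsAffineHom.of_comp _ (pullback.snd (D.map k.hom) xi)

set_option backward.isDefEq.respectTransparency false in
instance pbDiagram_compactSpace [∀ (i j : I) (f : i ⟶ j), IsAffineHom (D.map f)]
    [CompactSpace Xi] (j : Over i) : CompactSpace ((pbDiagram D i xi).obj j) := by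
  have h1 : IsAffineHom (pullback.snd (D.map j.hom) xi) := isAffineHom_pullback_snd D i xi j
  exact QuasiCompact.compactSpace_of_compactSpace (pullback.snd (D.map j.hom) xi)

set_option backward.isDefEq.respectTransparency false in
instance pbDiagram_quasiSeparatedSpace [∀ (i j : I) (f : i ⟶ j), IsAffineHom (D.map f)]
    [QuasiSeparatedSpace Xi] (j : Over i) : QuasiSeparatedSpace ((pbDiagram D i xi).obj j) := by
  have h1 : IsAffineHom (pullback.snd (D.map j.hom) xi) := isAffineHom_pullback_snd D i xi j
  exact quasiSeparatedSpace_of_quasiSeparated (pullback.snd (D.map j.hom) xi)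

/-- Typed form of `Scheme.exists_π_app_comp_eq_of_locallyOfFinitePresentation` for the base-change
diagram: an `S_i`-morphism from `S ×_{S_i} X_i` to `Y_i` (lfp over `S_i`) factors through some
`S_j ×_{S_i} X_i`. -/
theorem exists_descend_hom [IsCofiltered I] (hc : IsLimit c)
    [∀ (i j : I) (f : i ⟶ j), IsAffineHom (D.map f)]
    [CompactSpace Xi] [QuasiSeparatedSpace Xi] {Yi : Scheme.{u}} (yi : Yi ⟶ D.obj i)
    [LocallyOfFinitePresentation yi] (a : pullback (c.π.app i) xi ⟶ Yi)
    (ha : a ≫ yi = pullback.snd (c.π.app i) xi ≫ xi) :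
    ∃ (k : Over i) (g : pullback (D.map k.hom) xi ⟶ Yi)
      (π' : pullback (c.π.app i) xi ⟶ pullback (D.map k.hom) xi),
      π' ≫ pullback.fst (D.map k.hom) xi = pullback.fst (c.π.app i) xi ≫ c.π.app k.left ∧
      π' ≫ pullback.snd (D.map k.hom) xi = pullback.snd (c.π.app i) xi ∧
      π' ≫ g = a ∧ g ≫ yi = pullback.snd (D.map k.hom) xi ≫ xi := by
  have hc' : IsLimit (pbCone D c i xi) := pbConeIsLimit D c i xi hc
  let t : pbDiagram D i xi ⟶ (Functor.const _).obj (D.obj i) :=
    { app := fun j => pullback.snd (D.map j.hom) xi ≫ xi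
      naturality := fun j k f => by
        simp only [Functor.const_obj_obj, Functor.const_obj_map, Category.comp_id]
        exact pbDiagram_map_snd_assoc D i xi f xi }
  have ha' : (pbCone D c i xi).π ≫ t = (Functor.const _).map (a ≫ yi) := by
    ext j : 2
    have h1 : (pbCone D c i xi).π.app j ≫ pullback.snd (D.map j.hom) xi ≫ xi =
        pullback.snd (c.π.app i) xi ≫ xi := pbCone_π_snd_assoc D c i xi j xi
    exact h1.trans ha.symm
  obtain ⟨k, g, hg1, hg2⟩ := Scheme.exists_π_app_comp_eq_of_locallyOfFinitePresentation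
    (pbDiagram D i xi) t yi (pbCone D c i xi) hc' a ha'
  exact ⟨k, g, (pbCone D c i xi).π.app k, pbCone_π_fst D c i xi k, pbCone_π_snd D c i xi k,
    hg1, hg2⟩

end Groth.Agent.H46
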