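import Mathlib

/-!
# `κ ⊗[R] S_g` is the localization of `κ ⊗[R] S` at `1 ⊗ g`
-/

set_option autoImplicit false

open TensorProduct

namespace Groth.Agent.H46

section

variable (R κ S Sg : Type*) [CommRing R] [CommRing κ] [CommRing S] [Algebra R κ] [Algebra R S]
  [CommRing Sg] [Algebra S Sg] [Algebra R Sg] [IsScalarTower R S Sg]

/-- The map `κ ⊗[R] S → κ ⊗[R] S_g`. -/
noncomputable def tensorAwayMap : κ ⊗[R] S →ₐ[κ] κ ⊗[R] Sg :=
  Algebra.TensorProduct.map (AlgHom.id κ κ) (IsScalarTower.toAlgHom R S Sg)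

@[simp] theorem tensorAwayMap_tmul (k : κ) (s : S) :
    tensorAwayMap R κ S Sg (k ⊗ₜ s) = k ⊗ₜ algebraMap S Sg s := by
  simp [tensorAwayMap]

attribute [local instance] Algebra.TensorProduct.rightAlgebra

theorem isLocalization_away_tensor (g : S) [IsLocalization.Away g Sg] :
    @IsLocalization.Away (κ ⊗[R] S) _ ((1 : κ) ⊗ₜ[R] g) (κ ⊗[R] Sg) _
      (tensorAwayMap R κ S Sg).toRingHom.toAlgebra := by
  let _ : Algebra (κ ⊗[R] S) (κ ⊗[R] Sg) := (tensorAwayMap R κ S Sg).toRingHom.toAlgebra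
  let _ : Algebra S (κ ⊗[R] Sg) :=
    ((algebraMap Sg (κ ⊗[R] Sg)).comp (algebraMap S Sg)).toAlgebra
  have hS : ∀ s : S, algebraMap S (κ ⊗[R] Sg) s = (1 : κ) ⊗ₜ algebraMap S Sg s := fun s => rfl
  have hF : ∀ x : κ ⊗[R] S, algebraMap (κ ⊗[R] S) (κ ⊗[R] Sg) x = tensorAwayMap R κ S Sg x :=
    fun x => rfl
  have t1 : IsScalarTower S Sg (κ ⊗[R] Sg) := IsScalarTower.of_algebraMap_eq fun s => rfl
  have t2 : IsScalarTower S (κ ⊗[R] S) (κ ⊗[R] Sg) := IsScalarTower.of_algebraMap_eq fun s => by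
    rw [hS, hF]
    change _ = tensorAwayMap R κ S Sg ((1 : κ) ⊗ₜ s)
    rw [tensorAwayMap_tmul]
  have t3 : IsScalarTower κ (κ ⊗[R] S) (κ ⊗[R] Sg) := IsScalarTower.of_algebraMap_eq fun k => by
    rw [hF]
    exact ((tensorAwayMap R κ S Sg).commutes k).symm
  have t4 : IsScalarTower R S (κ ⊗[R] Sg) := IsScalarTower.of_algebraMap_eq fun r => by
    rw [hS, ← IsScalarTower.algebraMap_apply R S Sg, Algebra.algebraMap_eq_smul_one (A := Sg),
      TensorProduct.tmul_smul, Algebra.algebraMap_eq_smul_one]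
    rfl
  have t5 : IsScalarTower R (κ ⊗[R] S) (κ ⊗[R] Sg) := IsScalarTower.of_algebraMap_eq fun r => by
    rw [hF, IsScalarTower.algebraMap_apply R κ (κ ⊗[R] S), AlgHom.commutes,
      ← IsScalarTower.algebraMap_apply R κ (κ ⊗[R] Sg)]
  have t6 : IsScalarTower R Sg (κ ⊗[R] Sg) := IsScalarTower.of_algebraMap_eq fun r => by
    change _ = (1 : κ) ⊗ₜ algebraMap R Sg r
    rw [Algebra.algebraMap_eq_smul_one (A := Sg), TensorProduct.tmul_smul,
      Algebra.algebraMap_eq_smul_one]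
    rfl
  have p1 : Algebra.IsPushout R S κ (κ ⊗[R] S) := inferInstance
  have p2 : Algebra.IsPushout R Sg κ (κ ⊗[R] Sg) := inferInstance
  have p3 : Algebra.IsPushout S Sg (κ ⊗[R] S) (κ ⊗[R] Sg) :=
    (Algebra.IsPushout.comp_iff R S κ (S' := κ ⊗[R] S) (T := Sg) (T' := κ ⊗[R] Sg)).1 p2
  have h : IsLocalization (Algebra.algebraMapSubmonoid (κ ⊗[R] S) (Submonoid.powers g))
      (κ ⊗[R] Sg) :=
    (Algebra.isLocalization_iff_isPushout (Submonoid.powers g) Sg).2 p3.symm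
  rw [Algebra.algebraMapSubmonoid_powers] at h
  exact h

end

end Groth.Agent.H46
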