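import Mathlib
import Groth.Prelude.Def_Flat
import Groth.Agent.H46.TensorAway
import Groth.Agent.H3.QuasiFiniteAway
import Groth.Agent.H54.Dim

/-!
# Relative dimension `n` at a point gives a quasi-finite map to affine `n`-space (Stacks 10.125.2)
-/

set_option autoImplicit false

open TensorProduct

namespace Groth.Agent.H46.FibDimQF

section transfer

variable {R A S κ K : Type*} [CommRing R] [CommRing A] [CommRing S] [CommRing κ] [CommRing K]
  [Algebra R A] [Algebra R S] [Algebra A S] [IsScalarTower R A S]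
  [Algebra R κ] [Algebra R K] [Algebra A K] [IsScalarTower R A K]

/-- If `κ ⊗[R] A → κ ⊗[R] S` is finite and `K` is an `A`-algebra and a `κ`-algebra compatibly over `R`,
then `K ⊗[A] S` is a finite `K`-module. -/
theorem finite_tensor_of_finite_fibre (j : κ →ₐ[R] K)
    (hfin : (Algebra.TensorProduct.map (AlgHom.id κ κ)
      (IsScalarTower.toAlgHom R A S)).toRingHom.Finite) :
    Module.Finite K (K ⊗[A] S) := by
  classical
  let μ : κ ⊗[R] A →ₐ[κ] κ ⊗[R] S :=
    Algebra.TensorProduct.map (AlgHom.id κ κ) (IsScalarTower.toAlgHom R A S)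
  let θΛ : κ ⊗[R] A →ₐ[R] K :=
    Algebra.TensorProduct.lift j (IsScalarTower.toAlgHom R A K) (fun _ _ => Commute.all _ _)
  let iK : K →ₐ[R] K ⊗[A] S :=
    (Algebra.TensorProduct.includeLeft (R := A) (S := A) (A := K) (B := S)).restrictScalars R
  let iS : S →ₐ[R] K ⊗[A] S :=
    (Algebra.TensorProduct.includeRight (R := A) (A := K) (B := S)).restrictScalars R
  let θF : κ ⊗[R] S →ₐ[R] K ⊗[A] S :=
    Algebra.TensorProduct.lift (iK.comp j) iS (fun _ _ => Commute.all _ _)
  have hθ : ∀ l : κ ⊗[R] A, θF (μ l) = algebraMap K (K ⊗[A] S) (θΛ l) := by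
    intro l
    induction l using TensorProduct.induction_on with
    | zero => simp
    | add x y hx hy => simp only [map_add, hx, hy]
    | tmul k a =>
      simp only [μ, θF, θΛ, Algebra.TensorProduct.map_tmul, Algebra.TensorProduct.lift_tmul,
        AlgHom.coe_id, id_eq, IsScalarTower.coe_toAlgHom', AlgHom.coe_comp, Function.comp_apply,
        iK, iS, AlgHom.coe_restrictScalars', Algebra.TensorProduct.includeLeft_apply,
        Algebra.TensorProduct.includeRight_apply, Algebra.TensorProduct.tmul_mul_tmul, mul_one,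
        one_mul, Algebra.TensorProduct.algebraMap_apply, Algebra.algebraMap_self, RingHom.id_apply,
        map_mul]
      rw [Algebra.algebraMap_eq_smul_one (A := S) a, TensorProduct.tmul_smul,
        TensorProduct.smul_tmul', Algebra.smul_def, mul_comm]
  letI alg : Algebra (κ ⊗[R] A) (κ ⊗[R] S) := μ.toRingHom.toAlgebra
  have hsm : ∀ (l : κ ⊗[R] A) (x : κ ⊗[R] S), l • x = μ l * x := fun _ _ => rfl
  have hfin' : Module.Finite (κ ⊗[R] A) (κ ⊗[R] S) := hfin
  obtain ⟨T, hT⟩ := hfin'.fg_top
  refine ⟨⟨T.image θF, ?_⟩⟩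
  set N : Submodule K (K ⊗[A] S) := Submodule.span K ((T.image θF : Finset _) : Set (K ⊗[A] S))
    with hN
  have key : ∀ f : κ ⊗[R] S, θF f ∈ N := by
    intro f
    have hf : f ∈ Submodule.span (κ ⊗[R] A) (T : Set (κ ⊗[R] S)) := by
      rw [hT]; trivial
    induction hf using Submodule.span_induction with
    | mem x hx =>
      exact Submodule.subset_span (by
        rw [Finset.coe_image]; exact ⟨x, hx, rfl⟩)
    | zero => simp
    | add x y _ _ hx hy =>
      rw [map_add]; exact N.add_mem hx hy
    | smul l x _ hx =>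
      rw [hsm, map_mul, hθ, ← Algebra.smul_def]
      exact N.smul_mem _ hx
  rw [eq_top_iff]
  rintro x -
  induction x using TensorProduct.induction_on with
  | zero => exact N.zero_mem
  | add x y hx hy => exact N.add_mem hx hy
  | tmul k s =>
    have h1 : (k ⊗ₜ[A] s : K ⊗[A] S) = k • θF ((1 : κ) ⊗ₜ[R] s) := by
      simp only [θF, Algebra.TensorProduct.lift_tmul, map_one, one_mul, iS,
        AlgHom.coe_restrictScalars', Algebra.TensorProduct.includeRight_apply]
      rw [TensorProduct.smul_tmul', smul_eq_mul, mul_one]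
    rw [h1]
    exact N.smul_mem _ (key _)

end transfer

section dim

open TopologicalSpace

/-- Local dimension `≤ n` at `Q` gives a basic open neighbourhood of dimension `≤ n`. -/
theorem exists_away_dim_le {F : Type*} [CommRing F] (Q : PrimeSpectrum F) (n : WithBot ℕ∞)
    (h : FlatMor.localDim (PrimeSpectrum F) Q ≤ n) :
    ∃ f : F, f ∉ Q.asIdeal ∧ ringKrullDim (Localization.Away f) ≤ n := by
  unfold FlatMor.localDim at h
  have : Nonempty {W : Opens (PrimeSpectrum F) // Q ∈ W} := ⟨⟨⊤, trivial⟩⟩
  have hmem0 := ciInf_mem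
    (fun W : {W : Opens (PrimeSpectrum F) // Q ∈ W} =>
      topologicalKrullDim ↥(W.1 : Set (PrimeSpectrum F)))
  obtain ⟨W, hW⟩ := hmem0
  beta_reduce at hW
  obtain ⟨_, ⟨_, ⟨f, rfl⟩, rfl⟩, hQf, hfW⟩ :=
    PrimeSpectrum.isBasis_basic_opens.exists_subset_of_mem_open W.2 W.1.2
  refine ⟨f, hQf, ?_⟩
  rw [← PrimeSpectrum.topologicalKrullDim_eq_ringKrullDim]
  refine le_trans ?_ (hW ▸ h)
  have hemb := PrimeSpectrum.localization_away_isOpenEmbedding (Localization.Away f) f
  have hrange := PrimeSpectrum.localization_away_comap_range (Localization.Away f) f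
  have hmem : ∀ x : PrimeSpectrum (Localization.Away f),
      PrimeSpectrum.comap (algebraMap F (Localization.Away f)) x ∈ (W.1 : Set (PrimeSpectrum F)) :=
    fun x => hfW (hrange ▸ ⟨x, rfl⟩)
  have hind : Topology.IsInducing (Set.codRestrict
      (PrimeSpectrum.comap (algebraMap F (Localization.Away f))) _ hmem) :=
    hemb.isInducing.codRestrict _
  exact hind.topologicalKrullDim_le

end dim

section fibre

variable {R S : Type*} [CommRing R] [CommRing S] [Algebra R S]

/-- Shrinking `Spec S` to a principal open around `q`, the whole fibre over `p` has dimension at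
most the local dimension of the fibre at the point. -/
theorem exists_away_fibre_dim_le (p : Ideal R) [p.IsPrime] (q : Ideal S)
    (Q : PrimeSpectrum (p.Fiber S))
    (hQ : Q.asIdeal.comap (Algebra.TensorProduct.includeRight.toRingHom) = q) (n : WithBot ℕ∞)
    (h : FlatMor.localDim (PrimeSpectrum (p.Fiber S)) Q ≤ n) :
    ∃ g : S, g ∉ q ∧ ringKrullDim (p.ResidueField ⊗[R] Localization.Away g) ≤ n := by
  obtain ⟨f, hfQ, hf⟩ := exists_away_dim_le Q n h
  obtain ⟨r, hr, g, hrg⟩ := Ideal.Fiber.exists_smul_eq_one_tmul p f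
  have hru : IsUnit (algebraMap R (p.Fiber S) r) := by
    rw [IsScalarTower.algebraMap_apply R p.ResidueField (p.Fiber S)]
    refine IsUnit.map _ (IsUnit.mk0 _ ?_)
    rwa [Ne, Ideal.algebraMap_residueField_eq_zero]
  have hass : Associated f ((1 : p.ResidueField) ⊗ₜ[R] g) := by
    refine ⟨hru.unit, ?_⟩
    rw [← hrg, Algebra.smul_def, mul_comm]
    rfl
  refine ⟨g, ?_, ?_⟩
  · intro hgq
    rw [← hQ] at hgq
    have h1 : ((1 : p.ResidueField) ⊗ₜ[R] g : p.Fiber S) ∈ Q.asIdeal := hgq
    rw [← hrg, Algebra.smul_def] at h1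
    rcases Q.2.mem_or_mem h1 with h2 | h2
    · exact Q.2.ne_top (Ideal.eq_top_of_isUnit_mem _ h2 hru)
    · exact hfQ h2
  · haveI : IsLocalization.Away ((1 : p.ResidueField) ⊗ₜ[R] g : p.Fiber S)
        (Localization.Away f) := IsLocalization.Away.of_associated hass
    letI : Algebra (p.ResidueField ⊗[R] S) (p.ResidueField ⊗[R] Localization.Away g) :=
      (tensorAwayMap R p.ResidueField S (Localization.Away g)).toRingHom.toAlgebra
    haveI : IsLocalization.Away ((1 : p.ResidueField) ⊗ₜ[R] g : p.ResidueField ⊗[R] S)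
        (p.ResidueField ⊗[R] Localization.Away g) :=
      isLocalization_away_tensor R p.ResidueField S (Localization.Away g) g
    have e : Localization.Away f ≃ₐ[p.ResidueField ⊗[R] S]
        (p.ResidueField ⊗[R] Localization.Away g) :=
      IsLocalization.algEquiv (Submonoid.powers ((1 : p.ResidueField) ⊗ₜ[R] g : p.Fiber S)) _ _
    rw [← ringKrullDim_eq_of_ringEquiv e.toRingEquiv]
    exact hf

end fibre

section lemmaB

universe u

variable {R S : Type u} [CommRing R] [CommRing S] [Algebra R S] [Algebra.FiniteType R S]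

/-- Noether normalization of the fibre, with exactly `n ≥ dim` variables and with the images of the
variables of the form `1 ⊗ s`. -/
theorem exists_finite_aeval_one_tmul (p : Ideal R) [p.IsPrime] [Nontrivial (p.ResidueField ⊗[R] S)]
    (n : ℕ) (hdim : ringKrullDim (p.ResidueField ⊗[R] S) ≤ n) :
    ∃ s : Fin n → S, (MvPolynomial.aeval (R := p.ResidueField)
      (fun i => ((1 : p.ResidueField) ⊗ₜ[R] s i : p.ResidueField ⊗[R] S))).toRingHom.Finite := by
  classical
  obtain ⟨d, ψ, hinj, hfin⟩ := exists_finite_inj_algHom_of_fg p.ResidueField (p.ResidueField ⊗[R] S)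
  have hd : ringKrullDim (p.ResidueField ⊗[R] S) = (d : WithBot ℕ∞) := by
    rw [← Groth.Agent.H54.ringKrullDim_eq_of_ringHom_isIntegral_of_injective ψ.toRingHom
      hfin.to_isIntegral hinj, Groth.Agent.H54.ringKrullDim_mvPolynomial_fin_field]
  have hdn : d ≤ n := by
    rw [hd] at hdim
    exact_mod_cast hdim
  -- pad the variables
  let π : MvPolynomial (Fin n) p.ResidueField →ₐ[p.ResidueField] MvPolynomial (Fin d) p.ResidueField :=
    MvPolynomial.aeval (fun i : Fin n => if h : (i : ℕ) < d then MvPolynomial.X ⟨i, h⟩ else 0)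
  have hπ : Function.Surjective π := by
    intro x
    refine ⟨MvPolynomial.rename (Fin.castLE hdn) x, ?_⟩
    rw [MvPolynomial.aeval_rename]
    have : ((fun i : Fin n => if h : (i : ℕ) < d then
        (MvPolynomial.X ⟨i, h⟩ : MvPolynomial (Fin d) p.ResidueField) else 0) ∘ Fin.castLE hdn)
        = MvPolynomial.X := by
      funext j
      simp
    rw [this, MvPolynomial.aeval_X_left]
    rfl
  have hfin' : (ψ.comp π).toRingHom.Finite :=
    RingHom.Finite.comp (f := π.toRingHom) (g := ψ.toRingHom) hfin
      (RingHom.Finite.of_surjective _ hπ)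
  -- rescale
  choose b hb s hs using fun i : Fin n =>
    Ideal.Fiber.exists_smul_eq_one_tmul p ((ψ.comp π) (MvPolynomial.X i))
  refine ⟨s, ?_⟩
  let σ : MvPolynomial (Fin n) p.ResidueField →ₐ[p.ResidueField] MvPolynomial (Fin n) p.ResidueField :=
    MvPolynomial.aeval (fun i : Fin n =>
      MvPolynomial.C ((algebraMap R p.ResidueField (b i))⁻¹) * MvPolynomial.X i)
  have hcomp : ψ.comp π = (MvPolynomial.aeval (R := p.ResidueField)
      (fun i => ((1 : p.ResidueField) ⊗ₜ[R] s i : p.ResidueField ⊗[R] S))).comp σ := by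
    apply MvPolynomial.algHom_ext
    intro i
    have hbne : algebraMap R p.ResidueField (b i) ≠ 0 := by
      rw [Ne, Ideal.algebraMap_residueField_eq_zero]; exact hb i
    simp only [σ, AlgHom.comp_apply, MvPolynomial.aeval_X, map_mul, MvPolynomial.aeval_C]
    rw [← hs i, Algebra.smul_def, IsScalarTower.algebraMap_apply R p.ResidueField
      (p.ResidueField ⊗[R] S), ← mul_assoc, ← map_mul, inv_mul_cancel₀ hbne, map_one, one_mul]
    rfl
  rw [hcomp] at hfin'
  exact RingHom.Finite.of_comp_finite (f := σ.toRingHom) hfin'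

end lemmaB

section lemmaB2

universe u

variable {R S : Type u} [CommRing R] [CommRing S] [Algebra R S] [Algebra.FiniteType R S]

/-- If the fibre of `S` over `p` has dimension `≤ n` and `q` lies over `p`, there is an `R`-algebra map
`R[X_1, …, X_n] → S` which is quasi-finite at `q`. -/
theorem exists_quasiFiniteAt_of_fibre_dim_le (p : Ideal R) [p.IsPrime] (q : Ideal S) [q.IsPrime]
    [q.LiesOver p] (n : ℕ) (hdim : ringKrullDim (p.ResidueField ⊗[R] S) ≤ n) :
    ∃ φ : MvPolynomial (Fin n) R →ₐ[R] S,
      @Algebra.QuasiFiniteAt (MvPolynomial (Fin n) R) S _ _ φ.toRingHom.toAlgebra q _ := by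
  classical
  haveI : Nontrivial (p.ResidueField ⊗[R] S) :=
    (PrimeSpectrum.primesOverOrderIsoFiber R S p ⟨q, ‹_›, ‹_›⟩).nontrivial
  obtain ⟨s, hs⟩ := exists_finite_aeval_one_tmul (S := S) p n hdim
  let φ : MvPolynomial (Fin n) R →ₐ[R] S := MvPolynomial.aeval s
  refine ⟨φ, ?_⟩
  letI : Algebra (MvPolynomial (Fin n) R) S := φ.toRingHom.toAlgebra
  haveI : IsScalarTower R (MvPolynomial (Fin n) R) S :=
    IsScalarTower.of_algebraMap_eq' φ.comp_algebraMap.symm
  haveI : Algebra.FiniteType (MvPolynomial (Fin n) R) S :=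
    Algebra.FiniteType.of_restrictScalars_finiteType R _ _
  -- the map on fibres over `p` is finite
  have hM : (Algebra.TensorProduct.map (AlgHom.id p.ResidueField p.ResidueField)
      (IsScalarTower.toAlgHom R (MvPolynomial (Fin n) R) S)).toRingHom.Finite := by
    have hM' : Algebra.TensorProduct.map (AlgHom.id p.ResidueField p.ResidueField)
        (IsScalarTower.toAlgHom R (MvPolynomial (Fin n) R) S) =
        (MvPolynomial.aeval (R := p.ResidueField)
          (fun i => ((1 : p.ResidueField) ⊗ₜ[R] s i : p.ResidueField ⊗[R] S))).comp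
          (MvPolynomial.algebraTensorAlgEquiv R p.ResidueField).toAlgHom := by
      apply Algebra.TensorProduct.ext
      · ext
      · apply MvPolynomial.algHom_ext
        intro i
        simp only [AlgHom.comp_apply, AlgHom.coe_restrictScalars', Algebra.TensorProduct.includeRight_apply,
          Algebra.TensorProduct.map_tmul, map_one, IsScalarTower.coe_toAlgHom', AlgEquiv.toAlgHom_eq_coe,
          AlgHom.coe_coe, MvPolynomial.algebraTensorAlgEquiv_tmul, MvPolynomial.map_X, one_smul,
          MvPolynomial.aeval_X]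
        change (1 : p.ResidueField) ⊗ₜ[R] φ (MvPolynomial.X i) = _
        have h1 : (MvPolynomial.algebraTensorAlgEquiv R p.ResidueField)
            ((1 : p.ResidueField) ⊗ₜ[R] (MvPolynomial.X i : MvPolynomial (Fin n) R)) =
            MvPolynomial.X i := by
          rw [MvPolynomial.algebraTensorAlgEquiv_tmul, MvPolynomial.map_X, one_smul]
        rw [MvPolynomial.aeval_X]
        exact ((congrArg (MvPolynomial.aeval (R := p.ResidueField)
          (fun i => ((1 : p.ResidueField) ⊗ₜ[R] s i : p.ResidueField ⊗[R] S))) h1).trans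
          (MvPolynomial.aeval_X _ _)).symm
    rw [hM']
    exact RingHom.Finite.comp (f := (MvPolynomial.algebraTensorAlgEquiv R p.ResidueField).toAlgHom.toRingHom)
      hs (RingHom.Finite.of_surjective _ (MvPolynomial.algebraTensorAlgEquiv R p.ResidueField).surjective)
  -- the prime below `q`
  let P : Ideal (MvPolynomial (Fin n) R) := q.under (MvPolynomial (Fin n) R)
  haveI : P.IsPrime := inferInstance
  haveI : q.LiesOver P := inferInstance
  have hCP : ∀ r : R, algebraMap R P.ResidueField r = 0 ↔ r ∈ p := by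
    intro r
    rw [IsScalarTower.algebraMap_apply R (MvPolynomial (Fin n) R) P.ResidueField,
      Ideal.algebraMap_residueField_eq_zero, Ideal.mem_comap, ← IsScalarTower.algebraMap_apply,
      q.over_def p, Ideal.mem_comap]
  let j : p.ResidueField →ₐ[R] P.ResidueField :=
    Ideal.ResidueField.liftₐ p (Algebra.ofId R P.ResidueField)
      (fun r hr => (hCP r).mpr hr)
      (fun r hr => IsUnit.mk0 _ (fun h0 => hr ((hCP r).mp h0)))
  haveI hfinK : Module.Finite P.ResidueField (P.Fiber S) :=
    finite_tensor_of_finite_fibre (R := R) (A := MvPolynomial (Fin n) R) (S := S)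
      (κ := p.ResidueField) (K := P.ResidueField) j hM
  let q' : Ideal (P.Fiber S) :=
    (PrimeSpectrum.primesOverOrderIsoFiber (MvPolynomial (Fin n) R) S P ⟨q, ‹_›, ‹_›⟩).asIdeal
  have hq' : q = q'.comap Algebra.TensorProduct.includeRight.toRingHom :=
    congr($((PrimeSpectrum.primesOverOrderIsoFiber (MvPolynomial (Fin n) R) S P).symm_apply_apply
      ⟨q, ‹_›, ‹_›⟩).1).symm
  haveI : Algebra.QuasiFiniteAt P.ResidueField q' := inferInstance
  exact Algebra.QuasiFiniteAt.of_quasiFiniteAt_residueField P q q' hq'.symm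

end lemmaB2

section main

universe u

variable {R S : Type u} [CommRing R] [CommRing S] [Algebra R S] [Algebra.FiniteType R S]

/-- Stacks 10.125.2. -/
theorem main (p : Ideal R) [p.IsPrime] (q : Ideal S) [q.IsPrime] [q.LiesOver p]
    (Q : PrimeSpectrum (p.Fiber S))
    (hQ : Q.asIdeal.comap (Algebra.TensorProduct.includeRight.toRingHom) = q) (n : ℕ)
    (hdim : FlatMor.localDim (PrimeSpectrum (p.Fiber S)) Q ≤ (n : WithBot ℕ∞)) :
    ∃ g : S, g ∉ q ∧ ∃ φ : MvPolynomial (Fin n) R →ₐ[R] Localization.Away g,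
      φ.toRingHom.FiniteType ∧ φ.toRingHom.QuasiFinite := by
  classical
  obtain ⟨g₀, hg₀, hd⟩ := exists_away_fibre_dim_le p q Q hQ n hdim
  -- the prime of `S_{g₀}`
  have hdisj : Disjoint (Submonoid.powers g₀ : Set S) (q : Set S) := by
    rw [Set.disjoint_left]
    rintro x ⟨m, rfl⟩ hx
    exact hg₀ (Ideal.IsPrime.mem_of_pow_mem inferInstance m hx)
  let q₀ : Ideal (Localization.Away g₀) := q.map (algebraMap S (Localization.Away g₀))
  haveI hq₀ : q₀.IsPrime :=
    IsLocalization.isPrime_of_isPrime_disjoint (Submonoid.powers g₀) _ q inferInstance hdisj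
  have hq₀c : q₀.comap (algebraMap S (Localization.Away g₀)) = q :=
    IsLocalization.comap_map_of_isPrime_disjoint (Submonoid.powers g₀) _ inferInstance hdisj
  haveI : q₀.LiesOver p := ⟨by
    rw [Ideal.under, IsScalarTower.algebraMap_eq R S (Localization.Away g₀), ← Ideal.comap_comap,
      hq₀c]
    exact q.over_def p⟩
  haveI : Algebra.FiniteType R (Localization.Away g₀) :=
    Algebra.FiniteType.trans (inferInstance : Algebra.FiniteType R S)
      (IsLocalization.finiteType_of_monoid_fg (Submonoid.powers g₀) _)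
  obtain ⟨φ₀, hφ₀⟩ := exists_quasiFiniteAt_of_fibre_dim_le (S := Localization.Away g₀) p q₀ n hd
  letI : Algebra (MvPolynomial (Fin n) R) (Localization.Away g₀) := φ₀.toRingHom.toAlgebra
  haveI : IsScalarTower R (MvPolynomial (Fin n) R) (Localization.Away g₀) :=
    IsScalarTower.of_algebraMap_eq' φ₀.comp_algebraMap.symm
  haveI : Algebra.FiniteType (MvPolynomial (Fin n) R) (Localization.Away g₀) :=
    Algebra.FiniteType.of_restrictScalars_finiteType R _ _
  obtain ⟨r, hr, hqf⟩ := Groth.Agent.H3.QuasiFiniteAway.exists_away_quasiFinite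
    (A := MvPolynomial (Fin n) R) q₀
  obtain ⟨m, r', hr'⟩ := IsLocalization.Away.surj g₀ r
  have hu : IsUnit (algebraMap S (Localization.Away g₀) g₀ ^ m) :=
    (IsLocalization.Away.algebraMap_isUnit g₀).pow m
  have hass : Associated (algebraMap S (Localization.Away g₀) r') r :=
    Associated.symm (show Associated r (algebraMap S (Localization.Away g₀) r') from
      ⟨hu.unit, hr'⟩)
  have hr'q : r' ∉ q := by
    intro h
    have h1 : algebraMap S (Localization.Away g₀) r' ∈ q₀ := Ideal.mem_map_of_mem _ h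
    rw [← hr'] at h1
    rcases hq₀.mem_or_mem h1 with h2 | h2
    · exact hr h2
    · exact hq₀.ne_top (Ideal.eq_top_of_isUnit_mem _ h2 hu)
  haveI : IsLocalization.Away (g₀ * r') (Localization.Away r) :=
    IsLocalization.Away.mul_of_associated g₀ r' r hass
  refine ⟨g₀ * r', fun h => (Ideal.IsPrime.mem_or_mem inferInstance h).elim hg₀ hr'q, ?_⟩
  let e : Localization.Away (g₀ * r') ≃ₐ[S] Localization.Away r :=
    IsLocalization.algEquiv (Submonoid.powers (g₀ * r')) _ _
  let φT : MvPolynomial (Fin n) R →ₐ[R] Localization.Away r :=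
    IsScalarTower.toAlgHom R (MvPolynomial (Fin n) R) (Localization.Away r)
  let φ : MvPolynomial (Fin n) R →ₐ[R] Localization.Away (g₀ * r') :=
    ((e.symm.restrictScalars R : Localization.Away r ≃ₐ[R] _) : Localization.Away r →ₐ[R] _).comp φT
  refine ⟨φ, ?_, ?_⟩
  · haveI : Algebra.FiniteType R (Localization.Away (g₀ * r')) :=
      Algebra.FiniteType.trans (inferInstance : Algebra.FiniteType R S)
        (IsLocalization.finiteType_of_monoid_fg (Submonoid.powers (g₀ * r')) _)
    have h1 : (algebraMap R (Localization.Away (g₀ * r'))).FiniteType :=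
      RingHom.finiteType_algebraMap.mpr inferInstance
    rw [← φ.comp_algebraMap] at h1
    exact RingHom.FiniteType.of_comp_finiteType h1
  · have h1 : (algebraMap (MvPolynomial (Fin n) R) (Localization.Away r)).QuasiFinite :=
      RingHom.quasiFinite_algebraMap.mpr hqf
    have h2 : (e.symm : Localization.Away r →+* Localization.Away (g₀ * r')).QuasiFinite :=
      RingHom.QuasiFinite.of_finite (RingHom.Finite.of_surjective _ e.symm.surjective)
    exact RingHom.QuasiFinite.comp h2 h1

end main

end Groth.Agent.H46.FibDimQF
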