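import Mathlib
import Groth.Prelude.Def_RegImm
import Groth.Agent.H46.TensorAway

/-!
# Syntomic is local on the target ring
-/

set_option autoImplicit false
universe u

open TensorProduct

namespace Groth.Agent.H46

theorem isGlobalCI_of_algEquiv {k S S' : Type u} [Field k] [CommRing S] [CommRing S'] [Algebra k S]
    [Algebra k S'] (e : S ≃ₐ[k] S') (h : Synt.IsGlobalCI k S) : Synt.IsGlobalCI k S' := by
  rcases h with hsub | ⟨n, c, hcn, φ, r, hsurj, hker, hdim⟩
  · exact Or.inl e.symm.injective.subsingleton
  · refine Or.inr ⟨n, c, hcn, e.toAlgHom.comp φ, r, e.surjective.comp hsurj, ?_, ?_⟩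
    · rw [← hker]
      ext x
      simp only [RingHom.mem_ker]
      change e (φ x) = 0 ↔ φ x = 0
      exact e.map_eq_zero_iff
    · rw [← hdim]
      exact (ringKrullDim_eq_of_ringEquiv e.toRingEquiv).symm

theorem isLCIOver_fiber_of_span (R S : Type u) [CommRing R] [CommRing S] [Algebra R S]
    (s : Finset S) (hs : Ideal.span (s : Set S) = ⊤) (p : PrimeSpectrum R)
    [Algebra.FiniteType R S]
    (h : ∀ g ∈ s, Synt.IsLCIOver p.asIdeal.ResidueField (p.asIdeal.Fiber (Localization.Away g))) :
    Synt.IsLCIOver p.asIdeal.ResidueField (p.asIdeal.Fiber S) := by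
  classical
  refine ⟨inferInstance, fun P => ?_⟩
  -- find `g ∈ s` with `1 ⊗ g ∉ P`
  have hex : ∃ g ∈ s, ((1 : p.asIdeal.ResidueField) ⊗ₜ[R] g) ∉ P.asIdeal := by
    by_contra hcon
    push Not at hcon
    have hle : Ideal.map (Algebra.TensorProduct.includeRight :
        S →ₐ[R] p.asIdeal.ResidueField ⊗[R] S).toRingHom (Ideal.span (s : Set S)) ≤ P.asIdeal := by
      rw [Ideal.map_span, Ideal.span_le]
      rintro _ ⟨g, hg, rfl⟩
      exact hcon g hg
    rw [hs, Ideal.map_top] at hle
    exact P.isPrime.ne_top (top_le_iff.mp hle)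
  obtain ⟨g, hg, hgP⟩ := hex
  set κ := p.asIdeal.ResidueField with hκ
  set F := κ ⊗[R] S with hF
  set Sg := Localization.Away g with hSg
  set F' := κ ⊗[R] Sg with hF'
  set g' : F := (1 : κ) ⊗ₜ[R] g with hg'
  let _ : Algebra F F' := (tensorAwayMap R κ S Sg).toRingHom.toAlgebra
  have hloc : IsLocalization.Away g' F' := isLocalization_away_tensor R κ S Sg g
  have hFalg : ∀ x : F, algebraMap F F' x = tensorAwayMap R κ S Sg x := fun x => rfl
  have tκ : IsScalarTower κ F F' := IsScalarTower.of_algebraMap_eq fun k => by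
    rw [hFalg]
    exact ((tensorAwayMap R κ S Sg).commutes k).symm
  -- the prime `P'`
  have hdisj : Disjoint (Submonoid.powers g' : Set F) (P.asIdeal : Set F) := by
    rw [Set.disjoint_left]
    rintro _ ⟨n, rfl⟩ hn
    exact hgP (P.isPrime.mem_of_pow_mem n hn)
  have hP'prime : (Ideal.map (algebraMap F F') P.asIdeal).IsPrime :=
    IsLocalization.isPrime_of_isPrime_disjoint (Submonoid.powers g') F' P.asIdeal P.isPrime hdisj
  have hcomap : Ideal.comap (algebraMap F F') (Ideal.map (algebraMap F F') P.asIdeal) =
      P.asIdeal :=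
    IsLocalization.under_map_of_isPrime_disjoint (Submonoid.powers g') F' P.isPrime hdisj
  obtain ⟨h', hh'P', hCI⟩ := (h g hg).2 ⟨Ideal.map (algebraMap F F') P.asIdeal, hP'prime⟩
  -- numerator of `h'`
  set a : F := (IsLocalization.Away.sec g' h').1 with ha
  have hassoc : Associated (algebraMap F F' a) h' := IsLocalization.Away.associated_sec_fst g' h'
  have haP : a ∉ P.asIdeal := by
    intro haP
    apply hh'P'
    obtain ⟨u, hu⟩ := hassoc
    change h' ∈ Ideal.map (algebraMap F F') P.asIdeal
    rw [← hu]
    exact Ideal.mul_mem_right _ _ (Ideal.mem_map_of_mem _ haP)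
  refine ⟨g' * a, fun hmem => ?_, ?_⟩
  · rcases P.isPrime.mem_or_mem hmem with h1 | h1
    · exact hgP h1
    · exact haP h1
  · set T := Localization.Away h' with hT
    have tF : IsScalarTower F F' T := inferInstance
    have hlocT : IsLocalization.Away (g' * a) T :=
      IsLocalization.Away.mul_of_associated g' a h' hassoc
    have tκT : IsScalarTower κ F T := IsScalarTower.of_algebraMap_eq fun k => by
      rw [IsScalarTower.algebraMap_apply F F' T, ← IsScalarTower.algebraMap_apply κ F F',
        ← IsScalarTower.algebraMap_apply κ F' T]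
    let e : Localization.Away (g' * a) ≃ₐ[F] T :=
      IsLocalization.algEquiv (Submonoid.powers (g' * a)) _ _
    exact isGlobalCI_of_algEquiv (e.restrictScalars κ).symm hCI

theorem isSyntomic_of_span (R S : Type u) [CommRing R] [CommRing S] [Algebra R S]
    (s : Finset S) (hs : Ideal.span (s : Set S) = ⊤)
    (h : ∀ g ∈ s, Synt.IsSyntomic R (Localization.Away g)) : Synt.IsSyntomic R S := by
  have hflat : Module.Flat R S := by
    rw [← RingHom.flat_algebraMap_iff]
    refine RingHom.Flat.ofLocalizationSpanTarget (algebraMap R S) (s : Set S) hs fun r => ?_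
    change RingHom.Flat _
    rw [← IsScalarTower.algebraMap_eq, RingHom.flat_algebraMap_iff]
    exact (h r.1 r.2).1
  have hfp : Algebra.FinitePresentation R S := by
    rw [← RingHom.finitePresentation_algebraMap]
    refine RingHom.finitePresentation_ofLocalizationSpanTarget (algebraMap R S) (s : Set S) hs
      fun r => ?_
    change RingHom.FinitePresentation _
    rw [← IsScalarTower.algebraMap_eq, RingHom.finitePresentation_algebraMap]
    exact (h r.1 r.2).2.1
  refine ⟨hflat, hfp, fun p => ?_⟩
  exact isLCIOver_fiber_of_span R S s hs p fun g hg => (h g hg).2.2 p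

end Groth.Agent.H46
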