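import Mathlib
import Groth.Agent.H24.Catenary

/-!
# Saturated chains in posets where all maximal saturated chains have the same length
-/

namespace Groth.Agent.H46

open Groth.Agent.H24

variable {α : Type*} [PartialOrder α]

theorem SatSeries.length_le_height_last (t : SatSeries α) :
    (t.length : ℕ∞) ≤ Order.height t.last := by
  have := Order.length_le_height_last (p := t.toLT)
  simpa using this

variable [WellFoundedLT α] [WellFoundedGT α]

theorem satSeries_length_eq_height (bot : α) (hbot : ∀ a, bot ≤ a) (IsMx : α → Prop)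
    (hmax : ∀ a, ∃ m, a ≤ m ∧ IsMx m) (D : ℕ)
    (hD : ∀ t : SatSeries α, t.head = bot → IsMx t.last → t.length = D)
    (t : SatSeries α) (ht : t.head = bot) : (t.length : ℕ∞) = Order.height t.last := by
  apply le_antisymm (SatSeries.length_le_height_last t)
  rw [Order.height_le_iff']
  intro c hc
  obtain ⟨m, hm, hmm⟩ := hmax t.last
  obtain ⟨b, hbh, hbl⟩ := exists_satSeries_of_le hm
  obtain ⟨c', hc'h, hc'l, hc'len⟩ : ∃ c' : LTSeries α, c'.head = bot ∧ c'.last = t.last ∧
      c.length ≤ c'.length := by
    by_cases h : c.head = bot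
    · exact ⟨c, h, hc, le_rfl⟩
    · have hlt : bot < c.head := lt_of_le_of_ne (hbot _) (Ne.symm h)
      exact ⟨c.cons bot hlt, by simp, by simpa using hc, by simp⟩
  obtain ⟨c'', h1, h2, h3⟩ := exists_satSeries_refine c'
  have e1 := hD (c''.smash b (by rw [h2, hc'l, hbh])) (by simp [h1, hc'h])
    (by simpa [hbl] using hmm)
  have e2 := hD (t.smash b (by rw [hbh])) (by simp [ht]) (by simpa [hbl] using hmm)
  simp only [RelSeries.smash_length] at e1 e2
  have e3 : c''.length = t.length := by omega
  have e4 : c.length ≤ t.length := (hc'len.trans h3).trans e3.le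
  exact_mod_cast e4

theorem satSeries_length_add_height (bot : α) (hbot : ∀ a, bot ≤ a) (IsMx : α → Prop)
    (hmax : ∀ a, ∃ m, a ≤ m ∧ IsMx m) (D : ℕ)
    (hD : ∀ t : SatSeries α, t.head = bot → IsMx t.last → t.length = D)
    (s : SatSeries α) : (s.length : ℕ∞) + Order.height s.head = Order.height s.last := by
  obtain ⟨a, hah, hal⟩ := exists_satSeries_of_le (hbot s.head)
  have h1 := satSeries_length_eq_height bot hbot IsMx hmax D hD a hah
  have h2 := satSeries_length_eq_height bot hbot IsMx hmax D hD (a.smash s hal) (by simp [hah])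
  simp only [RelSeries.smash_length, RelSeries.last_smash] at h2
  rw [hal] at h1
  rw [← h1, ← h2]
  push_cast
  rw [add_comm]

end Groth.Agent.H46
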