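import Mathlib
import Groth.Prelude.Def_RegImm
import Groth.Agent.H46.SyntomicLocal
import Groth.Agent.S9153
import Groth.Agent.H14.DimTrdeg

/-!
# Global / local complete intersections over a field are stable under principal localization
-/

set_option autoImplicit false
universe u

namespace Groth.Agent.H46.GCILoc

open MvPolynomial

/-- A presentation of `S_g` with one more variable and one more relation. -/
theorem exists_presentation_away {k S : Type u} [CommRing k] [CommRing S] [Algebra k S] (g : S)
    (n c : ℕ) (φ : MvPolynomial (Fin n) k →ₐ[k] S) (r : Fin c → MvPolynomial (Fin n) k)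
    (hsurj : Function.Surjective φ) (hker : RingHom.ker φ.toRingHom = Ideal.span (Set.range r)) :
    ∃ (φ' : MvPolynomial (Fin (n + 1)) k →ₐ[k] Localization.Away g)
      (r' : Fin (c + 1) → MvPolynomial (Fin (n + 1)) k),
      Function.Surjective φ' ∧ RingHom.ker φ'.toRingHom = Ideal.span (Set.range r') := by
  let P : Algebra.Presentation k S (Fin n) (Fin c) :=
    { toGenerators := Algebra.Generators.ofAlgHom φ hsurj
      relation := r
      span_range_relation_eq_ker := by
        rw [Algebra.Generators.ker_eq_ker_aeval_val, ← hker]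
        have : (aeval (Algebra.Generators.ofAlgHom φ hsurj).val : MvPolynomial (Fin n) k →ₐ[k] S)
            = φ := by
          apply MvPolynomial.algHom_ext
          intro i
          simp [Algebra.Generators.ofAlgHom]
        rw [this]
        rfl }
  let Q := Algebra.Presentation.localizationAway (Localization.Away g) g
  let QP := Q.comp P
  let e : Fin (n + 1) ≃ Unit ⊕ Fin n := Fintype.equivOfCardEq (by simp [add_comm])
  let f : Fin (c + 1) ≃ Unit ⊕ Fin c := Fintype.equivOfCardEq (by simp [add_comm])
  let R' := QP.reindex e f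
  refine ⟨aeval R'.val, R'.relation, R'.aeval_val_surjective, ?_⟩
  rw [R'.span_range_relation_eq_ker, Algebra.Generators.ker_eq_ker_aeval_val]
  rfl

theorem ringKrullDim_away_le {S : Type u} [CommRing S] (g : S) :
    ringKrullDim (Localization.Away g) ≤ ringKrullDim S := by
  refine Order.krullDim_le_of_strictMono
    (PrimeSpectrum.comap (algebraMap S (Localization.Away g))) ?_
  intro a b hab
  refine lt_of_le_of_ne ?_ ?_
  · exact Ideal.comap_mono (le_of_lt hab)
  · intro h
    exact (ne_of_lt hab)
      (PrimeSpectrum.localization_comap_injective (Localization.Away g) (Submonoid.powers g) h)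

/-- The key lower bound: a nonzero principal localization of `k[x_1..x_n]/(f_1..f_c)` has
dimension at least `n - c`. -/
theorem le_ringKrullDim_away {k S : Type u} [Field k] [CommRing S] [Algebra k S] (g : S)
    [Nontrivial (Localization.Away g)]
    (n c : ℕ) (φ : MvPolynomial (Fin n) k →ₐ[k] S) (r : Fin c → MvPolynomial (Fin n) k)
    (hsurj : Function.Surjective φ) (hker : RingHom.ker φ.toRingHom = Ideal.span (Set.range r)) :
    ((n - c : ℕ) : WithBot ℕ∞) ≤ ringKrullDim (Localization.Away g) := by
  classical
  let A := MvPolynomial (Fin n) k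
  let Sg := Localization.Away g
  have _i1 : WellFoundedLT (PrimeSpectrum A) := Groth.Agent.H24.wellFoundedLT_primeSpectrum
  have _i2 : WellFoundedGT (PrimeSpectrum A) := Groth.Agent.H24.wellFoundedGT_primeSpectrum
  obtain ⟨G, hG⟩ := hsurj g
  let ψ : A →+* Sg := (algebraMap S Sg).comp φ.toRingHom
  let f : PrimeSpectrum Sg → PrimeSpectrum A := PrimeSpectrum.comap ψ
  -- `f` reflects the order
  have hfle : ∀ a b : PrimeSpectrum Sg, f a ≤ f b → a ≤ b := by
    intro a b hab
    have h1 : Ideal.comap (algebraMap S Sg) a.asIdeal ≤ Ideal.comap (algebraMap S Sg) b.asIdeal := by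
      intro x hx
      obtain ⟨y, rfl⟩ := hsurj x
      have : y ∈ (f a).asIdeal := hx
      exact hab this
    have h2 := Ideal.map_mono (f := algebraMap S Sg) h1
    rwa [IsLocalization.map_under (Submonoid.powers g) Sg,
      IsLocalization.map_under (Submonoid.powers g) Sg] at h2
  -- the range of `f`
  have hrange : ∀ p : PrimeSpectrum A, RingHom.ker φ.toRingHom ≤ p.asIdeal → G ∉ p.asIdeal →
      p ∈ Set.range f := by
    intro p hp hGp
    have h1 : p ∈ Set.range (PrimeSpectrum.comap φ.toRingHom) := by
      rw [_root_.range_comap_of_surjective _ _ hsurj]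
      exact hp
    obtain ⟨p1, rfl⟩ := h1
    have h2 : p1 ∈ Set.range (PrimeSpectrum.comap (algebraMap S Sg)) := by
      rw [PrimeSpectrum.localization_away_comap_range Sg g]
      intro hg
      apply hGp
      change φ G ∈ p1.asIdeal
      rw [hG]
      exact hg
    obtain ⟨p2, rfl⟩ := h2
    exact ⟨p2, rfl⟩
  -- a prime in the range
  obtain ⟨q0⟩ : Nonempty (PrimeSpectrum Sg) := inferInstance
  have hq0ker : RingHom.ker φ.toRingHom ≤ (f q0).asIdeal := by
    intro x hx
    change ψ x ∈ q0.asIdeal
    have : ψ x = 0 := by
      change algebraMap S Sg (φ x) = 0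
      rw [show φ x = 0 from hx, map_zero]
    rw [this]
    exact zero_mem _
  have hq0G : G ∉ (f q0).asIdeal := by
    intro hmem
    have h1 : algebraMap S Sg g ∈ q0.asIdeal := by
      have h0 : algebraMap S Sg (φ G) ∈ q0.asIdeal := hmem
      rwa [hG] at h0
    exact q0.isPrime.ne_top
      (Ideal.eq_top_of_isUnit_mem _ h1 (IsLocalization.Away.algebraMap_isUnit g))
  -- minimal prime
  obtain ⟨P', hP'min, hP'le⟩ := Ideal.exists_minimalPrimes_le hq0ker
  have hP'prime : P'.IsPrime := hP'min.1.1
  have hGP' : G ∉ P' := fun h => hq0G (hP'le h)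
  have hht : P'.height ≤ c := by
    have hmin' : P' ∈ (Ideal.span ((Finset.univ.image r : Finset A) : Set A)).minimalPrimes := by
      rw [Finset.coe_image, Finset.coe_univ, Set.image_univ, ← hker]
      exact hP'min
    refine (Ideal.height_le_card_of_mem_minimalPrimes_span_finset hmin').trans ?_
    have : (Finset.univ.image r).card ≤ c := by
      refine Finset.card_image_le.trans ?_
      simp
    exact_mod_cast this
  -- a maximal ideal avoiding `G`
  obtain ⟨m, hP'm, hmmax, hGm⟩ : ∃ m : Ideal A, P' ≤ m ∧ m.IsMaximal ∧ G ∉ m := by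
    have hjac : P'.jacobson = P' := IsJacobsonRing.out' P' hP'prime.isRadical
    by_contra hcon
    push Not at hcon
    apply hGP'
    rw [← hjac, Ideal.jacobson, Ideal.mem_sInf]
    rintro J ⟨hJ1, hJ2⟩
    exact hcon J hJ1 hJ2
  let x0 : PrimeSpectrum A := ⟨P', hP'prime⟩
  let x1 : PrimeSpectrum A := ⟨m, hmmax.isPrime⟩
  have hx01 : x0 ≤ x1 := hP'm
  obtain ⟨t, hth, htl⟩ := Groth.Agent.H24.exists_satSeries_of_le hx01
  have hlen := Groth.Agent.S9153.result k n t.toLT t.toLT_covBy
  rw [Groth.Agent.H24.SatSeries.toLT_head, Groth.Agent.H24.SatSeries.toLT_last, hth, htl] at hlen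
  have hmht : (m.height : WithBot ℕ∞) = (n : WithBot ℕ∞) := by
    rw [Groth.Agent.H14.height_of_isMaximal_of_finiteType_domain k A m,
      Groth.Agent.H54.ringKrullDim_mvPolynomial_fin_field]
  have hmht' : m.height = (n : ℕ∞) := by exact_mod_cast hmht
  change ((t.toLT.length : ℕ) : ℕ∞) + P'.height = m.height at hlen
  rw [hmht', Groth.Agent.H24.SatSeries.toLT_length] at hlen
  have hlen2 : n - c ≤ t.length := by
    obtain ⟨h', hh'⟩ := ENat.ne_top_iff_exists.mp (ne_top_of_le_ne_top (ENat.natCast_ne_top c) hht)
    rw [← hh'] at hlen hht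
    have e1 : t.length + h' = n := by exact_mod_cast hlen
    have e2 : h' ≤ c := by exact_mod_cast hht
    omega
  -- lift the chain
  have hmem : ∀ i : Fin (t.length + 1), t.toLT i ∈ Set.range f := by
    intro i
    have h1 : x0 ≤ t.toLT i := by
      have := LTSeries.head_le t.toLT i
      rwa [Groth.Agent.H24.SatSeries.toLT_head, hth] at this
    have h2 : t.toLT i ≤ x1 := by
      have := t.toLT.monotone (Fin.le_last i)
      change t.toLT i ≤ t.toLT.last at this
      rwa [Groth.Agent.H24.SatSeries.toLT_last, htl] at this
    refine hrange _ (hP'min.1.2.trans h1) (fun hG' => hGm (h2 hG'))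
  choose q hq using hmem
  have hqmono : StrictMono q := by
    intro i j hij
    have h1 : t.toLT i < t.toLT j := t.toLT.strictMono hij
    rw [← hq i, ← hq j] at h1
    refine lt_of_le_of_ne (hfle _ _ h1.le) ?_
    intro h
    rw [h] at h1
    exact lt_irrefl _ h1
  have hfin := Order.LTSeries.length_le_krullDim (LTSeries.mk t.length q hqmono)
  change ((t.length : ℕ) : WithBot ℕ∞) ≤ ringKrullDim Sg at hfin
  refine le_trans ?_ hfin
  exact_mod_cast hlen2

theorem isGlobalCI_away {k S : Type u} [Field k] [CommRing S] [Algebra k S] (g : S)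
    (h : Synt.IsGlobalCI k S) : Synt.IsGlobalCI k (Localization.Away g) := by
  rcases h with hsub | ⟨n, c, hcn, φ, r, hsurj, hker, hdim⟩
  · left
    refine subsingleton_of_zero_eq_one ?_
    rw [← map_zero (algebraMap S (Localization.Away g)),
      ← map_one (algebraMap S (Localization.Away g))]
    exact congrArg _ (Subsingleton.elim _ _)
  · by_cases hnt : Subsingleton (Localization.Away g)
    · exact Or.inl hnt
    · have : Nontrivial (Localization.Away g) := not_subsingleton_iff_nontrivial.mp hnt
      obtain ⟨φ', r', hs', hk'⟩ := exists_presentation_away g n c φ r hsurj hker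
      refine Or.inr ⟨n + 1, c + 1, by omega, φ', r', hs', hk', ?_⟩
      have e : n + 1 - (c + 1) = n - c := by omega
      rw [e]
      apply le_antisymm
      · rw [← hdim]
        exact ringKrullDim_away_le g
      · exact le_ringKrullDim_away g n c φ r hsurj hker

theorem isLCIOver_away {k S : Type u} [Field k] [CommRing S] [Algebra k S]
    [Algebra.FiniteType k S] (g : S)
    (h : Synt.IsLCIOver k S) : Synt.IsLCIOver k (Localization.Away g) := by
  refine ⟨?_, fun q => ?_⟩
  · exact Algebra.FiniteType.trans (S := S) inferInstance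
      (IsLocalization.finiteType_of_monoid_fg (Submonoid.powers g) _)
  · obtain ⟨h', hh'p, hCI⟩ := h.2 (PrimeSpectrum.comap (algebraMap S (Localization.Away g)) q)
    refine ⟨algebraMap S (Localization.Away g) h', hh'p, ?_⟩
    have hT2 := isGlobalCI_away (algebraMap S (Localization.Away h') g) hCI
    have l1 : IsLocalization.Away (g * h')
        (Localization.Away (algebraMap S (Localization.Away g) h')) := inferInstance
    have l2 : IsLocalization.Away (g * h')
        (Localization.Away (algebraMap S (Localization.Away h') g)) := inferInstance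
    let e : Localization.Away (algebraMap S (Localization.Away h') g) ≃ₐ[S]
        Localization.Away (algebraMap S (Localization.Away g) h') :=
      IsLocalization.algEquiv (Submonoid.powers (g * h')) _ _
    exact Groth.Agent.H46.isGlobalCI_of_algEquiv (e.restrictScalars k) hT2

end Groth.Agent.H46.GCILoc
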