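import Mathlib
import Groth.Prelude.Def_RegImm
import Groth.Prelude.Def_CAlg
import Groth.Agent.H46.GCILoc
import Groth.Agent.H81.CIGor2
import Groth.Agent.H49.CMLocalize
import Groth.Agent.H72.CMLocal
import Groth.Agent.H39.RegularCrit
import Groth.Agent.S0341
import Groth.Agent.S0342

/-!
# Complete intersections over a field: local algebra
-/

set_option autoImplicit false
set_option linter.style.haveILetI false
universe u

namespace Groth.Agent.H46.CIField

open RingTheory.Sequence IsLocalRing

/-- a regular local ring is Cohen–Macaulay -/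
theorem isCM_of_isRegularLocalRing (A : Type u) [CommRing A] [IsRegularLocalRing A] :
    LocCoh.IsCohenMacaulayLocalRing A :=
  haveI := Groth.Agent.S0342.result A
  Groth.Agent.S0341.result A

/-- a Cohen–Macaulay local ring modulo a regular sequence in the maximal ideal is
Cohen–Macaulay -/
theorem isCM_quotient_ofList (A : Type u) [CommRing A] (hA : LocCoh.IsCohenMacaulayLocalRing A)
    (xs : List A) (hxs : ∀ x ∈ xs, x ∈ @maximalIdeal A _ hA.toIsLocalRing)
    (hreg : IsWeaklyRegular A xs) :
    LocCoh.IsCohenMacaulayLocalRing (A ⧸ Ideal.ofList xs) := by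
  haveI : IsLocalRing A := hA.toIsLocalRing
  haveI : IsNoetherianRing A := hA.toIsNoetherian
  have hle : Ideal.ofList xs ≤ maximalIdeal A := by
    unfold Ideal.ofList
    rw [Ideal.span_le]
    intro x hx
    exact hxs x hx
  have hI : Ideal.ofList xs ≠ ⊤ := fun h =>
    (Ideal.IsPrime.ne_top' (I := maximalIdeal A)) (top_le_iff.mp (h ▸ hle))
  haveI : Nontrivial (A ⧸ Ideal.ofList xs) := Ideal.Quotient.nontrivial_iff.mpr hI
  haveI : IsLocalRing (A ⧸ Ideal.ofList xs) :=
    IsLocalRing.of_surjective' (Ideal.Quotient.mk _) Ideal.Quotient.mk_surjective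
  have hM : LocCoh.IsCohenMacaulayModule A A := hA.supportDim_eq_depth
  have h1 := Groth.Agent.H29.CML.isCM_quotient_of_isWeaklyRegular xs A hM hxs hreg
  have e : (A ⧸ (Ideal.ofList xs • ⊤ : Submodule A A)) ≃ₗ[A] (A ⧸ Ideal.ofList xs) :=
    Submodule.quotEquivOfEq _ _ (by simp)
  have h2 := Groth.Agent.H29.CML.isCM_of_equiv e h1
  rw [Groth.Agent.H72.FlatCM.isCohenMacaulayLocalRing_iff]
  unfold LocCoh.IsCohenMacaulayModule at h2
  rw [← Groth.Agent.H72.FlatCM.depth_quotient_eq (Ideal.ofList xs) hI, ← h2,
    Module.supportDim_quotient_eq_ringKrullDim]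

/-- chains of primes containing the kernel of a surjection bound the dimension of the target -/
theorem length_le_ringKrullDim_of_surjective {A S : Type*} [CommRing A] [CommRing S] (f : A →+* S)
    (hf : Function.Surjective f) (t : LTSeries (PrimeSpectrum A))
    (h : ∀ i, RingHom.ker f ≤ (t i).asIdeal) : (t.length : WithBot ℕ∞) ≤ ringKrullDim S := by
  have hmem : ∀ i : Fin (t.length + 1), t i ∈ Set.range (PrimeSpectrum.comap f) := by
    intro i
    rw [_root_.range_comap_of_surjective _ _ hf]
    exact h i
  choose q hq using hmem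
  have hqmono : StrictMono q := by
    intro i j hij
    have h1 : t i < t j := t.strictMono hij
    rw [← hq i, ← hq j] at h1
    refine lt_of_le_of_ne ?_ ?_
    · intro x hx
      obtain ⟨y, rfl⟩ := hf x
      exact h1.le hx
    · intro h
      rw [h] at h1
      exact lt_irrefl _ h1
  exact Order.LTSeries.length_le_krullDim (LTSeries.mk t.length q hqmono)

/-- transfer of Cohen–Macaulayness from `A_{q'} / I A_{q'}` to `(A/I)_q` -/
theorem isCM_atPrime_of_quotient_localization {A T L : Type u} [CommRing A] [CommRing T]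
    [CommRing L] [Algebra A L] (φ : A →+* T) (hφ : Function.Surjective φ) (p : Ideal T)
    [hp : p.IsPrime] [hL : IsLocalization.AtPrime L (p.comap φ)]
    (hCM' : LocCoh.IsCohenMacaulayLocalRing (L ⧸ (RingHom.ker φ).map (algebraMap A L))) :
    LocCoh.IsCohenMacaulayLocalRing (Localization.AtPrime p) := by
  let ψ : A →+* L ⧸ (RingHom.ker φ).map (algebraMap A L) :=
    (Ideal.Quotient.mk _).comp (algebraMap A L)
  have hψ : RingHom.ker φ ≤ RingHom.ker ψ := by
    intro x hx
    rw [RingHom.mem_ker]
    change Ideal.Quotient.mk _ (algebraMap A L x) = 0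
    rw [Ideal.Quotient.eq_zero_iff_mem]
    exact Ideal.mem_map_of_mem _ hx
  let lift : T →+* L ⧸ (RingHom.ker φ).map (algebraMap A L) :=
    RingHom.liftOfSurjective φ hφ ⟨ψ, hψ⟩
  letI : Algebra T (L ⧸ (RingHom.ker φ).map (algebraMap A L)) := lift.toAlgebra
  have H : (Ideal.Quotient.mk ((RingHom.ker φ).map (algebraMap A L))).comp (algebraMap A L) =
      (algebraMap T (L ⧸ (RingHom.ker φ).map (algebraMap A L))).comp φ :=
    (RingHom.liftOfSurjective_comp φ hφ ⟨ψ, hψ⟩).symm
  have hloc : IsLocalization ((p.comap φ).primeCompl.map φ)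
      (L ⧸ (RingHom.ker φ).map (algebraMap A L)) :=
    IsLocalization.of_surjective (p.comap φ).primeCompl L φ hφ (Ideal.Quotient.mk _)
      Ideal.Quotient.mk_surjective H (by rw [Ideal.mk_ker])
  have hmap : (p.comap φ).primeCompl.map φ = p.primeCompl := by
    ext x
    constructor
    · rintro ⟨y, hy, rfl⟩
      exact hy
    · intro hx
      obtain ⟨y, rfl⟩ := hφ x
      exact ⟨y, hx, rfl⟩
  rw [hmap] at hloc
  have hloc' : IsLocalization.AtPrime (L ⧸ (RingHom.ker φ).map (algebraMap A L)) p := hloc
  let e : (L ⧸ (RingHom.ker φ).map (algebraMap A L)) ≃+* Localization.AtPrime p :=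
    (IsLocalization.algEquiv p.primeCompl (L ⧸ (RingHom.ker φ).map (algebraMap A L))
      (Localization.AtPrime p)).toRingEquiv
  exact Groth.Agent.H49.isCohenMacaulayLocalRing_of_ringEquiv e hCM'

section Poly

variable (k : Type u) [Field k] (n : ℕ)

/-- the dimension formula in a polynomial ring over a field -/
theorem ringKrullDim_quotient_add_height (P : Ideal (MvPolynomial (Fin n) k)) [hP : P.IsPrime] :
    ringKrullDim (MvPolynomial (Fin n) k ⧸ P) + (P.height : WithBot ℕ∞) = (n : WithBot ℕ∞) := by
  have _i1 : WellFoundedLT (PrimeSpectrum (MvPolynomial (Fin n) k)) :=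
    Groth.Agent.H24.wellFoundedLT_primeSpectrum
  have _i2 : WellFoundedGT (PrimeSpectrum (MvPolynomial (Fin n) k)) :=
    Groth.Agent.H24.wellFoundedGT_primeSpectrum
  apply le_antisymm
  · have := Groth.Agent.H39.height_add_ringKrullDim_quotient_le P
    rw [Groth.Agent.H54.ringKrullDim_mvPolynomial_fin_field, add_comm] at this
    exact this
  · obtain ⟨m, hm, hPm⟩ := Ideal.exists_le_maximal P hP.ne_top
    let x0 : PrimeSpectrum (MvPolynomial (Fin n) k) := ⟨P, hP⟩
    let x1 : PrimeSpectrum (MvPolynomial (Fin n) k) := ⟨m, hm.isPrime⟩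
    have hx01 : x0 ≤ x1 := hPm
    obtain ⟨t, hth, htl⟩ := Groth.Agent.H24.exists_satSeries_of_le hx01
    have hlen := Groth.Agent.S9153.result k n t.toLT t.toLT_covBy
    rw [Groth.Agent.H24.SatSeries.toLT_head, Groth.Agent.H24.SatSeries.toLT_last, hth, htl]
      at hlen
    have hmht : (m.height : WithBot ℕ∞) = (n : WithBot ℕ∞) := by
      rw [Groth.Agent.H14.height_of_isMaximal_of_finiteType_domain k _ m,
        Groth.Agent.H54.ringKrullDim_mvPolynomial_fin_field]
    have hmht' : m.height = (n : ℕ∞) := by exact_mod_cast hmht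
    change ((t.toLT.length : ℕ) : ℕ∞) + P.height = m.height at hlen
    rw [hmht'] at hlen
    have hle := length_le_ringKrullDim_of_surjective (Ideal.Quotient.mk P)
      Ideal.Quotient.mk_surjective t.toLT (fun i => by
        rw [Ideal.mk_ker]
        have := LTSeries.head_le t.toLT i
        rw [Groth.Agent.H24.SatSeries.toLT_head, hth] at this
        exact this)
    calc (n : WithBot ℕ∞) = ((((t.toLT.length : ℕ) : ℕ∞) + P.height : ℕ∞) : WithBot ℕ∞) := by
          rw [hlen]; rfl
      _ = ((t.toLT.length : ℕ) : WithBot ℕ∞) + (P.height : WithBot ℕ∞) := by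
          push_cast; rfl
      _ ≤ _ := by gcongr

/-- minimal primes of an ideal generated by `c` elements whose quotient has dimension `n - c`
have height exactly `c` -/
theorem height_eq_of_mem_minimalPrimes (c : ℕ) (hcn : c ≤ n)
    (f : Fin c → MvPolynomial (Fin n) k)
    (hdim : ringKrullDim (MvPolynomial (Fin n) k ⧸ Ideal.span (Set.range f)) =
      ((n - c : ℕ) : WithBot ℕ∞))
    (P : Ideal (MvPolynomial (Fin n) k)) (hP : P ∈ (Ideal.span (Set.range f)).minimalPrimes) :
    P.height = c := by
  classical
  have hPprime : P.IsPrime := hP.1.1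
  have hle : P.height ≤ c := by
    have hmin' : P ∈ (Ideal.span ((Finset.univ.image f : Finset _) : Set _)).minimalPrimes := by
      rw [Finset.coe_image, Finset.coe_univ, Set.image_univ]
      exact hP
    refine (Ideal.height_le_card_of_mem_minimalPrimes_span_finset hmin').trans ?_
    have : (Finset.univ.image f).card ≤ c := by
      refine Finset.card_image_le.trans ?_
      simp
    exact_mod_cast this
  obtain ⟨h', hh'⟩ := ENat.ne_top_iff_exists.mp (ne_top_of_le_ne_top (ENat.natCast_ne_top c) hle)
  have h1 := ringKrullDim_quotient_add_height k n P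
  have h2 : ringKrullDim (MvPolynomial (Fin n) k ⧸ P) ≤
      ringKrullDim (MvPolynomial (Fin n) k ⧸ Ideal.span (Set.range f)) :=
    ringKrullDim_le_of_surjective (Ideal.Quotient.factor hP.1.2)
      (Ideal.Quotient.factor_surjective hP.1.2)
  rw [hdim] at h2
  rw [← hh'] at h1 hle ⊢
  have e2 : h' ≤ c := by exact_mod_cast hle
  have h3 : (n : WithBot ℕ∞) ≤ ((n - c : ℕ) : WithBot ℕ∞) + ((h' : ℕ∞) : WithBot ℕ∞) := by
    rw [← h1]
    gcongr
  have e3 : (((h' : ℕ) : ℕ∞) : WithBot ℕ∞) = ((h' : ℕ) : WithBot ℕ∞) := rfl
  rw [e3] at h3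
  have h4 : n ≤ (n - c) + h' := by exact_mod_cast h3
  have : h' = c := by omega
  rw [this]

/-- the defining equations of a global complete intersection form a regular sequence in the
localization of the polynomial ring at any prime containing them -/
theorem isWeaklyRegular_localization (c : ℕ) (hcn : c ≤ n)
    (f : Fin c → MvPolynomial (Fin n) k)
    (hdim : ringKrullDim (MvPolynomial (Fin n) k ⧸ Ideal.span (Set.range f)) =
      ((n - c : ℕ) : WithBot ℕ∞))
    (q' : Ideal (MvPolynomial (Fin n) k)) [hq' : q'.IsPrime]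
    (hfq : Ideal.span (Set.range f) ≤ q') :
    IsWeaklyRegular (Localization.AtPrime q')
      (List.ofFn fun i => algebraMap (MvPolynomial (Fin n) k) (Localization.AtPrime q') (f i)) := by
  have hCM : LocCoh.IsCohenMacaulayLocalRing (Localization.AtPrime q') :=
    isCM_of_isRegularLocalRing _
  refine Groth.Agent.H81.CIGor.isWeaklyRegular_ofFn_of_height _ hCM c _ ?_ ?_
  · intro i
    rw [← IsLocalization.AtPrime.map_eq_maximalIdeal q' (Localization.AtPrime q')]
    exact Ideal.mem_map_of_mem _ (hfq (Ideal.subset_span (Set.mem_range_self i)))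
  · have h1 : Ideal.span (Set.range fun i =>
        algebraMap (MvPolynomial (Fin n) k) (Localization.AtPrime q') (f i)) =
        (Ideal.span (Set.range f)).map (algebraMap _ (Localization.AtPrime q')) := by
      rw [Ideal.map_span, ← Set.range_comp]
      rfl
    rw [h1, ← IsLocalization.height_under q'.primeCompl]
    refine le_trans ?_ (Ideal.height_mono Ideal.le_comap_map)
    rw [Ideal.height_eq_inf_minimalPrimes] -- height as infimum over minimal primes
    refine le_iInf₂ fun P hP => ?_
    rw [height_eq_of_mem_minimalPrimes k n c hcn f hdim P hP]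

/-- localizations at primes of `k[x]/(f_1..f_c)` of dimension `n - c` are Cohen–Macaulay -/
theorem isCM_atPrime_of_presentation (c : ℕ) (hcn : c ≤ n)
    (f : Fin c → MvPolynomial (Fin n) k)
    (hdim : ringKrullDim (MvPolynomial (Fin n) k ⧸ Ideal.span (Set.range f)) =
      ((n - c : ℕ) : WithBot ℕ∞))
    {T : Type u} [CommRing T] (φ : MvPolynomial (Fin n) k →+* T) (hφ : Function.Surjective φ)
    (hker : RingHom.ker φ = Ideal.span (Set.range f)) (p : Ideal T) [hp : p.IsPrime] :
    LocCoh.IsCohenMacaulayLocalRing (Localization.AtPrime p) := by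
  have hq' : (p.comap φ).IsPrime := Ideal.comap_isPrime φ p
  have hfq : Ideal.span (Set.range f) ≤ p.comap φ := by
    rw [← hker]
    intro x hx
    change φ x ∈ p
    rw [show φ x = 0 from hx]
    exact zero_mem _
  have hCM : LocCoh.IsCohenMacaulayLocalRing (Localization.AtPrime (p.comap φ)) :=
    isCM_of_isRegularLocalRing _
  have hreg := isWeaklyRegular_localization k n c hcn f hdim (p.comap φ) hfq
  have hmem : ∀ x ∈ (List.ofFn fun i => algebraMap (MvPolynomial (Fin n) k)
      (Localization.AtPrime (p.comap φ)) (f i)),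
      x ∈ @maximalIdeal (Localization.AtPrime (p.comap φ)) _ hCM.toIsLocalRing := by
    intro x hx
    rw [List.mem_ofFn] at hx
    obtain ⟨i, rfl⟩ := hx
    rw [← IsLocalization.AtPrime.map_eq_maximalIdeal (p.comap φ)
      (Localization.AtPrime (p.comap φ))]
    exact Ideal.mem_map_of_mem _ (hfq (Ideal.subset_span (Set.mem_range_self i)))
  have hCM' := isCM_quotient_ofList _ hCM _ hmem hreg
  have hIL : Ideal.ofList (List.ofFn fun i => algebraMap (MvPolynomial (Fin n) k)
      (Localization.AtPrime (p.comap φ)) (f i)) =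
      (RingHom.ker φ).map (algebraMap (MvPolynomial (Fin n) k)
        (Localization.AtPrime (p.comap φ))) := by
    rw [hker, Groth.Agent.H81.CIGor.ofList_ofFn, Ideal.map_span, ← Set.range_comp]
    rfl
  rw [hIL] at hCM'
  exact isCM_atPrime_of_quotient_localization φ hφ p hCM'

end Poly

/-- localizations at primes of a global complete intersection are Cohen–Macaulay -/
theorem isCM_atPrime_of_isGlobalCI {k T : Type u} [Field k] [CommRing T] [Algebra k T]
    (h : Synt.IsGlobalCI k T) (p : Ideal T) [hp : p.IsPrime] :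
    LocCoh.IsCohenMacaulayLocalRing (Localization.AtPrime p) := by
  rcases h with hsub | ⟨n, c, hcn, φ, r, hsurj, hker, hdim⟩
  · exact absurd (Subsingleton.elim p ⊤) hp.ne_top
  · have hdim' : ringKrullDim (MvPolynomial (Fin n) k ⧸ Ideal.span (Set.range r)) =
        ((n - c : ℕ) : WithBot ℕ∞) := by
      rw [← hdim, ← hker]
      exact ringKrullDim_eq_of_ringEquiv
        (RingHom.quotientKerEquivOfSurjective (f := φ.toRingHom) hsurj)
    exact isCM_atPrime_of_presentation k n c hcn r hdim' φ.toRingHom hsurj hker p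

/-- a local complete intersection over a field is a Cohen–Macaulay ring -/
theorem isCohenMacaulayRing_of_isLCIOver (k S : Type u) [Field k] [CommRing S] [Algebra k S]
    (h : Synt.IsLCIOver k S) : LocCoh.IsCohenMacaulayRing S := by
  haveI : Algebra.FiniteType k S := h.1
  haveI : IsNoetherianRing S := Algebra.FiniteType.isNoetherianRing k S
  refine ⟨fun p hp => ?_⟩
  obtain ⟨g, hgp, hGCI⟩ := h.2 ⟨p, hp⟩
  have hdisj : Disjoint (Submonoid.powers g : Set S) (p : Set S) := by
    rw [Set.disjoint_left]
    rintro _ ⟨n, rfl⟩ hn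
    exact hgp (hp.mem_of_pow_mem n hn)
  have hp'prime : (Ideal.map (algebraMap S (Localization.Away g)) p).IsPrime :=
    IsLocalization.isPrime_of_isPrime_disjoint (Submonoid.powers g) _ p hp hdisj
  have hcomap : Ideal.comap (algebraMap S (Localization.Away g))
      (Ideal.map (algebraMap S (Localization.Away g)) p) = p :=
    IsLocalization.under_map_of_isPrime_disjoint (Submonoid.powers g) _ hp hdisj
  have h1 := isCM_atPrime_of_isGlobalCI hGCI (Ideal.map (algebraMap S (Localization.Away g)) p)
  have h2 : LocCoh.IsCohenMacaulayLocalRing (Localization.AtPrime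
      (Ideal.comap (algebraMap S (Localization.Away g))
        (Ideal.map (algebraMap S (Localization.Away g)) p))) :=
    Groth.Agent.H49.isCohenMacaulayLocalRing_of_ringEquiv
      (IsLocalization.localizationLocalizationAtPrimeIsoLocalization (Submonoid.powers g)
        (Ideal.map (algebraMap S (Localization.Away g)) p)).symm.toRingEquiv h1
  have key : ∀ (q : Ideal S) [hq : q.IsPrime],
      Ideal.comap (algebraMap S (Localization.Away g))
        (Ideal.map (algebraMap S (Localization.Away g)) p) = q →
      LocCoh.IsCohenMacaulayLocalRing (Localization.AtPrime q) := by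
    rintro q hq rfl
    exact h2
  exact key p hcomap

end Groth.Agent.H46.CIField
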