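import Mathlib
import Groth.Prelude.Def_RegImm
import Groth.Agent.H46.GCILoc

/-!
# A monic polynomial splits over a finite free syntomic faithfully flat algebra
-/

set_option autoImplicit false
set_option linter.style.haveILetI false
universe u

namespace Groth.Agent.H46.SplitSynt

open Polynomial

/-- a presentation from a surjection and generators of the kernel -/
noncomputable def presOfAlgHom {R S : Type*} [CommRing R] [CommRing S] [Algebra R S]
    {ι σ : Type*} (φ : MvPolynomial ι R →ₐ[R] S) (hsurj : Function.Surjective φ)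
    (r : σ → MvPolynomial ι R) (hker : RingHom.ker φ.toRingHom = Ideal.span (Set.range r)) :
    Algebra.Presentation R S ι σ :=
  { toGenerators := Algebra.Generators.ofAlgHom φ hsurj
    relation := r
    span_range_relation_eq_ker := by
      rw [Algebra.Generators.ker_eq_ker_aeval_val, ← hker]
      have : (MvPolynomial.aeval (Algebra.Generators.ofAlgHom φ hsurj).val :
          MvPolynomial ι R →ₐ[R] S) = φ := by
        apply MvPolynomial.algHom_ext
        intro i
        simp [Algebra.Generators.ofAlgHom]
      rw [this]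
      rfl }

/-- the presentation of `AdjoinRoot P` with one variable and one relation -/
theorem nonempty_presentation_adjoinRoot {A : Type u} [CommRing A] (P : A[X]) :
    Nonempty (Algebra.Presentation A (AdjoinRoot P) Unit Unit) := by
  let φ : MvPolynomial Unit A →ₐ[A] AdjoinRoot P :=
    (AdjoinRoot.mkₐ P).comp (MvPolynomial.uniqueAlgEquiv A Unit).toAlgHom
  have hsurj : Function.Surjective φ :=
    (AdjoinRoot.mk_surjective).comp (MvPolynomial.uniqueAlgEquiv A Unit).surjective
  refine ⟨presOfAlgHom φ hsurj (fun _ => (MvPolynomial.uniqueAlgEquiv A Unit).symm P) ?_⟩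
  ext x
  rw [RingHom.mem_ker, Set.range_const, Ideal.mem_span_singleton]
  change AdjoinRoot.mk P (MvPolynomial.uniqueAlgEquiv A Unit x) = 0 ↔ _
  rw [AdjoinRoot.mk_eq_zero]
  constructor
  · intro h
    have := map_dvd (MvPolynomial.uniqueAlgEquiv A Unit).symm h
    rwa [AlgEquiv.symm_apply_apply] at this
  · intro h
    have := map_dvd (MvPolynomial.uniqueAlgEquiv A Unit) h
    rwa [AlgEquiv.apply_symm_apply] at this

/-- the inductive claim -/
theorem exists_splitting (d : ℕ) : ∀ (A : Type u) [CommRing A] (P : A[X]), P.Monic →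
    P.natDegree = d →
    ∃ (A' : Type u) (_ : CommRing A') (_ : Algebra A A'),
      Nonempty (Algebra.Presentation A A' (Fin d) (Fin d)) ∧ Module.Finite A A' ∧
      Module.Free A A' ∧ (Nontrivial A → Nontrivial A') ∧
        ∃ s : Multiset A', P.map (algebraMap A A') = (s.map fun b => X - C b).prod := by
  induction d with
  | zero =>
    intro A _ P hP hd
    refine ⟨A, inferInstance, inferInstance, ?_, inferInstance, inferInstance, id, 0, ?_⟩
    · exact ⟨(Algebra.Presentation.ofBijectiveAlgebraMap.{0, 0}
        (Function.bijective_id : Function.Bijective (algebraMap A A))).reindex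
        (Equiv.equivOfIsEmpty _ _) (Equiv.equivOfIsEmpty _ _)⟩
    · rw [Multiset.map_zero, Multiset.prod_zero, Algebra.algebraMap_self, Polynomial.map_id]
      exact hP.natDegree_eq_zero.mp hd
  | succ d ih =>
    intro A _ P hP hd
    have hAnt : Nontrivial A := by
      by_contra hcon
      rw [not_nontrivial_iff_subsingleton] at hcon
      have : P.natDegree = 0 := by
        rw [Subsingleton.elim P 0, natDegree_zero]
      omega
    let A₁ := AdjoinRoot P
    have hfin₁ : Module.Finite A A₁ := hP.finite_adjoinRoot
    have hfree₁ : Module.Free A A₁ := hP.free_adjoinRoot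
    have hnt₁ : Nontrivial A₁ := by
      have hdim : (AdjoinRoot.powerBasis' hP).dim = d + 1 := by
        rw [AdjoinRoot.powerBasis'_dim, hd]
      have i0 : Fin (AdjoinRoot.powerBasis' hP).dim := ⟨0, by omega⟩
      exact ⟨⟨_, _, (AdjoinRoot.powerBasis' hP).basis.ne_zero i0⟩⟩
    let α : A₁ := AdjoinRoot.root P
    let P₁ : A₁[X] := (P.map (AdjoinRoot.of P)) /ₘ (X - C α)
    have hroot : (P.map (AdjoinRoot.of P)).IsRoot α := by
      rw [IsRoot.def, eval_map]
      exact AdjoinRoot.eval₂_root P
    have hmul : (X - C α) * P₁ = P.map (AdjoinRoot.of P) :=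
      mul_divByMonic_eq_iff_isRoot.mpr hroot
    have hP₁monic : P₁.Monic := by
      refine Monic.of_mul_monic_left (monic_X_sub_C α) ?_
      rw [hmul]
      exact hP.map _
    have hP₁deg : P₁.natDegree = d := by
      have := natDegree_divByMonic (P.map (AdjoinRoot.of P)) (monic_X_sub_C α)
      rw [natDegree_X_sub_C, hP.natDegree_map (AdjoinRoot.of P), hd] at this
      change P₁.natDegree = _ at this
      omega
    obtain ⟨A', _, _, ⟨Q⟩, hfin', hfree', hnt', s, hs⟩ := ih A₁ P₁ hP₁monic hP₁deg
    letI : Algebra A A' := ((algebraMap A₁ A').comp (algebraMap A A₁)).toAlgebra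
    haveI : IsScalarTower A A₁ A' := IsScalarTower.of_algebraMap_eq' rfl
    obtain ⟨P₀⟩ := nonempty_presentation_adjoinRoot P
    refine ⟨A', inferInstance, inferInstance, ?_, ?_, ?_, ?_, (algebraMap A₁ A' α) ::ₘ s, ?_⟩
    · let e : Fin (d + 1) ≃ Fin d ⊕ Unit := Fintype.equivOfCardEq (by simp)
      exact ⟨(Q.comp P₀).reindex e e⟩
    · exact Module.Finite.trans A₁ A'
    · exact Module.Free.trans (R := A) (S := A₁) (M := A')
    · intro _
      exact hnt' hnt₁
    · rw [Multiset.map_cons, Multiset.prod_cons, ← hs,
        IsScalarTower.algebraMap_eq A A₁ A', ← Polynomial.map_map]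
      change ((P.map (AdjoinRoot.of P)).map (algebraMap A₁ A')) = _
      rw [← hmul, Polynomial.map_mul, Polynomial.map_sub, map_X, map_C]

theorem isGlobalCI_of_presentation {k S : Type u} [Field k] [CommRing S] [Algebra k S] (n c : ℕ)
    (hcn : c ≤ n) (P : Algebra.Presentation k S (Fin n) (Fin c))
    (hdim : ringKrullDim S = ((n - c : ℕ) : WithBot ℕ∞)) : Synt.IsGlobalCI k S :=
  Or.inr ⟨n, c, hcn, MvPolynomial.aeval P.val, P.relation, P.aeval_val_surjective, by
    rw [P.span_range_relation_eq_ker, Algebra.Generators.ker_eq_ker_aeval_val]; rfl, hdim⟩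

theorem isSyntomic_of_presentation_finite_free {A A' : Type u} [CommRing A] [CommRing A']
    [Algebra A A'] (d : ℕ) (P : Algebra.Presentation A A' (Fin d) (Fin d))
    [Module.Finite A A'] [Module.Free A A'] : Synt.IsSyntomic A A' := by
  refine ⟨inferInstance, P.finitePresentation_of_isFinite, fun p => ⟨inferInstance, fun q => ?_⟩⟩
  refine ⟨1, fun h => q.isPrime.ne_top ((Ideal.eq_top_iff_one _).mpr h), ?_⟩
  apply Groth.Agent.H46.GCILoc.isGlobalCI_away
  by_cases hsub : Subsingleton (p.asIdeal.Fiber A')
  · exact Or.inl hsub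
  · have hnt : Nontrivial (p.asIdeal.Fiber A') := not_subsingleton_iff_nontrivial.mp hsub
    apply isGlobalCI_of_presentation d d le_rfl (P.baseChange p.asIdeal.ResidueField)
    rw [Nat.sub_self]
    have : Module.Finite p.asIdeal.ResidueField (p.asIdeal.Fiber A') := inferInstance
    have : IsArtinianRing (p.asIdeal.Fiber A') :=
      IsArtinianRing.of_finite p.asIdeal.ResidueField _
    exact (ringKrullDimZero_iff_ringKrullDim_eq_zero).mp inferInstance

theorem main (A : Type u) [CommRing A] (P : A[X]) (hP : P.Monic) :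
    ∃ (A' : Type u) (_ : CommRing A') (_ : Algebra A A'),
      Synt.IsSyntomic A A' ∧ Module.Finite A A' ∧ Module.Free A A' ∧
        Module.FaithfullyFlat A A' ∧
        ∃ s : Multiset A', P.map (algebraMap A A') = (s.map fun b => X - C b).prod := by
  obtain ⟨A', _, _, ⟨Q⟩, hfin, hfree, hnt, s, hs⟩ := exists_splitting P.natDegree A P hP rfl
  refine ⟨A', inferInstance, inferInstance,
    isSyntomic_of_presentation_finite_free P.natDegree Q, hfin, hfree, ?_, s, hs⟩
  by_cases h : Nontrivial A
  · have := hnt h
    infer_instance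
  · rw [not_nontrivial_iff_subsingleton] at h
    exact { submodule_ne_top := fun m hm => absurd (Subsingleton.elim m ⊤) hm.ne_top }

end Groth.Agent.H46.SplitSynt
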