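import Mathlib
import Groth.Prelude.Def_RegImm
import Groth.Agent.H72.DepthFlat
import Groth.Agent.H46.CIField
import Groth.Agent.H49.RelGCIModel
import Groth.Agent.H46.SplitSyntomic
import Groth.Agent.H46.GCILoc

/-!
# A relative global complete intersection is flat (Stacks 10.136.12, 10.136.13)
-/

set_option autoImplicit false
set_option linter.unusedSectionVars false

open TensorProduct RingTheory.Sequence

universe u

namespace Groth.Agent.H46.RelGCIFlat

section L1

variable {R S : Type u} [CommRing R] [CommRing S] [Algebra R S]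
  [IsNoetherianRing R] [IsLocalRing R] [IsNoetherianRing S] [IsLocalRing S]
  [IsLocalHom (algebraMap R S)]

/-- Stacks 00MG: a sequence which is weakly regular on the closed fibre of a finite module `N`, flat
over the base, is weakly regular on `N` and the quotient is again flat. -/
theorem isWeaklyRegular_and_flat_of_fibre (rs : List S) :
    ∀ (N : Type u) [AddCommGroup N] [Module S N] [Module R N]
      [IsScalarTower R S N] [Module.Finite S N] [Module.Flat R N],
      IsWeaklyRegular (N ⊗[R] (R ⧸ IsLocalRing.maximalIdeal R)) rs →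
      IsWeaklyRegular N rs ∧ Module.Flat R (N ⧸ (Ideal.ofList rs • ⊤ : Submodule S N)) := by
  induction rs with
  | nil =>
    intro N _ _ _ _ _ _ _
    refine ⟨IsWeaklyRegular.nil S N, ?_⟩
    have h0 : (Ideal.ofList ([] : List S) • ⊤ : Submodule S N) = ⊥ := by
      rw [Ideal.ofList_nil, Submodule.bot_smul]
    exact Module.Flat.of_linearEquiv
      ((Submodule.quotEquivOfEqBot _ h0).restrictScalars R)
  | cons y rs ih =>
    intro N _ _ _ _ _ _ h
    rw [isWeaklyRegular_cons_iff] at h
    obtain ⟨hy, hrs⟩ := h
    have hyN : IsSMulRegular N y := by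
      have h1 := Groth.Agent.H72.DepthFlat.isSMulRegular_tensor_of_fibre N y hy R
      exact ((TensorProduct.AlgebraTensorModule.rid R S N).isSMulRegular_congr y).mp h1
    haveI hflat : Module.Flat R (QuotSMulTop y N) :=
      Groth.Agent.H72.DepthFlat.flat_quotSMulTop_of_fibre N y hy
    have hrs' : IsWeaklyRegular ((QuotSMulTop y N) ⊗[R] (R ⧸ IsLocalRing.maximalIdeal R)) rs :=
      ((Groth.Agent.H72.DepthFlat.quotSMulTopTensorEquivLeft N
        (R ⧸ IsLocalRing.maximalIdeal R) y).isWeaklyRegular_congr rs).mp hrs
    obtain ⟨h1, h2⟩ := ih (QuotSMulTop y N) hrs'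
    refine ⟨(isWeaklyRegular_cons_iff N y rs).mpr ⟨hyN, h1⟩, ?_⟩
    exact Module.Flat.of_linearEquiv
      ((Submodule.quotOfListConsSMulTopEquivQuotSMulTopInner N y rs).restrictScalars R)

end L1

section L2

variable {P Φ : Type*} [CommRing P] [CommRing Φ]

/-- If every element of `Φ` is a fraction of elements coming from `P` (with denominator outside the
prime `Q`), then the local ring of `Φ` at `Q` is the quotient of the local ring of `P` at the
contraction of `Q` by the extension of the kernel. -/
theorem localRingHom_surjective_and_ker (φ : P →+* Φ) (Q : Ideal Φ) [Q.IsPrime]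
    (hφ : ∀ y : Φ, ∃ s : P, φ s ∉ Q ∧ ∃ a : P, φ s * y = φ a) :
    Function.Surjective (Localization.localRingHom (Q.comap φ) Q φ rfl) ∧
      RingHom.ker (Localization.localRingHom (Q.comap φ) Q φ rfl) =
        (RingHom.ker φ).map (algebraMap P (Localization.AtPrime (Q.comap φ))) := by
  constructor
  · intro c
    obtain ⟨y, σ, rfl⟩ := IsLocalization.exists_mk'_eq Q.primeCompl c
    obtain ⟨s₁, hs₁, a, ha⟩ := hφ y
    obtain ⟨s₂, hs₂, b, hb⟩ := hφ σ.1
    have hbQ : φ b ∉ Q := by
      rw [← hb]
      intro h
      rcases (inferInstance : Q.IsPrime).mem_or_mem h with h | h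
      · exact hs₂ h
      · exact σ.2 h
    have hden : s₁ * b ∈ (Q.comap φ).primeCompl := by
      intro h
      have h' : φ (s₁ * b) ∈ Q := h
      rw [map_mul] at h'
      rcases (inferInstance : Q.IsPrime).mem_or_mem h' with h | h
      · exact hs₁ h
      · exact hbQ h
    refine ⟨IsLocalization.mk' _ (a * s₂) ⟨s₁ * b, hden⟩, ?_⟩
    rw [Localization.localRingHom_mk', IsLocalization.mk'_eq_iff_eq]
    congr 1
    simp only [map_mul]
    rw [← ha, ← hb]
    ring
  · apply le_antisymm
    · intro x hx
      obtain ⟨a, s, rfl⟩ := IsLocalization.exists_mk'_eq (Q.comap φ).primeCompl x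
      rw [RingHom.mem_ker, Localization.localRingHom_mk', IsLocalization.mk'_eq_zero_iff] at hx
      obtain ⟨σ, hσ⟩ := hx
      obtain ⟨s₂, hs₂, b, hb⟩ := hφ σ.1
      have hbQ : φ b ∉ Q := by
        rw [← hb]
        intro h
        rcases (inferInstance : Q.IsPrime).mem_or_mem h with h | h
        · exact hs₂ h
        · exact σ.2 h
      have hker : b * a ∈ RingHom.ker φ := by
        rw [RingHom.mem_ker, map_mul, ← hb, mul_assoc, hσ, mul_zero]
      have hbu : IsUnit (algebraMap P (Localization.AtPrime (Q.comap φ)) b) :=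
        IsLocalization.map_units _ (⟨b, hbQ⟩ : (Q.comap φ).primeCompl)
      have h1 : algebraMap P (Localization.AtPrime (Q.comap φ)) a ∈
          (RingHom.ker φ).map (algebraMap P (Localization.AtPrime (Q.comap φ))) := by
        have h2 := Ideal.mem_map_of_mem (algebraMap P (Localization.AtPrime (Q.comap φ))) hker
        rw [map_mul] at h2
        have h3 := Ideal.mul_mem_left _ ((hbu.unit⁻¹ : (Localization.AtPrime (Q.comap φ))ˣ) :
          Localization.AtPrime (Q.comap φ)) h2
        rwa [← mul_assoc, IsUnit.val_inv_mul, one_mul] at h3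
      rw [IsLocalization.mk'_eq_mul_mk'_one]
      exact Ideal.mul_mem_right _ _ h1
    · rw [Ideal.map_le_iff_le_comap]
      intro a ha
      rw [Ideal.mem_comap, RingHom.mem_ker, Localization.localRingHom_to_map,
        show φ a = 0 from ha, map_zero]

/-- The resulting ring isomorphism. -/
noncomputable def quotLocalEquiv (φ : P →+* Φ) (Q : Ideal Φ) [Q.IsPrime]
    (hφ : ∀ y : Φ, ∃ s : P, φ s ∉ Q ∧ ∃ a : P, φ s * y = φ a) :
    (Localization.AtPrime (Q.comap φ) ⧸
      (RingHom.ker φ).map (algebraMap P (Localization.AtPrime (Q.comap φ)))) ≃+*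
      Localization.AtPrime Q :=
  (Ideal.quotEquivOfEq (localRingHom_surjective_and_ker φ Q hφ).2.symm).trans
    (RingHom.quotientKerEquivOfSurjective (localRingHom_surjective_and_ker φ Q hφ).1)

theorem quotLocalEquiv_mk (φ : P →+* Φ) (Q : Ideal Φ) [Q.IsPrime]
    (hφ : ∀ y : Φ, ∃ s : P, φ s ∉ Q ∧ ∃ a : P, φ s * y = φ a) (a : P) :
    quotLocalEquiv φ Q hφ (Ideal.Quotient.mk _ (algebraMap P _ a)) =
      algebraMap Φ (Localization.AtPrime Q) (φ a) := by
  unfold quotLocalEquiv
  rw [RingEquiv.trans_apply, Ideal.quotEquivOfEq_mk]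
  erw [RingHom.quotientKerEquivOfSurjective_apply_mk]
  exact Localization.localRingHom_to_map _ _ _ rfl a

end L2

section Local

variable {R : Type u} [CommRing R] (n : ℕ) (p : Ideal R) [p.IsPrime]

/-- The reduction map `R[x] → κ(p)[x]`. -/
noncomputable abbrev red : MvPolynomial (Fin n) R →+* MvPolynomial (Fin n) p.ResidueField :=
  MvPolynomial.map (algebraMap R p.ResidueField)

theorem red_C_notMem (Q : Ideal (MvPolynomial (Fin n) p.ResidueField)) [Q.IsPrime] (r : R)
    (hr : r ∉ p) : red n p (MvPolynomial.C r) ∉ Q := by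
  intro h
  have hu : IsUnit (red n p (MvPolynomial.C r)) := by
    rw [red, MvPolynomial.map_C]
    refine IsUnit.map _ (IsUnit.mk0 _ ?_)
    rwa [Ne, Ideal.algebraMap_residueField_eq_zero]
  exact (inferInstance : Q.IsPrime).ne_top (Ideal.eq_top_of_isUnit_mem _ h hu)

theorem red_fraction (Q : Ideal (MvPolynomial (Fin n) p.ResidueField)) [Q.IsPrime]
    (y : MvPolynomial (Fin n) p.ResidueField) :
    ∃ s : MvPolynomial (Fin n) R, red n p s ∉ Q ∧ ∃ a : MvPolynomial (Fin n) R,
      red n p s * y = red n p a := by
  obtain ⟨z, rfl⟩ := (MvPolynomial.algebraTensorAlgEquiv (σ := Fin n) R p.ResidueField).surjective y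
  obtain ⟨r, hr, a, hra⟩ := Ideal.Fiber.exists_smul_eq_one_tmul p z
  refine ⟨MvPolynomial.C r, red_C_notMem n p Q r hr, a, ?_⟩
  have h1 := congrArg (MvPolynomial.algebraTensorAlgEquiv (σ := Fin n) R p.ResidueField) hra
  rw [MvPolynomial.algebraTensorAlgEquiv_tmul, one_smul, ← algebraMap_smul p.ResidueField r z,
    map_smul, MvPolynomial.smul_eq_C_mul] at h1
  rw [← h1, red, MvPolynomial.map_C]

theorem comap_red_comap_C (Q : Ideal (MvPolynomial (Fin n) p.ResidueField)) [Q.IsPrime] :
    (Q.comap (red n p)).comap (MvPolynomial.C : R →+* MvPolynomial (Fin n) R) = p := by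
  ext r
  constructor
  · intro h
    by_contra hr
    exact red_C_notMem n p Q r hr h
  · intro hr
    change red n p (MvPolynomial.C r) ∈ Q
    rw [red, MvPolynomial.map_C, (Ideal.algebraMap_residueField_eq_zero).mpr hr, map_zero]
    exact Q.zero_mem

theorem ker_red : RingHom.ker (red n p) = p.map (MvPolynomial.C : R →+* MvPolynomial (Fin n) R) := by
  rw [red, MvPolynomial.ker_map, Ideal.ker_algebraMap_residueField]

variable [IsNoetherianRing R]

/-- Main local statement: a sequence in `R[x]` whose image in the local ring of the fibre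
`κ(p)[x]_Q` is weakly regular, is weakly regular in `R[x]_{q'}` with `R`-flat quotient. -/
theorem isWeaklyRegular_and_flat_atPrime (Q : Ideal (MvPolynomial (Fin n) p.ResidueField))
    [Q.IsPrime] (rs : List (MvPolynomial (Fin n) R))
    (hC : IsWeaklyRegular (Localization.AtPrime Q)
      (rs.map fun a => algebraMap _ (Localization.AtPrime Q) (red n p a))) :
    IsWeaklyRegular (Localization.AtPrime (Q.comap (red n p)))
        (rs.map (algebraMap _ (Localization.AtPrime (Q.comap (red n p))))) ∧
      Module.Flat R (Localization.AtPrime (Q.comap (red n p)) ⧸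
        Ideal.ofList (rs.map (algebraMap _ (Localization.AtPrime (Q.comap (red n p)))))) := by
  have hpq : p = (Q.comap (red n p)).comap (MvPolynomial.C : R →+* MvPolynomial (Fin n) R) :=
    (comap_red_comap_C n p Q).symm
  letI algAB : Algebra (Localization.AtPrime p) (Localization.AtPrime (Q.comap (red n p))) :=
    (Localization.localRingHom p (Q.comap (red n p)) MvPolynomial.C hpq).toAlgebra
  have halg : ∀ x, algebraMap (Localization.AtPrime p) (Localization.AtPrime (Q.comap (red n p))) x
      = Localization.localRingHom p (Q.comap (red n p)) MvPolynomial.C hpq x := fun _ => rfl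
  haveI : IsScalarTower R (Localization.AtPrime p) (Localization.AtPrime (Q.comap (red n p))) :=
    IsScalarTower.of_algebraMap_eq fun r => by
      rw [halg, Localization.localRingHom_to_map,
        IsScalarTower.algebraMap_apply R (MvPolynomial (Fin n) R)
          (Localization.AtPrime (Q.comap (red n p))), MvPolynomial.algebraMap_eq]
  haveI : IsLocalHom (algebraMap (Localization.AtPrime p)
      (Localization.AtPrime (Q.comap (red n p)))) :=
    Localization.isLocalHom_localRingHom _ _ _ hpq
  haveI : Module.Flat R (Localization.AtPrime (Q.comap (red n p))) :=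
    Module.Flat.trans R (MvPolynomial (Fin n) R) _
  haveI : Module.Flat (Localization.AtPrime p) (Localization.AtPrime (Q.comap (red n p))) :=
    (Module.flat_iff_of_isLocalization (Localization.AtPrime p) p.primeCompl _).mpr inferInstance
  -- the closed fibre
  have hJ : (IsLocalRing.maximalIdeal (Localization.AtPrime p)).map
      (algebraMap (Localization.AtPrime p) (Localization.AtPrime (Q.comap (red n p)))) =
      (RingHom.ker (red n p)).map (algebraMap _ (Localization.AtPrime (Q.comap (red n p)))) := by
    rw [ker_red, ← Localization.AtPrime.map_eq_maximalIdeal, Ideal.map_map, Ideal.map_map,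
      ← IsScalarTower.algebraMap_eq, ← MvPolynomial.algebraMap_eq, ← IsScalarTower.algebraMap_eq]
  let ε := quotLocalEquiv (red n p) Q (red_fraction n p Q)
  have h1 : IsWeaklyRegular (Localization.AtPrime (Q.comap (red n p)) ⧸
      (RingHom.ker (red n p)).map (algebraMap _ (Localization.AtPrime (Q.comap (red n p)))))
      (rs.map (algebraMap _ (Localization.AtPrime (Q.comap (red n p))))) := by
    refine (AddEquiv.isWeaklyRegular_congr (e := ε.symm.toAddEquiv) ?_).mp hC
    rw [List.forall₂_map_left_iff, List.forall₂_map_right_iff]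
    refine List.forall₂_same.mpr fun a _ x => ?_
    change ε.symm (algebraMap _ (Localization.AtPrime Q) (red n p a) * x) = _
    rw [map_mul, ← quotLocalEquiv_mk (red n p) Q (red_fraction n p Q) a]
    change ε.symm (ε _) * _ = _
    rw [RingEquiv.symm_apply_apply]
    rfl
  have h2 : IsWeaklyRegular (Localization.AtPrime (Q.comap (red n p)) ⊗[Localization.AtPrime p]
      (Localization.AtPrime p ⧸ IsLocalRing.maximalIdeal (Localization.AtPrime p)))
      (rs.map (algebraMap _ (Localization.AtPrime (Q.comap (red n p))))) := by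
    have e1 : (Localization.AtPrime (Q.comap (red n p)) ⧸
        (RingHom.ker (red n p)).map (algebraMap _ (Localization.AtPrime (Q.comap (red n p)))))
        ≃ₗ[Localization.AtPrime (Q.comap (red n p))]
        (Localization.AtPrime (Q.comap (red n p)) ⧸
          ((IsLocalRing.maximalIdeal (Localization.AtPrime p)).map
            (algebraMap (Localization.AtPrime p) (Localization.AtPrime (Q.comap (red n p)))) •
              (⊤ : Submodule (Localization.AtPrime (Q.comap (red n p)))
                (Localization.AtPrime (Q.comap (red n p)))))) :=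
      Submodule.quotEquivOfEq _ _ (by rw [hJ, smul_eq_mul, Ideal.mul_top])
    exact ((e1.trans (Groth.Agent.H72.DepthFlat.quotEquivTensorQuot
      (Localization.AtPrime (Q.comap (red n p)))
      (IsLocalRing.maximalIdeal (Localization.AtPrime p)))).isWeaklyRegular_congr _).mp h1
  obtain ⟨h3, h4⟩ := isWeaklyRegular_and_flat_of_fibre
    (R := Localization.AtPrime p) (S := Localization.AtPrime (Q.comap (red n p)))
    (rs.map (algebraMap _ (Localization.AtPrime (Q.comap (red n p)))))
    (Localization.AtPrime (Q.comap (red n p))) h2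
  refine ⟨h3, ?_⟩
  haveI := h4
  have h5 : Module.Flat R (Localization.AtPrime (Q.comap (red n p)) ⧸
      (Ideal.ofList (rs.map (algebraMap _ (Localization.AtPrime (Q.comap (red n p))))) •
        (⊤ : Submodule (Localization.AtPrime (Q.comap (red n p)))
          (Localization.AtPrime (Q.comap (red n p)))))) :=
    Module.Flat.trans R (Localization.AtPrime p) _
  have e2 : (Localization.AtPrime (Q.comap (red n p)) ⧸
        Ideal.ofList (rs.map (algebraMap _ (Localization.AtPrime (Q.comap (red n p))))))
        ≃ₗ[Localization.AtPrime (Q.comap (red n p))]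
      (Localization.AtPrime (Q.comap (red n p)) ⧸
      (Ideal.ofList (rs.map (algebraMap _ (Localization.AtPrime (Q.comap (red n p))))) •
        (⊤ : Submodule (Localization.AtPrime (Q.comap (red n p)))
          (Localization.AtPrime (Q.comap (red n p)))))) :=
    Submodule.quotEquivOfEq _ _ (by rw [smul_eq_mul, Ideal.mul_top])
  exact Module.Flat.of_linearEquiv (e2.restrictScalars R)

end Local

section Fibre

variable {R : Type u} [CommRing R] (n c : ℕ) (F : Fin c → MvPolynomial (Fin n) R)
  (p : Ideal R) [p.IsPrime]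

/-- The fibre of `R[x]/(F)` over `p` is `κ(p)[x]/(F̄)`. -/
noncomputable def fibreEquiv :
    (MvPolynomial (Fin n) p.ResidueField ⧸ Ideal.span (Set.range fun i => red n p (F i)))
      ≃ₐ[p.ResidueField] p.Fiber (Synt.RelGCIRing R n c F) :=
  (Ideal.quotientEquivAlgOfEq p.ResidueField (((Algebra.Presentation.naive (v := F)).baseChange
    p.ResidueField).span_range_relation_eq_ker)).trans
    (((Algebra.Presentation.naive (v := F)).baseChange p.ResidueField).quotientEquiv.restrictScalars
      p.ResidueField)

/-- The presentation of the fibre. -/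
noncomputable def fibrePresentation :
    Algebra.Presentation p.ResidueField (p.Fiber (Synt.RelGCIRing R n c F)) (Fin n) (Fin c) :=
  (Algebra.Presentation.naive (v := F)).baseChange p.ResidueField

theorem isWeaklyRegular_take {A : Type*} [CommRing A] {M : Type*} [AddCommGroup M] [Module A M]
    (rs : List A) (i : ℕ) (h : IsWeaklyRegular M rs) : IsWeaklyRegular M (rs.take i) := by
  rw [← List.take_append_drop i rs, isWeaklyRegular_append_iff] at h
  exact h.1

variable [IsNoetherianRing R]

/-- Noetherian case of Stacks 10.136.12 (1), (2). -/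
theorem noeth_local (h : Synt.IsRelGCI R n c F) (q' : Ideal (MvPolynomial (Fin n) R)) [q'.IsPrime]
    (hq' : Ideal.span (Set.range F) ≤ q') :
    IsWeaklyRegular (Localization.AtPrime q')
        ((List.ofFn F).map (algebraMap _ (Localization.AtPrime q'))) ∧
      ∀ i : ℕ, Module.Flat R (Localization.AtPrime q' ⧸ Ideal.ofList
        (((List.ofFn F).take i).map (algebraMap _ (Localization.AtPrime q')))) := by
  classical
  -- the prime of the base
  let p : Ideal R := q'.comap (MvPolynomial.C : R →+* MvPolynomial (Fin n) R)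
  haveI : p.IsPrime := Ideal.comap_isPrime _ _
  haveI : q'.LiesOver p := ⟨rfl⟩
  -- the prime of the fibre
  let Q0 : Ideal (p.Fiber (MvPolynomial (Fin n) R)) :=
    (PrimeSpectrum.primesOverOrderIsoFiber R (MvPolynomial (Fin n) R) p ⟨q', ‹_›, ‹_›⟩).asIdeal
  have hQ0 : q' = Q0.comap Algebra.TensorProduct.includeRight.toRingHom :=
    congr($((PrimeSpectrum.primesOverOrderIsoFiber R (MvPolynomial (Fin n) R) p).symm_apply_apply
      ⟨q', ‹_›, ‹_›⟩).1).symm
  let e := MvPolynomial.algebraTensorAlgEquiv (σ := Fin n) R p.ResidueField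
  let Q : Ideal (MvPolynomial (Fin n) p.ResidueField) := Q0.comap e.symm.toRingEquiv.toRingHom
  haveI : Q.IsPrime := Ideal.comap_isPrime _ _
  have hred : ∀ a : MvPolynomial (Fin n) R,
      e.symm (red n p a) = (1 : p.ResidueField) ⊗ₜ[R] a := by
    intro a
    rw [AlgEquiv.symm_apply_eq, MvPolynomial.algebraTensorAlgEquiv_tmul, one_smul]
  have hQq : Q.comap (red n p) = q' := by
    rw [hQ0]
    ext a
    change e.symm (red n p a) ∈ Q0 ↔ (1 : p.ResidueField) ⊗ₜ[R] a ∈ Q0
    rw [hred]
  -- the dimension of the fibre
  have hFQ : Ideal.span (Set.range fun i => red n p (F i)) ≤ Q := by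
    rw [Ideal.span_le]
    rintro _ ⟨i, rfl⟩
    have : F i ∈ Q.comap (red n p) := by
      rw [hQq]; exact hq' (Ideal.subset_span ⟨i, rfl⟩)
    exact this
  have hnt : Nontrivial (p.Fiber (Synt.RelGCIRing R n c F)) := by
    haveI : Nontrivial (MvPolynomial (Fin n) p.ResidueField ⧸
        Ideal.span (Set.range fun i => red n p (F i))) :=
      Ideal.Quotient.nontrivial_iff.mpr (fun htop =>
        (inferInstance : Q.IsPrime).ne_top (top_le_iff.mp (htop ▸ hFQ)))
    exact (fibreEquiv n c F p).injective.nontrivial
  obtain ⟨hcn, hdim⟩ := h ⟨p, inferInstance⟩ hnt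
  have hdim' : ringKrullDim (MvPolynomial (Fin n) p.ResidueField ⧸
      Ideal.span (Set.range fun i => red n p (F i))) = ((n - c : ℕ) : WithBot ℕ∞) := by
    rw [ringKrullDim_eq_of_ringEquiv (S := p.Fiber (Synt.RelGCIRing R n c F))
      (fibreEquiv n c F p).toRingEquiv]
    exact hdim
  have hC := Groth.Agent.H46.CIField.isWeaklyRegular_localization p.ResidueField n c hcn
    (fun i => red n p (F i)) hdim' Q hFQ
  have hC' : IsWeaklyRegular (Localization.AtPrime Q)
      ((List.ofFn F).map fun a => algebraMap _ (Localization.AtPrime Q) (red n p a)) := by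
    rw [List.map_ofFn]
    exact hC
  have key : ∀ (q : Ideal (MvPolynomial (Fin n) R)) [hq : q.IsPrime], Q.comap (red n p) = q →
      IsWeaklyRegular (Localization.AtPrime q)
        ((List.ofFn F).map (algebraMap _ (Localization.AtPrime q))) ∧
      ∀ i : ℕ, Module.Flat R (Localization.AtPrime q ⧸ Ideal.ofList
        (((List.ofFn F).take i).map (algebraMap _ (Localization.AtPrime q)))) := by
    rintro q hq rfl
    refine ⟨(isWeaklyRegular_and_flat_atPrime n p Q (List.ofFn F) hC').1, fun i => ?_⟩
    refine (isWeaklyRegular_and_flat_atPrime n p Q ((List.ofFn F).take i) ?_).2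
    rw [List.map_take]
    exact isWeaklyRegular_take _ i hC'
  exact key q' hQq

end Fibre

section NoethFlat

/-- Flatness of `B_{q'}/(ker)` transfers to the local ring of the quotient. -/
theorem flat_localization_of_surjective {R P S : Type*} [CommRing R] [CommRing P] [CommRing S]
    [Algebra R P] [Algebra R S] (mk : P →ₐ[R] S) (hsurj : Function.Surjective mk)
    (𝔫 : Ideal S) [𝔫.IsPrime]
    (hflat : Module.Flat R (Localization.AtPrime (𝔫.comap mk.toRingHom) ⧸
      (RingHom.ker mk.toRingHom).map
        (algebraMap P (Localization.AtPrime (𝔫.comap mk.toRingHom))))) :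
    Module.Flat R (Localization.AtPrime 𝔫) := by
  have hmk : ∀ y : S, ∃ s : P, mk.toRingHom s ∉ 𝔫 ∧ ∃ a : P,
      mk.toRingHom s * y = mk.toRingHom a := by
    intro y
    obtain ⟨a, rfl⟩ := hsurj y
    refine ⟨1, ?_, a, by rw [map_one, one_mul]; rfl⟩
    rw [map_one]
    exact fun h1 => (inferInstance : 𝔫.IsPrime).ne_top ((Ideal.eq_top_iff_one _).mpr h1)
  let ε := quotLocalEquiv mk.toRingHom 𝔫 hmk
  let εl : (Localization.AtPrime (𝔫.comap mk.toRingHom) ⧸
      (RingHom.ker mk.toRingHom).map
        (algebraMap P (Localization.AtPrime (𝔫.comap mk.toRingHom)))) ≃ₗ[R]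
      Localization.AtPrime 𝔫 :=
    { ε.toAddEquiv with
      map_smul' := fun r x => by
        change ε (r • x) = r • ε x
        obtain ⟨b, rfl⟩ := Ideal.Quotient.mk_surjective x
        have h1 : r • (Ideal.Quotient.mk ((RingHom.ker mk.toRingHom).map
            (algebraMap P (Localization.AtPrime (𝔫.comap mk.toRingHom)))) b) =
            Ideal.Quotient.mk _ (algebraMap P _ (algebraMap R P r)) * Ideal.Quotient.mk _ b := by
          rw [← map_mul, ← IsScalarTower.algebraMap_apply, ← Algebra.smul_def]
          rfl
        rw [h1, map_mul, quotLocalEquiv_mk, Algebra.smul_def]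
        congr 1
        rw [AlgHom.toRingHom_eq_coe, RingHom.coe_coe, AlgHom.commutes,
          ← IsScalarTower.algebraMap_apply] }
  exact Module.Flat.of_linearEquiv εl.symm

variable {R : Type u} [CommRing R] (n c : ℕ) (F : Fin c → MvPolynomial (Fin n) R)

theorem ofList_map_ofFn {A B : Type*} [CommRing A] [CommRing B] (f : A →+* B) (g : Fin c → A) :
    Ideal.ofList ((List.ofFn g).map f) = (Ideal.span (Set.range g)).map f := by
  rw [← Ideal.map_ofList]
  congr 1
  unfold Ideal.ofList
  congr 1
  ext r
  simp [List.mem_ofFn]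

/-- A relative global complete intersection over a Noetherian ring is flat. -/
theorem flat_of_isNoetherianRing [IsNoetherianRing R] (h : Synt.IsRelGCI R n c F) :
    Module.Flat R (Synt.RelGCIRing R n c F) := by
  apply Module.flat_of_isLocalized_maximal (Synt.RelGCIRing R n c F) (Synt.RelGCIRing R n c F)
    (fun P _ => Localization.AtPrime P) (fun P _ => Algebra.linearMap _ _)
  intro 𝔫 h𝔫
  haveI : 𝔫.IsPrime := h𝔫.isPrime
  let mk : MvPolynomial (Fin n) R →ₐ[R] Synt.RelGCIRing R n c F :=
    Ideal.Quotient.mkₐ R (Ideal.span (Set.range F))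
  have hker : RingHom.ker mk.toRingHom = Ideal.span (Set.range F) :=
    Ideal.Quotient.mkₐ_ker R _
  have hle : Ideal.span (Set.range F) ≤ 𝔫.comap mk.toRingHom := by
    intro x hx
    change mk x ∈ 𝔫
    rw [show mk x = 0 from Ideal.Quotient.eq_zero_iff_mem.mpr hx]
    exact 𝔫.zero_mem
  have hflat := (noeth_local n c F h (𝔫.comap mk.toRingHom) hle).2 c
  rw [List.take_of_length_le (by simp), ofList_map_ofFn] at hflat
  refine flat_localization_of_surjective mk (Ideal.Quotient.mkₐ_surjective R _) 𝔫 ?_
  rw [hker]
  exact hflat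

end NoethFlat

section General

variable (R : Type u) [CommRing R] (n c : ℕ) (F : Fin c → MvPolynomial (Fin n) R)

/-- Base change of the presented algebra. -/
noncomputable def baseChangeEquiv {R₀ : Type u} [CommRing R₀] [Algebra R₀ R]
    (F₀ : Fin c → MvPolynomial (Fin n) R₀)
    (hF : ∀ i, MvPolynomial.map (algebraMap R₀ R) (F₀ i) = F i) :
    Synt.RelGCIRing R n c F ≃ₐ[R] R ⊗[R₀] Synt.RelGCIRing R₀ n c F₀ :=
  (Ideal.quotientEquivAlgOfEq R (by
    rw [← ((Algebra.Presentation.naive (v := F₀)).baseChange R).span_range_relation_eq_ker]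
    congr 1
    ext x
    simp only [Set.mem_range, Algebra.Presentation.baseChange_relation,
      Algebra.Presentation.naive_relation_apply, hF])).trans
    (((Algebra.Presentation.naive (v := F₀)).baseChange R).quotientEquiv.restrictScalars R)

/-- A relative global complete intersection is flat. -/
theorem flat (h : Synt.IsRelGCI R n c F) : Module.Flat R (Synt.RelGCIRing R n c F) := by
  obtain ⟨R₀, F₀, hft, hF, h₀⟩ := Groth.Agent.H49.RelGCIModel.exists_model_isRelGCI R n c F h
  haveI : IsNoetherianRing R₀ := Algebra.FiniteType.isNoetherianRing ℤ R₀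
  haveI : Module.Flat R₀ (Synt.RelGCIRing R₀ n c F₀) := flat_of_isNoetherianRing n c F₀ h₀
  exact Module.Flat.of_linearEquiv (baseChangeEquiv R n c F F₀ hF).toLinearEquiv

/-- Stacks 10.136.13: a relative global complete intersection is syntomic. -/
theorem isSyntomic (h : Synt.IsRelGCI R n c F) : Synt.IsSyntomic R (Synt.RelGCIRing R n c F) := by
  refine ⟨flat R n c F h,
    (Algebra.Presentation.naive (v := F)).finitePresentation_of_isFinite, fun p => ⟨inferInstance,
      fun q => ?_⟩⟩
  refine ⟨1, fun h1 => q.isPrime.ne_top ((Ideal.eq_top_iff_one _).mpr h1), ?_⟩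
  apply Groth.Agent.H46.GCILoc.isGlobalCI_away
  by_cases hsub : Subsingleton (p.asIdeal.Fiber (Synt.RelGCIRing R n c F))
  · exact Or.inl hsub
  · have hnt : Nontrivial (p.asIdeal.Fiber (Synt.RelGCIRing R n c F)) :=
      not_subsingleton_iff_nontrivial.mp hsub
    obtain ⟨hcn, hdim⟩ := h p hnt
    exact Groth.Agent.H46.SplitSynt.isGlobalCI_of_presentation n c hcn
      (fibrePresentation n c F p.asIdeal) hdim

end General

end Groth.Agent.H46.RelGCIFlat
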