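import Mathlib
import Groth.Prelude.Def_RegImm
import Groth.Prelude.Def_LCI2
import Groth.Agent.H46.RelGCIFlat
import Groth.Agent.H46.GCILoc
import Groth.Agent.H19.QuasiRegBC
import Groth.Agent.S9272
import Groth.Agent.H19.QuasiRegReg
import Groth.Agent.H94.H1QuasiFlat
import Groth.Agent.H94.KoszulH1
import Groth.Agent.H11.H1Quasi
import Groth.Agent.H39.RelRegAlg

/-!
# A flat algebra presented by a quasi-regular sequence is a relative global complete intersection
-/

set_option autoImplicit false
universe u

open TensorProduct RingTheory.Sequence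

namespace Groth.Agent.H46.QuasiRegGCI

section Field

variable (k : Type u) [Field k] (n c : ℕ) (f : Fin c → MvPolynomial (Fin n) k)

/-- A prime containing a quasi-regular sequence of length `c` has height at least `c`. -/
theorem le_height (hq : CAlgX.IsQuasiRegular f) (P : Ideal (MvPolynomial (Fin n) k)) [P.IsPrime]
    (hP : Ideal.span (Set.range f) ≤ P) : (c : ℕ∞) ≤ P.height := by
  have hq' : CAlgX.IsQuasiRegular
      (fun i => algebraMap (MvPolynomial (Fin n) k) (Localization.AtPrime P) (f i)) :=
    Groth.Agent.H94.H1QuasiFlat.isQuasiRegular_map_of_flat _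
      ((RingHom.flat_algebraMap_iff).mpr (IsLocalization.flat _ P.primeCompl)) f hq
  have hmem : ∀ i, algebraMap (MvPolynomial (Fin n) k) (Localization.AtPrime P) (f i) ∈
      IsLocalRing.maximalIdeal (Localization.AtPrime P) := fun i =>
    (IsLocalization.AtPrime.to_map_mem_maximal_iff _ P _).mpr (hP (Ideal.subset_span ⟨i, rfl⟩))
  have hw := Groth.Agent.H19.QReg.isWeaklyRegular_of_qr c (Localization.AtPrime P) _
    (fun i => by rw [IsLocalRing.ringJacobson_eq_maximalIdeal]; exact hmem i) hq'
  have hreg : IsRegular (Localization.AtPrime P) (List.ofFn fun i =>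
      algebraMap (MvPolynomial (Fin n) k) (Localization.AtPrime P) (f i)) := by
    refine (IsLocalRing.isRegular_iff_isWeaklyRegular_of_subset_maximalIdeal
      (fun r hr => ?_)).mpr hw
    rw [List.mem_ofFn] at hr
    obtain ⟨i, rfl⟩ := hr
    exact hmem i
  have hdim := ringKrullDim_add_length_eq_ringKrullDim_of_isRegular _ hreg
  rw [List.length_ofFn,
    IsLocalization.AtPrime.ringKrullDim_eq_height P (Localization.AtPrime P)] at hdim
  have hnn : (0 : WithBot ℕ∞) ≤ ringKrullDim (Localization.AtPrime P ⧸ Ideal.ofList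
      (List.ofFn fun i => algebraMap (MvPolynomial (Fin n) k) (Localization.AtPrime P) (f i))) := by
    have : Nontrivial (Localization.AtPrime P ⧸ Ideal.ofList
        (List.ofFn fun i => algebraMap (MvPolynomial (Fin n) k) (Localization.AtPrime P) (f i))) := by
      apply Ideal.Quotient.nontrivial_iff.mpr
      intro htop
      have := hreg.top_ne_smul
      rw [smul_eq_mul, Ideal.mul_top] at this
      exact this htop.symm
    exact ringKrullDim_nonneg_of_nontrivial
  have h2 : ((c : ℕ∞) : WithBot ℕ∞) ≤ (P.height : WithBot ℕ∞) := by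
    rw [← hdim]
    calc ((c : ℕ∞) : WithBot ℕ∞) = 0 + ((c : ℕ) : WithBot ℕ∞) := by simp
      _ ≤ _ := add_le_add_left hnn _
  exact_mod_cast h2

/-- Quotients by primes containing a quasi-regular sequence of length `c` have dimension at most
`n - c`. -/
theorem key (hq : CAlgX.IsQuasiRegular f) (P : Ideal (MvPolynomial (Fin n) k)) [P.IsPrime]
    (hP : Ideal.span (Set.range f) ≤ P) :
    c ≤ n ∧ ringKrullDim (MvPolynomial (Fin n) k ⧸ P) ≤ ((n - c : ℕ) : WithBot ℕ∞) := by
  have h1 := Groth.Agent.H46.CIField.ringKrullDim_quotient_add_height k n P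
  have h2 := le_height k n c f hq P hP
  have hfin : P.height ≤ (n : ℕ∞) := by
    have h3 := Ideal.height_le_ringKrullDim_of_ne_top (Ideal.IsPrime.ne_top ‹P.IsPrime›)
    rw [Groth.Agent.H54.ringKrullDim_mvPolynomial_fin_field] at h3
    exact_mod_cast h3
  obtain ⟨h', hh'⟩ := ENat.ne_top_iff_exists.mp (ne_top_of_le_ne_top (ENat.natCast_ne_top n) hfin)
  rw [← hh'] at h1 h2 hfin
  have e1 : c ≤ h' := by exact_mod_cast h2
  have e2 : h' ≤ n := by exact_mod_cast hfin
  refine ⟨by omega, ?_⟩
  generalize ringKrullDim (MvPolynomial (Fin n) k ⧸ P) = d at h1 ⊢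
  induction d using WithBot.recBotCoe with
  | bot => exact bot_le
  | coe e =>
    induction e using ENat.recTopCoe with
    | top =>
      exfalso
      have h4 : ((⊤ : ℕ∞) : WithBot ℕ∞) + ((h' : ℕ∞) : WithBot ℕ∞) = ((⊤ : ℕ∞) : WithBot ℕ∞) := by
        rw [← WithBot.coe_add, top_add]
      rw [h4] at h1
      have h5 : (⊤ : ℕ∞) = (n : ℕ∞) := by exact_mod_cast h1
      exact ENat.top_ne_natCast n h5
    | coe e' =>
      have h4 : e' + h' = n := by exact_mod_cast h1
      have h5 : e' ≤ n - c := by omega
      have e3 : (((e' : ℕ) : ℕ∞) : WithBot ℕ∞) = ((e' : ℕ) : WithBot ℕ∞) := rfl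
      rw [e3]
      exact_mod_cast h5

/-- A nonzero quotient of a polynomial ring over a field by a quasi-regular sequence is a global
complete intersection. -/
theorem dim_eq (hq : CAlgX.IsQuasiRegular f)
    [Nontrivial (MvPolynomial (Fin n) k ⧸ Ideal.span (Set.range f))] :
    c ≤ n ∧ ringKrullDim (MvPolynomial (Fin n) k ⧸ Ideal.span (Set.range f)) =
      ((n - c : ℕ) : WithBot ℕ∞) := by
  have hne : Ideal.span (Set.range f) ≠ ⊤ := Ideal.Quotient.nontrivial_iff.mp inferInstance
  obtain ⟨m, hm, hle⟩ := Ideal.exists_le_maximal _ hne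
  have := hm.isPrime
  refine ⟨(key k n c f hq m hle).1, le_antisymm ?_ ?_⟩
  · -- upper bound
    unfold ringKrullDim Order.krullDim
    refine iSup_le fun t => ?_
    let g : PrimeSpectrum (MvPolynomial (Fin n) k ⧸ Ideal.span (Set.range f)) →
        PrimeSpectrum (MvPolynomial (Fin n) k) := PrimeSpectrum.comap (Ideal.Quotient.mk _)
    have hg : StrictMono g := by
      intro a b hab
      refine lt_of_le_of_ne (Ideal.comap_mono (le_of_lt hab)) fun h => ?_
      exact (ne_of_lt hab) (PrimeSpectrum.comap_injective_of_surjective _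
        Ideal.Quotient.mk_surjective h)
    let t' : LTSeries (PrimeSpectrum (MvPolynomial (Fin n) k)) := t.map g hg
    have hI : ∀ i, Ideal.span (Set.range f) ≤ (t' i).asIdeal := by
      intro i x hx
      change Ideal.Quotient.mk _ x ∈ (t i).asIdeal
      rw [Ideal.Quotient.eq_zero_iff_mem.mpr hx]
      exact zero_mem _
    have h1 := Groth.Agent.H46.CIField.length_le_ringKrullDim_of_surjective
      (Ideal.Quotient.mk (t' 0).asIdeal) Ideal.Quotient.mk_surjective t' (fun i => by
        rw [Ideal.mk_ker]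
        exact t'.monotone (Fin.zero_le i))
    exact h1.trans (key k n c f hq (t' 0).asIdeal (hI 0)).2
  · -- lower bound
    have : Nontrivial (Localization.Away
        (1 : MvPolynomial (Fin n) k ⧸ Ideal.span (Set.range f))) :=
      (IsLocalization.injective _ (M := Submonoid.powers
        (1 : MvPolynomial (Fin n) k ⧸ Ideal.span (Set.range f)))
        (Submonoid.powers_le.mpr (one_mem _))).nontrivial
    have h1 := Groth.Agent.H46.GCILoc.le_ringKrullDim_away
      (1 : MvPolynomial (Fin n) k ⧸ Ideal.span (Set.range f)) n c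
      (Ideal.Quotient.mkₐ k (Ideal.span (Set.range f))) f
      (Ideal.Quotient.mkₐ_surjective k _) Ideal.mk_ker
    exact h1.trans (Groth.Agent.H46.GCILoc.ringKrullDim_away_le _)

end Field

/-- A flat algebra presented by a quasi-regular sequence is a relative global complete
intersection. -/
theorem isRelGCI_of_quasiRegular (R : Type u) [CommRing R] (N C : ℕ)
    (Φ : Fin C → MvPolynomial (Fin N) R) (hq : CAlgX.IsQuasiRegular Φ)
    (hflat : Module.Flat R (Synt.RelGCIRing R N C Φ)) : Synt.IsRelGCI R N C Φ := by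
  intro p hnt
  have hq1 := Groth.Agent.S9272.result R (MvPolynomial (Fin N) R) p.asIdeal.ResidueField C Φ
    hflat hq
  have hq2 : CAlgX.IsQuasiRegular
      (fun i => Groth.Agent.H46.RelGCIFlat.red N p.asIdeal (Φ i)) := by
    have h3 := Groth.Agent.H94.H1QuasiFlat.isQuasiRegular_map_of_flat
      (MvPolynomial.algebraTensorAlgEquiv (σ := Fin N) R
        p.asIdeal.ResidueField).toRingEquiv.toRingHom
      (RingHom.Flat.of_bijective (MvPolynomial.algebraTensorAlgEquiv (σ := Fin N) R
        p.asIdeal.ResidueField).bijective) _ hq1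
    have h4 : (fun i => (MvPolynomial.algebraTensorAlgEquiv (σ := Fin N) R
        p.asIdeal.ResidueField).toRingEquiv.toRingHom
          ((1 : p.asIdeal.ResidueField) ⊗ₜ[R] Φ i)) =
        fun i => Groth.Agent.H46.RelGCIFlat.red N p.asIdeal (Φ i) := by
      funext i
      change (MvPolynomial.algebraTensorAlgEquiv (σ := Fin N) R p.asIdeal.ResidueField)
        ((1 : p.asIdeal.ResidueField) ⊗ₜ[R] Φ i) = _
      rw [MvPolynomial.algebraTensorAlgEquiv_tmul, one_smul]
    rw [h4] at h3
    exact h3
  have : Nontrivial (MvPolynomial (Fin N) p.asIdeal.ResidueField ⧸ Ideal.span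
      (Set.range fun i => Groth.Agent.H46.RelGCIFlat.red N p.asIdeal (Φ i))) :=
    (Groth.Agent.H46.RelGCIFlat.fibreEquiv N C Φ p.asIdeal).surjective.nontrivial
  obtain ⟨h1, h2⟩ := dim_eq p.asIdeal.ResidueField N C _ hq2
  refine ⟨h1, ?_⟩
  rw [← ringKrullDim_eq_of_ringEquiv
    (Groth.Agent.H46.RelGCIFlat.fibreEquiv N C Φ p.asIdeal).toRingEquiv]
  exact h2

/-- Koszul-regular sequences are quasi-regular. -/
theorem isQuasiRegular_of_isKoszulRegularSeq {A : Type u} [CommRing A] {c : ℕ} (f : Fin c → A)
    (hf : LCI.IsKoszulRegularSeq A (List.ofFn f)) : CAlgX.IsQuasiRegular f := by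
  apply Groth.Agent.H11.H1Quasi.isQuasiRegular_of_isH1Regular
  have h1 := Groth.Agent.H94.KoszulH1.isH1Regular_of_isKoszulRegularSeq _ hf
  refine Groth.Agent.H39.RelRegAlg.isH1Regular_congr (List.length_ofFn (f := f)).symm _ f
    (fun i => ?_) h1
  simp

end Groth.Agent.H46.QuasiRegGCI
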