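import Mathlib
import Groth.Prelude.Def_RegImm

/-!
# `S_g` for `S = R[x_1..x_n]/(F_1..F_c)` is `R[x_1..x_{n+1}]/(F_1..F_c, h x_{n+1} - 1)`
-/

set_option autoImplicit false
universe u

open MvPolynomial

namespace Groth.Agent.H46.RelGCIAway

variable {R : Type u} [CommRing R] (n c : ℕ) (F : Fin c → MvPolynomial (Fin n) R)
  (h : MvPolynomial (Fin n) R)

/-- The extended family of relations. -/
noncomputable def ext : Fin (c + 1) → MvPolynomial (Fin (n + 1)) R :=
  Fin.snoc (fun i => rename Fin.castSucc (F i)) (rename Fin.castSucc h * X (Fin.last n) - 1)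

theorem ext_castSucc (i : Fin c) : ext n c F h i.castSucc = rename Fin.castSucc (F i) := by
  unfold ext
  rw [Fin.snoc_castSucc]

theorem ext_last : ext n c F h (Fin.last c) = rename Fin.castSucc h * X (Fin.last n) - 1 := by
  unfold ext
  rw [Fin.snoc_last]

/-- The map `S → S'`. -/
noncomputable def toExt : Synt.RelGCIRing R n c F →ₐ[R] Synt.RelGCIRing R (n + 1) (c + 1) (ext n c F h) :=
  Ideal.Quotient.liftₐ (Ideal.span (Set.range F))
    ((Ideal.Quotient.mkₐ R (Ideal.span (Set.range (ext n c F h)))).comp (rename Fin.castSucc))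
    (by
      intro a ha
      have hle : Ideal.span (Set.range F) ≤ RingHom.ker
          ((Ideal.Quotient.mkₐ R (Ideal.span (Set.range (ext n c F h)))).comp
            (rename Fin.castSucc)).toRingHom := by
        rw [Ideal.span_le]
        rintro _ ⟨i, rfl⟩
        change (Ideal.Quotient.mk _ (rename Fin.castSucc (F i))) = 0
        rw [Ideal.Quotient.eq_zero_iff_mem, ← ext_castSucc n c F h i]
        exact Ideal.subset_span ⟨_, rfl⟩
      exact hle ha)

theorem toExt_mk (a : MvPolynomial (Fin n) R) :
    toExt n c F h (Ideal.Quotient.mk _ a) = Ideal.Quotient.mk _ (rename Fin.castSucc a) := rfl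

theorem toExt_mul_X :
    toExt n c F h (Ideal.Quotient.mk _ h) * Ideal.Quotient.mk _ (X (Fin.last n)) = 1 := by
  rw [toExt_mk, ← map_mul, ← sub_eq_zero, ← map_one (Ideal.Quotient.mk _), ← map_sub,
    Ideal.Quotient.eq_zero_iff_mem, ← ext_last n c F h]
  exact Ideal.subset_span ⟨_, rfl⟩

theorem isUnit_toExt : IsUnit (toExt n c F h (Ideal.Quotient.mk _ h)) :=
  IsUnit.of_mul_eq_one _ (toExt_mul_X n c F h)

/-- Forward map `S_g → S'`. -/
noncomputable def fwd : Localization.Away (Ideal.Quotient.mk (Ideal.span (Set.range F)) h) →ₐ[R]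
    Synt.RelGCIRing R (n + 1) (c + 1) (ext n c F h) :=
  IsLocalization.Away.liftAlgHom (Ideal.Quotient.mk (Ideal.span (Set.range F)) h)
    (f := toExt n c F h) (isUnit_toExt n c F h)

theorem fwd_algebraMap (s : Synt.RelGCIRing R n c F) :
    fwd n c F h (algebraMap _ _ s) = toExt n c F h s := by
  unfold fwd
  rw [IsLocalization.Away.liftAlgHom_apply]
  exact IsLocalization.Away.lift_eq _ _ _

/-- The images of the variables in `S_g`. -/
noncomputable def vars : Fin (n + 1) → Localization.Away (Ideal.Quotient.mk (Ideal.span (Set.range F)) h) :=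
  Fin.snoc (fun i => algebraMap (Synt.RelGCIRing R n c F) _ (Ideal.Quotient.mk _ (X i)))
    (IsLocalization.Away.invSelf (Ideal.Quotient.mk (Ideal.span (Set.range F)) h))

theorem aeval_vars_rename (a : MvPolynomial (Fin n) R) :
    aeval (vars n c F h) (rename Fin.castSucc a) =
      algebraMap (Synt.RelGCIRing R n c F) _ (Ideal.Quotient.mk _ a) := by
  rw [aeval_rename]
  have : (vars n c F h) ∘ Fin.castSucc =
      fun i => algebraMap (Synt.RelGCIRing R n c F)
        (Localization.Away (Ideal.Quotient.mk (Ideal.span (Set.range F)) h))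
        (Ideal.Quotient.mk _ (X i)) := by
    funext i
    simp only [Function.comp_apply, vars]
    rw [Fin.snoc_castSucc]
  rw [this]
  let φ : MvPolynomial (Fin n) R →ₐ[R]
      Localization.Away (Ideal.Quotient.mk (Ideal.span (Set.range F)) h) :=
    (Algebra.algHom R (Synt.RelGCIRing R n c F) _).comp (Ideal.Quotient.mkₐ R _)
  have hφ := aeval_unique φ
  have : φ a = algebraMap (Synt.RelGCIRing R n c F) _ (Ideal.Quotient.mk _ a) := rfl
  rw [← this, hφ]
  rfl

/-- Backward map `S' → S_g`. -/
noncomputable def bwd : Synt.RelGCIRing R (n + 1) (c + 1) (ext n c F h) →ₐ[R]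
    Localization.Away (Ideal.Quotient.mk (Ideal.span (Set.range F)) h) :=
  Ideal.Quotient.liftₐ (Ideal.span (Set.range (ext n c F h))) (aeval (vars n c F h))
    (by
      intro a ha
      have hle : Ideal.span (Set.range (ext n c F h)) ≤ RingHom.ker
          (aeval (R := R) (vars n c F h)).toRingHom := by
        rw [Ideal.span_le]
        rintro _ ⟨j, rfl⟩
        change aeval (vars n c F h) (ext n c F h j) = 0
        induction j using Fin.lastCases with
        | last =>
          rw [ext_last, map_sub, map_mul, map_one, aeval_vars_rename, aeval_X, sub_eq_zero]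
          simp only [vars]
          rw [Fin.snoc_last]
          exact IsLocalization.Away.mul_invSelf _
        | cast i =>
          rw [ext_castSucc, aeval_vars_rename]
          have : Ideal.Quotient.mk (Ideal.span (Set.range F)) (F i) = 0 :=
            Ideal.Quotient.eq_zero_iff_mem.2 (Ideal.subset_span ⟨_, rfl⟩)
          rw [this, map_zero]
      exact hle ha)

theorem bwd_mk (a : MvPolynomial (Fin (n + 1)) R) :
    bwd n c F h (Ideal.Quotient.mk _ a) = aeval (vars n c F h) a := rfl

theorem fwd_invSelf :
    fwd n c F h (IsLocalization.Away.invSelf (Ideal.Quotient.mk (Ideal.span (Set.range F)) h)) =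
      Ideal.Quotient.mk _ (X (Fin.last n)) := by
  have h1 := toExt_mul_X n c F h
  have h2 : fwd n c F h (algebraMap _ _ (Ideal.Quotient.mk (Ideal.span (Set.range F)) h)) *
      fwd n c F h (IsLocalization.Away.invSelf (Ideal.Quotient.mk (Ideal.span (Set.range F)) h))
      = 1 := by
    rw [← map_mul, IsLocalization.Away.mul_invSelf, map_one]
  rw [fwd_algebraMap] at h2
  exact (left_inv_eq_right_inv (by rw [mul_comm]; exact h2) h1)

/-- The isomorphism `S_g ≃ S'`. -/
noncomputable def equiv : Localization.Away (Ideal.Quotient.mk (Ideal.span (Set.range F)) h) ≃ₐ[R]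
    Synt.RelGCIRing R (n + 1) (c + 1) (ext n c F h) :=
  AlgEquiv.ofAlgHom (fwd n c F h) (bwd n c F h)
    (by
      apply Ideal.Quotient.algHom_ext
      apply MvPolynomial.algHom_ext
      intro j
      change fwd n c F h (bwd n c F h (Ideal.Quotient.mk _ (X j))) = Ideal.Quotient.mk _ (X j)
      rw [bwd_mk, aeval_X]
      induction j using Fin.lastCases with
      | last =>
        simp only [vars]
        rw [Fin.snoc_last]
        exact fwd_invSelf n c F h
      | cast i =>
        simp only [vars]
        rw [Fin.snoc_castSucc, fwd_algebraMap, toExt_mk, rename_X])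
    (by
      refine IsLocalization.algHom_ext (R := R) (A := Synt.RelGCIRing R n c F)
        (Submonoid.powers (Ideal.Quotient.mk (Ideal.span (Set.range F)) h)) ?_
      apply Ideal.Quotient.algHom_ext
      apply MvPolynomial.algHom_ext
      intro i
      change bwd n c F h (fwd n c F h (algebraMap (Synt.RelGCIRing R n c F)
          (Localization.Away (Ideal.Quotient.mk (Ideal.span (Set.range F)) h))
          (Ideal.Quotient.mk (Ideal.span (Set.range F)) (X i)))) =
        algebraMap (Synt.RelGCIRing R n c F)
          (Localization.Away (Ideal.Quotient.mk (Ideal.span (Set.range F)) h))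
          (Ideal.Quotient.mk (Ideal.span (Set.range F)) (X i))
      rw [fwd_algebraMap, toExt_mk, bwd_mk, aeval_vars_rename])

end Groth.Agent.H46.RelGCIAway
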