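import Mathlib
import Groth.Prelude.Def_RegImm
import Groth.Prelude.Def_LCI2
import Groth.Agent.H46.QuasiRegGCI
import Groth.Agent.H46.RelGCIAway
import Groth.Agent.H46.RelGCIFlat
import Groth.Agent.H46.SyntomicLocal
import Groth.Agent.H39.KoszulLoc
import Groth.Agent.H39.KoszulLCILocal
import Groth.Agent.H39.KoszulAppend
import Groth.Agent.H39.KoszulFlatBC
import Groth.Agent.H79.KoszulMinGen
import Groth.Agent.H47.Synt.Transport

/-!
# Flat local complete intersection ring maps are syntomic
-/

set_option autoImplicit false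
universe u

open MvPolynomial

namespace Groth.Agent.H46.LCISynt

section Iso

variable (R : Type u) [CommRing R] (n : ℕ)

/-- `Unit ⊕ Fin n ≃ Fin (n+1)`, the unit going to the last element. -/
def σ : Unit ⊕ Fin n ≃ Fin (n + 1) where
  toFun := Sum.elim (fun _ => Fin.last n) Fin.castSucc
  invFun := Fin.lastCases (Sum.inl ()) (fun i => Sum.inr i)
  left_inv := by
    rintro (_ | i)
    · simp
    · simp
  right_inv := by
    intro j
    induction j using Fin.lastCases with
    | last => simp
    | cast i => simp

/-- `P[Y] ≃ R[x_1..x_n, t]`. -/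
noncomputable def e :
    MvPolynomial Unit (MvPolynomial (Fin n) R) ≃ₐ[R] MvPolynomial (Fin (n + 1)) R :=
  (sumAlgEquiv R Unit (Fin n)).symm.trans (renameEquiv R (σ n))

theorem e_X : e R n (X ()) = X (Fin.last n) := by
  simp [e, σ]

theorem e_C (a : MvPolynomial (Fin n) R) : e R n (C a) = rename Fin.castSucc a := by
  have h1 : (sumAlgEquiv R Unit (Fin n)).symm (C a) = rename Sum.inr a := by
    rw [AlgEquiv.symm_apply_eq]
    have := DFunLike.congr_fun (sumAlgEquiv_comp_rename_inr (R := R) (S₁ := Unit) (S₂ := Fin n)) a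
    simpa using this.symm
  simp only [e, AlgEquiv.trans_apply, h1, renameEquiv_apply, rename_rename]
  rfl

end Iso

section Koszul

variable (R : Type u) [CommRing R] (n c : ℕ) (F : Fin c → MvPolynomial (Fin n) R)
  (G : MvPolynomial (Fin n) R)

open Groth.Agent.H39.KoszulLCILocal in
/-- If `F` becomes Koszul-regular in `P_G`, then `(F, G t - 1)` is Koszul-regular in `P[t]`. -/
theorem koszul_ext
    (h : LCI.IsKoszulRegularSeq (Localization.Away G)
      ((List.ofFn F).map (algebraMap (MvPolynomial (Fin n) R) (Localization.Away G)))) :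
    LCI.IsKoszulRegularSeq (MvPolynomial (Fin (n + 1)) R)
      (List.ofFn (Groth.Agent.H46.RelGCIAway.ext n c F G)) := by
  have h1 : LCI.IsKoszulRegularSeq (MvPolynomial Unit (MvPolynomial (Fin n) R))
      ((List.ofFn F).map C ++ [(C G * X () - 1 : MvPolynomial Unit (MvPolynomial (Fin n) R))]) := by
    refine Groth.Agent.H39.KoszulAppend.isKoszulRegularSeq_append
      (φ := (awayPres G).toRingHom) (awayPres_surjective G) _
      (isKoszulRegularSeq_singleton _ (isSMulRegular_CX_sub_one G)) (ker_awayPres G) _ ?_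
    rw [List.map_map]
    have : ((awayPres G).toRingHom : MvPolynomial Unit (MvPolynomial (Fin n) R) → _) ∘
        (C : MvPolynomial (Fin n) R → _) =
        algebraMap (MvPolynomial (Fin n) R) (Localization.Away G) := by
      funext a
      exact (awayPres G).commutes a
    rw [this]
    exact h
  have h2 := Groth.Agent.H39.KoszulFlatBC.isKoszulRegularSeq_map_of_flat
    (e R n).toRingEquiv.toRingHom (RingHom.Flat.of_bijective (e R n).bijective) _ h1
  convert h2 using 1
  rw [List.map_append, List.map_map, List.map_singleton, List.ofFn_succ', List.concat_eq_append,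
    List.map_ofFn]
  congr 1
  · congr 1
    funext i
    change _ = e R n (C (F i))
    rw [e_C, Groth.Agent.H46.RelGCIAway.ext_castSucc]
  · change _ = [e R n (C G * X () - 1)]
    rw [map_sub, map_mul, map_one, e_C, e_X, Groth.Agent.H46.RelGCIAway.ext_last]

end Koszul

section Main

variable (R S : Type u) [CommRing R] [CommRing S] [Algebra R S]

/-- The local step: around every prime of `S`, a flat `R`-algebra with Koszul-regular
presentation ideal is syntomic. -/
theorem exists_away_isSyntomic (hflat : Module.Flat R S) (n : ℕ)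
    (f : MvPolynomial (Fin n) R →ₐ[R] S) (hf : Function.Surjective f)
    (hK : LCI.IsKoszulRegularIdeal (RingHom.ker f.toRingHom)) (q : Ideal S) [q.IsPrime] :
    ∃ g : S, g ∉ q ∧ Synt.IsSyntomic R (Localization.Away g) := by
  obtain ⟨G, hGq, l, hl, hIl⟩ := hK ⟨q.comap f.toRingHom, inferInstance⟩ (by
    intro x hx
    rw [RingHom.mem_ker] at hx
    change f.toRingHom x ∈ q
    rw [hx]
    exact zero_mem _)
  obtain ⟨F, hFI, hspan, hsat⟩ :=
    Groth.Agent.H39.KoszulLoc.exists_numerators _ G (Localization.Away G) l hIl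
  -- Koszul-regularity of the numerators in `P_G`
  have hreg : LCI.IsKoszulRegularSeq (Localization.Away G)
      ((List.ofFn F).map (algebraMap _ (Localization.Away G))) := by
    refine Groth.Agent.H79.KoszulMinGen.regular_of_length_eq l _ hl ?_ ?_
    · unfold Ideal.ofList
      rw [← hspan]
      congr 1
      ext x
      simp [List.mem_ofFn]
    · simp
  have hkos := koszul_ext R n l.length F G hreg
  have hq := Groth.Agent.H46.QuasiRegGCI.isQuasiRegular_of_isKoszulRegularSeq _ hkos
  -- the map `T = P/(F) → S`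
  have hFker : ∀ a ∈ Ideal.span (Set.range F), f a = 0 := by
    intro a ha
    have hle : Ideal.span (Set.range F) ≤ RingHom.ker f.toRingHom := by
      rw [Ideal.span_le]
      rintro _ ⟨i, rfl⟩
      exact hFI i
    exact hle ha
  obtain ⟨fbar, hfbar⟩ : ∃ fbar : Synt.RelGCIRing R n l.length F →ₐ[R] S,
      fbar = Ideal.Quotient.liftₐ (Ideal.span (Set.range F)) f hFker := ⟨_, rfl⟩
  have hfbar_mk : ∀ a, fbar (Ideal.Quotient.mk _ a) = f a := by
    intro a
    rw [hfbar]
    rfl
  have hfbar_surj : Function.Surjective fbar := by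
    intro s
    obtain ⟨a, rfl⟩ := hf s
    exact ⟨Ideal.Quotient.mk _ a, hfbar_mk a⟩
  obtain ⟨g₀, hg₀⟩ : ∃ g₀ : Synt.RelGCIRing R n l.length F,
      g₀ = Ideal.Quotient.mk (Ideal.span (Set.range F)) G := ⟨_, rfl⟩
  have hg₀f : fbar g₀ = f G := by rw [hg₀, hfbar_mk]
  refine ⟨fbar g₀, ?_, ?_⟩
  · rw [hg₀f]
    exact hGq
  -- the isomorphism `T_{g₀} ≃ S_g`
  have hinj : Function.Injective
      (IsLocalization.Away.mapₐ (R := R) (Localization.Away g₀) (Localization.Away (fbar g₀))
        fbar g₀) := by
    have h1 : Function.Injective (IsLocalization.Away.map (Localization.Away g₀)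
        (Localization.Away (fbar g₀)) fbar.toRingHom g₀) := by
      rw [IsLocalization.Away.map_injective_iff]
      intro a ha
      obtain ⟨k, rfl⟩ := Ideal.Quotient.mk_surjective a
      have hk : k ∈ RingHom.ker f.toRingHom := by
        rw [RingHom.mem_ker]
        exact (hfbar_mk k).symm.trans ha
      obtain ⟨N, hN⟩ := hsat k hk
      refine ⟨N, ?_⟩
      rw [hg₀, ← map_pow, ← map_mul, Ideal.Quotient.eq_zero_iff_mem]
      exact hN
    exact h1
  have hsurj : Function.Surjective
      (IsLocalization.Away.mapₐ (R := R) (Localization.Away g₀) (Localization.Away (fbar g₀))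
        fbar g₀) :=
    IsLocalization.Away.mapₐ_surjective_of_surjective g₀ hfbar_surj
  have E1 : Localization.Away g₀ ≃ₐ[R] Localization.Away (fbar g₀) :=
    AlgEquiv.ofBijective _ ⟨hinj, hsurj⟩
  have E2 : Localization.Away g₀ ≃ₐ[R]
      Synt.RelGCIRing R (n + 1) (l.length + 1) (Groth.Agent.H46.RelGCIAway.ext n l.length F G) := by
    rw [hg₀]
    exact Groth.Agent.H46.RelGCIAway.equiv n l.length F G
  have E : Synt.RelGCIRing R (n + 1) (l.length + 1)
      (Groth.Agent.H46.RelGCIAway.ext n l.length F G) ≃ₐ[R] Localization.Away (fbar g₀) :=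
    E2.symm.trans E1
  have hflat1 : Module.Flat R (Localization.Away (fbar g₀)) := by
    have : Module.Flat S (Localization.Away (fbar g₀)) :=
      IsLocalization.flat _ (Submonoid.powers (fbar g₀))
    exact Module.Flat.trans R S _
  have hflat2 : Module.Flat R (Synt.RelGCIRing R (n + 1) (l.length + 1)
      (Groth.Agent.H46.RelGCIAway.ext n l.length F G)) :=
    Module.Flat.of_linearEquiv E.toLinearEquiv
  have hGCI := Groth.Agent.H46.QuasiRegGCI.isRelGCI_of_quasiRegular R (n + 1) (l.length + 1)
    _ hq hflat2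
  exact Groth.Agent.H47.Synt.isSyntomic_of_algEquiv E
    (Groth.Agent.H46.RelGCIFlat.isSyntomic R _ _ _ hGCI)

/-- Flat + local complete intersection implies syntomic. -/
theorem isSyntomic_of_flat_of_isLCI (hflat : Module.Flat R S) (h : LCI.IsLCI R S) :
    Synt.IsSyntomic R S := by
  obtain ⟨_, n, f, hf, hK⟩ := h
  have hspan : Ideal.span {g : S | Synt.IsSyntomic R (Localization.Away g)} = ⊤ := by
    by_contra hne
    obtain ⟨m, hmax, hle⟩ := Ideal.exists_le_maximal _ hne
    obtain ⟨g, hg, hs⟩ := exists_away_isSyntomic R S hflat n f hf hK m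
    exact hg (hle (Ideal.subset_span hs))
  obtain ⟨s, hs, hs1⟩ := (Ideal.span_eq_top_iff_finite _).mp hspan
  exact Groth.Agent.H46.isSyntomic_of_span R S s hs1 (fun g hg => hs hg)

end Main

end Groth.Agent.H46.LCISynt
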