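import Mathlib

/-!
# Base change of weakly regular sequences with flat quotients

Let `R₀ → R` be a ring map, `A₀` an `R₀`-algebra and `A = R ⊗[R₀] A₀` (a pushout).  If `rs` is a
weakly regular sequence on an `A₀`-module `M` such that all the quotients `M/(r_1, …, r_i)M` are flat
over `R₀`, then the image of `rs` in `A` is weakly regular on the base change `N = A ⊗[A₀] M` and the
quotients `N/(r_1, …, r_i)N` are flat over `R`.
-/

set_option autoImplicit false

open TensorProduct RingTheory.Sequence Pointwise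

namespace Groth.Agent.H46.RegSeqBC

section

variable {R₀ R A₀ A : Type*} [CommRing R₀] [CommRing R] [CommRing A₀] [CommRing A]
  [Algebra R₀ R] [Algebra R₀ A₀] [Algebra R₀ A] [Algebra R A] [Algebra A₀ A]
  [IsScalarTower R₀ A₀ A] [IsScalarTower R₀ R A] [Algebra.IsPushout R₀ R A₀ A]

variable {M N : Type*} [AddCommGroup M] [Module A₀ M] [Module R₀ M] [IsScalarTower R₀ A₀ M]
  [AddCommGroup N] [Module A N] [Module A₀ N] [IsScalarTower A₀ A N] [Module R N]
  [IsScalarTower R A N]

variable (R₀ R) in
/-- The `R`-linear isomorphism `R ⊗[R₀] M ≃ N` for a base change `M → N` along `A₀ → A`. -/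
noncomputable def equiv (f : M →ₗ[A₀] N) (hf : IsBaseChange A f) : R ⊗[R₀] M ≃ₗ[R] N :=
  (Algebra.IsPushout.cancelBaseChange R₀ R A₀ A M).symm ≪≫ₗ hf.equiv.restrictScalars R

theorem equiv_tmul (f : M →ₗ[A₀] N) (hf : IsBaseChange A f) (r : R) (m : M) :
    equiv R₀ R f hf (r ⊗ₜ m) = r • f m := by
  simp only [equiv, LinearEquiv.trans_apply, Algebra.IsPushout.cancelBaseChange_symm_tmul,
    LinearEquiv.restrictScalars_apply, IsBaseChange.equiv_tmul, algebraMap_smul]

theorem flat (f : M →ₗ[A₀] N) (hf : IsBaseChange A f) [Module.Flat R₀ M] : Module.Flat R N :=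
  Module.Flat.of_linearEquiv (equiv R₀ R f hf).symm

/-- multiplication by `x : A₀` as an `R₀`-linear endomorphism of `M` -/
noncomputable def mulEnd (x : A₀) : M →ₗ[R₀] M :=
  (LinearMap.lsmul A₀ M x).restrictScalars R₀

omit [IsScalarTower R₀ A₀ A] in
@[simp] theorem mulEnd_apply (x : A₀) (m : M) : mulEnd (R₀ := R₀) x m = x • m := rfl

theorem smul_equiv (f : M →ₗ[A₀] N) (hf : IsBaseChange A f) (x : A₀) (z : R ⊗[R₀] M) :
    algebraMap A₀ A x • equiv R₀ R f hf z =
      equiv R₀ R f hf ((mulEnd (R₀ := R₀) x).lTensor R z) := by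
  induction z using TensorProduct.induction_on with
  | zero => simp
  | add a b ha hb => rw [map_add, smul_add, ha, hb, map_add, map_add]
  | tmul r m =>
    rw [LinearMap.lTensor_tmul, equiv_tmul, equiv_tmul, mulEnd_apply, map_smul,
      ← algebraMap_smul A x (f m), smul_comm]

variable (R) in
include R in
theorem isSMulRegular (f : M →ₗ[A₀] N) (hf : IsBaseChange A f) (x : A₀)
    (hx : IsSMulRegular M x) [Module.Flat R₀ (QuotSMulTop x M)] :
    IsSMulRegular N (algebraMap A₀ A x) := by
  have hex : Function.Exact (mulEnd (R₀ := R₀) x : M →ₗ[R₀] M)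
      ((Submodule.mkQ (x • (⊤ : Submodule A₀ M))).restrictScalars R₀) := by
    intro m
    rw [LinearMap.restrictScalars_apply]
    rw [Submodule.mkQ_apply, Submodule.Quotient.mk_eq_zero,
      Submodule.mem_smul_pointwise_iff_exists]
    constructor
    · rintro ⟨n', -, rfl⟩
      exact ⟨n', rfl⟩
    · rintro ⟨n', rfl⟩
      exact ⟨n', Submodule.mem_top, rfl⟩
  have hsurj : Function.Surjective
      ((Submodule.mkQ (x • (⊤ : Submodule A₀ M))).restrictScalars R₀) := by
    rw [LinearMap.coe_restrictScalars]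
    exact Submodule.mkQ_surjective _
  have hinj : Function.Injective ((mulEnd (R₀ := R₀) x : M →ₗ[R₀] M).lTensor R) :=
    LinearMap.lTensor_injective_of_exact_of_flat _ hsurj (mulEnd (R₀ := R₀) x : M →ₗ[R₀] M)
      hx hex R
  intro n₁ n₂ h
  obtain ⟨z₁, rfl⟩ := (equiv R₀ R f hf).surjective n₁
  obtain ⟨z₂, rfl⟩ := (equiv R₀ R f hf).surjective n₂
  change algebraMap A₀ A x • _ = algebraMap A₀ A x • _ at h
  rw [smul_equiv, smul_equiv] at h
  rw [hinj ((equiv R₀ R f hf).injective h)]

theorem flat_quot_nil_iff {B : Type*} [CommRing B] {T : Type*} [AddCommGroup T] [Module B T]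
    {C : Type*} [CommRing C] [Algebra C B] [Module C T] [IsScalarTower C B T] :
    Module.Flat C (T ⧸ (Ideal.ofList ([] : List B) • ⊤ : Submodule B T)) ↔ Module.Flat C T := by
  have h0 : (Ideal.ofList ([] : List B) • ⊤ : Submodule B T) = ⊥ := by
    rw [Ideal.ofList_nil, Submodule.bot_smul]
  exact Module.Flat.equiv_iff ((Submodule.quotEquivOfEqBot _ h0).restrictScalars C)

variable (R) in
include R in
/-- Base change of a weakly regular sequence with flat quotients along a pushout. -/
theorem main (rs : List A₀) (f : M →ₗ[A₀] N) (hf : IsBaseChange A f)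
    (hreg : IsWeaklyRegular M rs)
    (hflat : ∀ i : ℕ, Module.Flat R₀ (M ⧸ (Ideal.ofList (rs.take i) • ⊤ : Submodule A₀ M))) :
    IsWeaklyRegular N (rs.map (algebraMap A₀ A)) ∧
      ∀ i : ℕ, Module.Flat R
        (N ⧸ (Ideal.ofList ((rs.map (algebraMap A₀ A)).take i) • ⊤ : Submodule A N)) := by
  induction rs generalizing M N with
  | nil =>
    refine ⟨by simp, fun i => ?_⟩
    have h0 := hflat 0
    rw [List.take_nil, flat_quot_nil_iff] at h0
    rw [List.map_nil, List.take_nil, flat_quot_nil_iff]
    exact flat (R₀ := R₀) f hf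
  | cons x rs ih =>
    rw [isWeaklyRegular_cons_iff] at hreg
    have hM : Module.Flat R₀ M := by
      have h0 := hflat 0
      rwa [List.take_zero, flat_quot_nil_iff] at h0
    have hflat' : ∀ i : ℕ, Module.Flat R₀
        (QuotSMulTop x M ⧸ (Ideal.ofList (rs.take i) • ⊤ : Submodule A₀ (QuotSMulTop x M))) := by
      intro i
      have h1 := hflat (i + 1)
      rw [List.take_succ_cons] at h1
      exact Module.Flat.of_linearEquiv
        ((Submodule.quotOfListConsSMulTopEquivQuotSMulTopInner M x (rs.take i)).restrictScalars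
          R₀).symm
    have hQ : Module.Flat R₀ (QuotSMulTop x M) := by
      have h0 := hflat' 0
      rwa [List.take_zero, flat_quot_nil_iff] at h0
    have hxN : IsSMulRegular N (algebraMap A₀ A x) := isSMulRegular (R₀ := R₀) R f hf x hreg.1
    have e := (QuotSMulTop.algebraMapTensorEquivTensorQuotSMulTop x M A).symm ≪≫ₗ
      QuotSMulTop.congr ((algebraMap A₀ A) x) hf.equiv
    have hg : IsBaseChange A <|
        e.toLinearMap.restrictScalars A₀ ∘ₗ TensorProduct.mk A₀ A (QuotSMulTop x M) 1 :=
      IsBaseChange.of_equiv e (fun _ ↦ by simp)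
    obtain ⟨h1, h2⟩ := ih _ hg hreg.2 hflat'
    refine ⟨?_, fun i => ?_⟩
    · rw [List.map_cons, isWeaklyRegular_cons_iff]
      exact ⟨hxN, h1⟩
    · cases i with
      | zero =>
        rw [List.take_zero, flat_quot_nil_iff]
        exact flat (R₀ := R₀) f hf
      | succ i =>
        rw [List.map_cons, List.take_succ_cons]
        exact Module.Flat.of_linearEquiv
          ((Submodule.quotOfListConsSMulTopEquivQuotSMulTopInner N (algebraMap A₀ A x)
            ((rs.map (algebraMap A₀ A)).take i)).restrictScalars R)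

end

/-- Weakly regular sequences with flat quotients pass to localizations. -/
theorem localize {R B L : Type*} [CommRing R] [CommRing B] [CommRing L] [Algebra R B]
    [Algebra B L] [Algebra R L] [IsScalarTower R B L] (T : Submonoid B) [IsLocalization T L]
    (rs : List B) (hreg : IsWeaklyRegular B rs)
    (hflat : ∀ i : ℕ, Module.Flat R (B ⧸ (Ideal.ofList (rs.take i) • ⊤ : Submodule B B))) :
    IsWeaklyRegular L (rs.map (algebraMap B L)) ∧
      ∀ i : ℕ, Module.Flat R (L ⧸ Ideal.ofList ((rs.map (algebraMap B L)).take i)) := by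
  refine ⟨hreg.of_isLocalization L T, fun i => ?_⟩
  rw [← List.map_take, ← Ideal.map_ofList]
  set I := Ideal.ofList (rs.take i) with hI
  have h1 : (I • ⊤ : Submodule B B) = I := by
    rw [smul_eq_mul, Ideal.mul_top]
  have : Module.Flat R (B ⧸ I) :=
    Module.Flat.of_linearEquiv ((Submodule.quotEquivOfEq _ _ h1).restrictScalars R).symm
  have : IsScalarTower R (B ⧸ I) (L ⧸ I.map (algebraMap B L)) :=
    IsScalarTower.of_algebraMap_eq (fun r => by
      rw [IsScalarTower.algebraMap_apply R L (L ⧸ I.map (algebraMap B L)),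
        IsScalarTower.algebraMap_apply R B L, IsScalarTower.algebraMap_apply R B (B ⧸ I)]
      rfl)
  have : Module.Flat (B ⧸ I) (L ⧸ I.map (algebraMap B L)) :=
    IsLocalization.flat _ (Algebra.algebraMapSubmonoid (B ⧸ I) T)
  exact Module.Flat.trans R (B ⧸ I) (L ⧸ I.map (algebraMap B L))

section AtPrime

variable {R₀ R P₀ P : Type*} [CommRing R₀] [CommRing R] [CommRing P₀] [CommRing P]
  [Algebra R₀ R] [Algebra R₀ P₀] [Algebra R₀ P] [Algebra R P] [Algebra P₀ P]
  [IsScalarTower R₀ P₀ P] [IsScalarTower R₀ R P] [Algebra.IsPushout R₀ P₀ R P]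

attribute [local instance] Algebra.TensorProduct.rightAlgebra

/-- Let `P = R ⊗[R₀] P₀`, `q'` a prime of `P` with contraction `q₀` to `P₀`.  A sequence in `P₀` which
is weakly regular in `(P₀)_{q₀}` with `R₀`-flat quotients stays so in `P_{q'}` over `R`. -/
theorem atPrime (q' : Ideal P) [q'.IsPrime] (q₀ : Ideal P₀) [q₀.IsPrime]
    (hq : q₀ = q'.comap (algebraMap P₀ P)) (rs₀ : List P₀)
    (hreg : IsWeaklyRegular (Localization.AtPrime q₀)
      (rs₀.map (algebraMap P₀ (Localization.AtPrime q₀))))
    (hflat : ∀ i : ℕ, Module.Flat R₀ (Localization.AtPrime q₀ ⧸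
      Ideal.ofList ((rs₀.map (algebraMap P₀ (Localization.AtPrime q₀))).take i))) :
    IsWeaklyRegular (Localization.AtPrime q')
        ((rs₀.map (algebraMap P₀ P)).map (algebraMap P (Localization.AtPrime q'))) ∧
      ∀ i : ℕ, Module.Flat R (Localization.AtPrime q' ⧸ Ideal.ofList
        (((rs₀.map (algebraMap P₀ P)).map (algebraMap P (Localization.AtPrime q'))).take i)) := by
  have : SMulCommClass P₀ R P := ⟨fun a r p => by
    simp only [Algebra.smul_def, mul_left_comm]⟩
  have : IsScalarTower R₀ (Localization.AtPrime q₀) (P ⊗[P₀] Localization.AtPrime q₀) :=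
    IsScalarTower.of_algebraMap_eq (fun r => by
      rw [IsScalarTower.algebraMap_apply R₀ P₀ (Localization.AtPrime q₀),
        ← IsScalarTower.algebraMap_apply P₀ (Localization.AtPrime q₀)
          (P ⊗[P₀] Localization.AtPrime q₀),
        IsScalarTower.algebraMap_apply R₀ P₀ (P ⊗[P₀] Localization.AtPrime q₀)])
  -- the pushout `B' = R ⊗[R₀] L₀`
  have hpo : Algebra.IsPushout R₀ (Localization.AtPrime q₀) R (P ⊗[P₀] Localization.AtPrime q₀) :=
    (Algebra.IsPushout.comp_iff R₀ P₀ R P (T := Localization.AtPrime q₀)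
      (T' := P ⊗[P₀] Localization.AtPrime q₀)).mpr inferInstance
  have hpo' : Algebra.IsPushout R₀ R (Localization.AtPrime q₀)
      (P ⊗[P₀] Localization.AtPrime q₀) := hpo.symm
  -- step 1: the sequence in `B'`
  have hflat' : ∀ i : ℕ, Module.Flat R₀ (Localization.AtPrime q₀ ⧸
      (Ideal.ofList ((rs₀.map (algebraMap P₀ (Localization.AtPrime q₀))).take i) • ⊤ :
        Submodule (Localization.AtPrime q₀) (Localization.AtPrime q₀))) := by
    intro i
    have h1 : (Ideal.ofList ((rs₀.map (algebraMap P₀ (Localization.AtPrime q₀))).take i) • ⊤ :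
        Submodule (Localization.AtPrime q₀) (Localization.AtPrime q₀)) =
        Ideal.ofList ((rs₀.map (algebraMap P₀ (Localization.AtPrime q₀))).take i) := by
      rw [smul_eq_mul, Ideal.mul_top]
    have := hflat i
    exact Module.Flat.of_linearEquiv ((Submodule.quotEquivOfEq _ _ h1).restrictScalars R₀)
  obtain ⟨hB1, hB2⟩ := main (R₀ := R₀) R (A₀ := Localization.AtPrime q₀)
    (A := P ⊗[P₀] Localization.AtPrime q₀)
    (rs₀.map (algebraMap P₀ (Localization.AtPrime q₀)))
    (Algebra.linearMap (Localization.AtPrime q₀) (P ⊗[P₀] Localization.AtPrime q₀))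
    (IsBaseChange.linearMap (Localization.AtPrime q₀) (P ⊗[P₀] Localization.AtPrime q₀))
    hreg hflat'
  -- step 2: `P_{q'}` is a localization of `B'`
  have hle : Algebra.algebraMapSubmonoid P q₀.primeCompl ≤ q'.primeCompl := by
    rintro _ ⟨y, hy, rfl⟩
    intro hmem
    apply hy
    rw [hq]
    exact hmem
  have hunits : ∀ y : Algebra.algebraMapSubmonoid P q₀.primeCompl,
      IsUnit (algebraMap P (Localization.AtPrime q') y) := fun y =>
    IsLocalization.map_units (Localization.AtPrime q') ⟨y.1, hle y.2⟩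
  let _ : Algebra (P ⊗[P₀] Localization.AtPrime q₀) (Localization.AtPrime q') :=
    (IsLocalization.lift (M := Algebra.algebraMapSubmonoid P q₀.primeCompl)
      (S := P ⊗[P₀] Localization.AtPrime q₀) hunits).toAlgebra
  have halg : ∀ b, algebraMap (P ⊗[P₀] Localization.AtPrime q₀) (Localization.AtPrime q') b =
      IsLocalization.lift (M := Algebra.algebraMapSubmonoid P q₀.primeCompl)
        (S := P ⊗[P₀] Localization.AtPrime q₀) hunits b := fun b => rfl
  have : IsScalarTower P (P ⊗[P₀] Localization.AtPrime q₀) (Localization.AtPrime q') :=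
    IsScalarTower.of_algebraMap_eq (R := P) (S := P ⊗[P₀] Localization.AtPrime q₀)
      (A := Localization.AtPrime q') (fun x => by rw [halg, IsLocalization.lift_eq])
  have : IsScalarTower R (P ⊗[P₀] Localization.AtPrime q₀) (Localization.AtPrime q') :=
    IsScalarTower.of_algebraMap_eq (R := R) (S := P ⊗[P₀] Localization.AtPrime q₀)
      (A := Localization.AtPrime q') (fun x => by
      rw [IsScalarTower.algebraMap_apply R P (P ⊗[P₀] Localization.AtPrime q₀), halg,
        IsLocalization.lift_eq, ← IsScalarTower.algebraMap_apply])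
  have hloc : IsLocalization (q'.primeCompl.map (algebraMap P (P ⊗[P₀] Localization.AtPrime q₀)))
      (Localization.AtPrime q') :=
    IsLocalization.isLocalization_of_submonoid_le (P ⊗[P₀] Localization.AtPrime q₀)
      (Localization.AtPrime q') (Algebra.algebraMapSubmonoid P q₀.primeCompl) q'.primeCompl hle
  obtain ⟨hL1, hL2⟩ := localize (R := R) (L := Localization.AtPrime q')
    (q'.primeCompl.map (algebraMap P (P ⊗[P₀] Localization.AtPrime q₀))) _ hB1 hB2
  have hlist : ((rs₀.map (algebraMap P₀ (Localization.AtPrime q₀))).map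
      (algebraMap (Localization.AtPrime q₀) (P ⊗[P₀] Localization.AtPrime q₀))).map
        (algebraMap (P ⊗[P₀] Localization.AtPrime q₀) (Localization.AtPrime q')) =
      (rs₀.map (algebraMap P₀ P)).map (algebraMap P (Localization.AtPrime q')) := by
    rw [List.map_map, List.map_map, List.map_map]
    apply List.map_congr_left
    intro a _
    simp only [Function.comp_apply]
    rw [← IsScalarTower.algebraMap_apply P₀ (Localization.AtPrime q₀)
      (P ⊗[P₀] Localization.AtPrime q₀),
      IsScalarTower.algebraMap_apply P₀ P (P ⊗[P₀] Localization.AtPrime q₀),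
      ← IsScalarTower.algebraMap_apply P (P ⊗[P₀] Localization.AtPrime q₀)
        (Localization.AtPrime q')]
  rw [hlist] at hL1 hL2
  exact ⟨hL1, hL2⟩

end AtPrime

end Groth.Agent.H46.RegSeqBC
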