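import Mathlib
import Groth.Prelude.Def_RegImm
import Groth.Agent.H46.RelGCIFlat
import Groth.Agent.H46.RegSeqBC
import Groth.Agent.H19.QuasiReg
import Groth.Agent.H19.QuasiRegCot

/-!
# Relative global complete intersections: local regular sequence, flat quotients, conormal basis
(Stacks 10.136.12, general base ring)
-/

set_option autoImplicit false

open TensorProduct RingTheory.Sequence

universe u

namespace Groth.Agent.H46.RelGCIReg

variable (R : Type u) [CommRing R] (n c : ℕ) (F : Fin c → MvPolynomial (Fin n) R)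

attribute [local instance] MvPolynomial.algebraMvPolynomial

/-- Stacks 10.136.12 (1), (2) over an arbitrary base ring. -/
theorem local_general (h : Synt.IsRelGCI R n c F) (q' : Ideal (MvPolynomial (Fin n) R)) [q'.IsPrime]
    (hq' : Ideal.span (Set.range F) ≤ q') :
    IsWeaklyRegular (Localization.AtPrime q')
        ((List.ofFn F).map (algebraMap _ (Localization.AtPrime q'))) ∧
      ∀ i : ℕ, Module.Flat R (Localization.AtPrime q' ⧸ Ideal.ofList
        (((List.ofFn F).take i).map (algebraMap _ (Localization.AtPrime q')))) := by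
  obtain ⟨R₀, F₀, hft, hF, h₀⟩ := Groth.Agent.H49.RelGCIModel.exists_model_isRelGCI R n c F h
  have : IsNoetherianRing R₀ := Algebra.FiniteType.isNoetherianRing ℤ R₀
  obtain ⟨q₀, hq₀def⟩ : ∃ q₀ : Ideal (MvPolynomial (Fin n) R₀),
      q₀ = q'.comap (algebraMap (MvPolynomial (Fin n) R₀) (MvPolynomial (Fin n) R)) := ⟨_, rfl⟩
  have : q₀.IsPrime := hq₀def ▸ Ideal.comap_isPrime _ _
  have hq₀ : Ideal.span (Set.range F₀) ≤ q₀ := by
    rw [Ideal.span_le]
    rintro _ ⟨i, rfl⟩
    rw [hq₀def]
    change MvPolynomial.map (algebraMap R₀ R) (F₀ i) ∈ q'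
    rw [hF]
    exact hq' (Ideal.subset_span ⟨i, rfl⟩)
  obtain ⟨h1, h2⟩ := Groth.Agent.H46.RelGCIFlat.noeth_local n c F₀ h₀ q₀ hq₀
  obtain ⟨h3, h4⟩ := Groth.Agent.H46.RegSeqBC.atPrime (R₀ := R₀) (R := R) q' q₀ hq₀def
    (List.ofFn F₀) h1 (fun i => by rw [← List.map_take]; exact h2 i)
  have hlist : (List.ofFn F₀).map
      (algebraMap (MvPolynomial (Fin n) R₀) (MvPolynomial (Fin n) R)) = List.ofFn F := by
    rw [List.map_ofFn]
    congr 1
    funext i
    exact hF i
  rw [hlist] at h3 h4
  refine ⟨h3, fun i => ?_⟩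
  rw [List.map_take]
  exact h4 i

/-- Stacks 10.136.12 (1): a regular sequence in the local ring. -/
theorem isRegular_local (h : Synt.IsRelGCI R n c F) (q' : Ideal (MvPolynomial (Fin n) R))
    [q'.IsPrime] (hq' : Ideal.span (Set.range F) ≤ q') :
    IsRegular (Localization.AtPrime q')
      ((List.ofFn F).map (algebraMap _ (Localization.AtPrime q'))) := by
  obtain ⟨h1, -⟩ := local_general R n c F h q' hq'
  refine (IsLocalRing.isRegular_iff_isWeaklyRegular_of_subset_maximalIdeal (fun r hr => ?_)).mpr h1
  rw [List.mem_map] at hr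
  obtain ⟨a, ha, rfl⟩ := hr
  rw [List.mem_ofFn] at ha
  obtain ⟨i, rfl⟩ := ha
  exact (IsLocalization.AtPrime.to_map_mem_maximal_iff _ q' _).mpr
    (hq' (Ideal.subset_span ⟨i, rfl⟩))

open Groth.Agent.H19.QRegCot in
/-- Stacks 10.136.12 (3): the classes of the `F i` are linearly independent in the conormal
module. -/
theorem linearIndependent_cotangent (h : Synt.IsRelGCI R n c F) :
    LinearIndependent (MvPolynomial (Fin n) R ⧸ Ideal.span (Set.range F))
      (fun i : Fin c => (Ideal.span (Set.range F)).toCotangent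
        ⟨F i, Ideal.subset_span (Set.mem_range_self i)⟩) := by
  classical
  rw [Fintype.linearIndependent_iff]
  intro cf hc i
  have hsurj : ∀ j, ∃ a : MvPolynomial (Fin n) R,
      Ideal.Quotient.mk (Ideal.span (Set.range F)) a = cf j := fun j =>
    Ideal.Quotient.mk_surjective (cf j)
  choose a ha using hsurj
  simp only [← ha] at hc
  rw [sum_mk_smul_toCotangent, Ideal.toCotangent_eq_zero, coe_sum_smul] at hc
  rw [← ha i, Ideal.Quotient.eq_zero_iff_mem]
  apply Ideal.mem_of_localization_maximal
  intro m hm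
  by_cases hIm : Ideal.span (Set.range F) ≤ m
  · have hreg := (local_general R n c F h m hIm).1
    rw [List.map_ofFn] at hreg
    have hqr := Groth.Agent.H19.QReg.isQuasiRegular_of_isWeaklyRegular _ hreg
    have hspan : Ideal.span (Set.range (⇑(algebraMap (MvPolynomial (Fin n) R)
        (Localization.AtPrime m)) ∘ F)) =
        (Ideal.span (Set.range F)).map (algebraMap _ (Localization.AtPrime m)) := by
      rw [Ideal.map_span, Set.range_comp]
    have h1 : MvPolynomial.eval (⇑(algebraMap (MvPolynomial (Fin n) R)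
        (Localization.AtPrime m)) ∘ F)
        (linv fun j => algebraMap _ (Localization.AtPrime m) (a j)) ∈
        Ideal.span (Set.range (⇑(algebraMap (MvPolynomial (Fin n) R)
          (Localization.AtPrime m)) ∘ F)) ^ (1 + 1) := by
      rw [eval_linv, hspan, ← Ideal.map_pow]
      have : ∑ j, algebraMap _ (Localization.AtPrime m) (a j) *
          (⇑(algebraMap (MvPolynomial (Fin n) R) (Localization.AtPrime m)) ∘ F) j =
          algebraMap _ (Localization.AtPrime m) (∑ j, a j * F j) := by
        rw [map_sum]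
        exact Finset.sum_congr rfl fun j _ => (map_mul _ _ _).symm
      rw [this]
      exact Ideal.mem_map_of_mem _ hc
    have h2 := hqr 1 _ (linv_isHomogeneous _) h1 (Finsupp.single i 1)
    rw [coeff_linv, hspan] at h2
    exact h2
  · obtain ⟨x, hxI, hxm⟩ := SetLike.not_le_iff_exists.mp hIm
    have htop : (Ideal.span (Set.range F)).map
        (algebraMap _ (Localization.AtPrime m)) = ⊤ :=
      Ideal.eq_top_of_isUnit_mem _ (Ideal.mem_map_of_mem _ hxI)
        (IsLocalization.map_units (M := m.primeCompl) (Localization.AtPrime m) ⟨x, hxm⟩)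
    rw [htop]
    trivial

open Groth.Agent.H19.QRegCot in
theorem span_cotangent :
    Submodule.span (MvPolynomial (Fin n) R ⧸ Ideal.span (Set.range F)) (Set.range
      (fun i : Fin c => (Ideal.span (Set.range F)).toCotangent
        ⟨F i, Ideal.subset_span (Set.mem_range_self i)⟩)) = ⊤ := by
  rw [eq_top_iff]
  intro y _
  obtain ⟨x, rfl⟩ := (Ideal.span (Set.range F)).toCotangent_surjective y
  obtain ⟨a, ha⟩ := Ideal.mem_span_range_iff_exists_fun.mp x.2
  have hx' : x = ∑ i, a i • (⟨F i, Ideal.subset_span (Set.mem_range_self i)⟩ :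
      Ideal.span (Set.range F)) := by
    apply Subtype.ext
    rw [coe_sum_smul, ha]
  rw [hx', ← sum_mk_smul_toCotangent]
  exact Submodule.sum_mem _ fun i _ =>
    Submodule.smul_mem _ _ (Submodule.subset_span ⟨i, rfl⟩)

/-- Stacks 10.136.12 for an arbitrary base ring. -/
theorem main (h : Synt.IsRelGCI R n c F)
    (q' : Ideal (MvPolynomial (Fin n) R)) [q'.IsPrime] (hq' : Ideal.span (Set.range F) ≤ q') :
    RingTheory.Sequence.IsRegular (Localization.AtPrime q')
        ((List.ofFn F).map (algebraMap (MvPolynomial (Fin n) R) (Localization.AtPrime q'))) ∧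
      (∀ i ≤ c, Module.Flat R (Localization.AtPrime q' ⧸ Ideal.ofList
        (((List.ofFn F).take i).map (algebraMap (MvPolynomial (Fin n) R) (Localization.AtPrime q'))))) ∧
      LinearIndependent (Synt.RelGCIRing R n c F)
        (fun i : Fin c => (Ideal.span (Set.range F)).toCotangent ⟨F i, Ideal.subset_span (Set.mem_range_self i)⟩) ∧
      Submodule.span (Synt.RelGCIRing R n c F) (Set.range
        (fun i : Fin c => (Ideal.span (Set.range F)).toCotangent ⟨F i, Ideal.subset_span (Set.mem_range_self i)⟩)) = ⊤ :=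
  ⟨isRegular_local R n c F h q' hq', fun i _ => (local_general R n c F h q' hq').2 i,
    linearIndependent_cotangent R n c F h, span_cotangent R n c F⟩

end Groth.Agent.H46.RelGCIReg
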