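import Mathlib
import Groth.Prelude.Def_RegImm
import Groth.Prelude.Def_LCI2
import Groth.Agent.H46.RelGCIReg
import Groth.Agent.H94.RegDescentKoszul
import Groth.Agent.H79.KoszulCone

/-!
# A relative global complete intersection sequence is Koszul-regular
-/

set_option autoImplicit false
universe u

namespace Groth.Agent.H46.RelGCIKoszul

theorem main (R : Type u) [CommRing R] (n c : ℕ)
    (F : Fin c → MvPolynomial (Fin n) R) (h : Synt.IsRelGCI R n c F) :
    LCI.IsKoszulRegularSeq (MvPolynomial (Fin n) R) (List.ofFn F) := by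
  apply Groth.Agent.H94.RegDescent.koszul_loc
  intro Q hQ
  by_cases hFQ : Ideal.span (Set.range F) ≤ Q
  · intro i hi
    exact Groth.Agent.H79.KoszulCone.isZero_homology_of_isWeaklyRegular _
      (Groth.Agent.H46.RelGCIReg.local_general R n c F h Q hFQ).1 i hi
  · apply Groth.Agent.H94.RegDescent.koszul_unit
    obtain ⟨x, hxI, hxQ⟩ := SetLike.not_le_iff_exists.mp hFQ
    have hof : Ideal.ofList (List.ofFn F) = Ideal.span (Set.range F) := by
      unfold Ideal.ofList
      congr 1
      ext r
      simp [List.mem_ofFn]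
    rw [← Ideal.map_ofList, hof]
    exact Ideal.eq_top_of_isUnit_mem _ (Ideal.mem_map_of_mem _ hxI)
      (IsLocalization.map_units (M := Q.primeCompl) (Localization.AtPrime Q) ⟨x, hxQ⟩)

end Groth.Agent.H46.RelGCIKoszul
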