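import Mathlib.RingTheory.Flat.Equalizer
import Mathlib.LinearAlgebra.TensorProduct.Quotient

set_option autoImplicit false
universe u v w

namespace Groth.Agent.H46

open TensorProduct

/-- If `P` is flat and `f : N → P` is surjective, then `ker f ∩ I N ⊆ I (ker f)`. -/
theorem mem_smul_ker_of_flat {R : Type u} {N : Type v} {P : Type w} [CommRing R]
    [AddCommGroup N] [Module R N] [AddCommGroup P] [Module R P] [Module.Flat R P]
    (f : N →ₗ[R] P) (hf : Function.Surjective f) (I : Ideal R) (k : N)
    (hk : k ∈ LinearMap.ker f) (hk' : k ∈ I • (⊤ : Submodule R N)) :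
    k ∈ I • LinearMap.ker f := by
  set K := LinearMap.ker f with hK
  have hinj : Function.Injective (K.subtype.lTensor (R ⧸ I)) :=
    LinearMap.lTensor_injective_of_exact_of_flat f hf K.subtype K.subtype_injective
      (LinearMap.exact_subtype_ker_map f) (R ⧸ I)
  have h0 : (1 : R ⧸ I) ⊗ₜ[R] (⟨k, hk⟩ : K) = 0 := by
    apply hinj
    rw [map_zero, LinearMap.lTensor_tmul, Submodule.subtype_apply]
    apply (TensorProduct.quotTensorEquivQuotSMul N I).injective
    rw [map_zero, TensorProduct.quotTensorEquivQuotSMul_mk_one_tmul]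
    exact (Submodule.Quotient.mk_eq_zero _).mpr hk'
  have h1 : (⟨k, hk⟩ : K) ∈ I • (⊤ : Submodule R K) := by
    have := congrArg (TensorProduct.quotTensorEquivQuotSMul K I) h0
    rw [map_zero, TensorProduct.quotTensorEquivQuotSMul_mk_one_tmul] at this
    exact (Submodule.Quotient.mk_eq_zero _).mp this
  have h2 : K.subtype ⟨k, hk⟩ ∈ (I • (⊤ : Submodule R K)).map K.subtype :=
    Submodule.mem_map_of_mem h1
  rw [Submodule.map_smul'', Submodule.map_subtype_top] at h2
  exact h2

end Groth.Agent.H46
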