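import Mathlib
import Groth.Prelude.Def_RegImm
import Groth.Agent.H49.FibreDimRing
import Groth.Agent.H17.Chev.TopLocalDim
import Groth.Agent.H17.Chev.Irreducible
import Groth.Agent.H46.GCILoc
import Groth.Agent.H46.TensorAway
import Groth.Agent.H46.RelGCIFlat
import Groth.Agent.H46.RelGCIAway

/-!
# Openness of the relative-global-complete-intersection locus around a fibre
-/

set_option autoImplicit false
universe u

open MvPolynomial TensorProduct AlgebraicGeometry CategoryTheory

namespace Groth.Agent.H46.RelGCIOpen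

section General

variable (R S : Type u) [CommRing R] [CommRing S] [Algebra R S] (p : Ideal R) [p.IsPrime]

/-- Clearing denominators in the extension of an ideal to the fibre ring. -/
theorem exists_tmul_of_mem_map (J : Ideal S) (z : p.Fiber S)
    (hz : z ∈ J.map (Algebra.TensorProduct.includeRight (R := R) (A := p.ResidueField) (B := S))) :
    ∃ r ∉ p, ∃ g ∈ J, r • z = (1 : p.ResidueField) ⊗ₜ[R] g := by
  have h1 : (1 : R) ∉ p := (Ideal.ne_top_iff_one p).1 Ideal.IsPrime.ne_top'
  unfold Ideal.map at hz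
  induction hz using Submodule.span_induction with
  | mem x hx =>
    obtain ⟨j, hj, rfl⟩ := hx
    exact ⟨1, h1, j, hj, by rw [one_smul]; rfl⟩
  | zero => exact ⟨1, h1, 0, J.zero_mem, by rw [smul_zero, TensorProduct.tmul_zero]⟩
  | add x y _ _ hx hy =>
    obtain ⟨r1, hr1, g1, hg1, e1⟩ := hx
    obtain ⟨r2, hr2, g2, hg2, e2⟩ := hy
    refine ⟨r1 * r2, fun h => (Ideal.IsPrime.mem_or_mem inferInstance h).elim hr1 hr2,
      r2 • g1 + r1 • g2, J.add_mem (Submodule.smul_of_tower_mem J r2 hg1)
        (Submodule.smul_of_tower_mem J r1 hg2), ?_⟩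
    rw [smul_add, mul_comm r1 r2, mul_smul, e1, mul_comm r2 r1, mul_smul, e2,
      TensorProduct.tmul_add, TensorProduct.tmul_smul, TensorProduct.tmul_smul]
  | smul a x _ hx =>
    obtain ⟨r, hr, g, hg, e⟩ := hx
    obtain ⟨r', hr', s, hs⟩ := Ideal.Fiber.exists_smul_eq_one_tmul p a
    refine ⟨r' * r, fun h => (Ideal.IsPrime.mem_or_mem inferInstance h).elim hr' hr,
      s * g, J.mul_mem_left s hg, ?_⟩
    rw [smul_eq_mul, ← smul_mul_smul_comm, hs, e, Algebra.TensorProduct.tmul_mul_tmul, one_mul]

variable [Algebra.FinitePresentation R S]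

/-- If the fibre over `p` has dimension `≤ m`, some `g` invertible on the fibre has
`D(g)` inside the locus of local fibre dimension `≤ m`. -/
theorem exists_unit (m : ℕ) (hdim : ringKrullDim (p.Fiber S) ≤ (m : WithBot ℕ∞)) :
    ∃ g : S, IsUnit ((1 : p.ResidueField) ⊗ₜ[R] g : p.Fiber S) ∧
      ∀ q : PrimeSpectrum S, g ∉ q.asIdeal →
        FlatMor.fibreDimAt (Spec.map (CommRingCat.ofHom (algebraMap R S)))
          (show ↥(Spec (CommRingCat.of S)) from q) ≤ (m : WithBot ℕ∞) := by
  let W : Set (PrimeSpectrum S) := {q : ↥(Spec (CommRingCat.of S)) |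
        FlatMor.fibreDimAt (Spec.map (CommRingCat.ofHom (algebraMap R S))) q ≤ m}
  have hW : IsOpen W := by
    have := (Groth.Agent.H49.FibreDimRing.main R S m).1
    rw [Groth.Agent.H49.FibreDimRing.setOf_eq] at this
    exact this
  have hfib : ∀ Q : PrimeSpectrum (p.Fiber S),
      (⟨Q.asIdeal.comap (Algebra.TensorProduct.includeRight.toRingHom), inferInstance⟩ :
        PrimeSpectrum S) ∈ W := fun Q => by
    change FlatMor.fibreDimAt _ _ ≤ _
    rw [Groth.Agent.H49.FibreDimRing.fibreDimAt_SpecMap R S ⟨p, inferInstance⟩ Q _ rfl]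
    refine (Groth.Agent.H17.Chev.localDim_le_dim Q).trans ?_
    rw [PrimeSpectrum.topologicalKrullDim_eq_ringKrullDim]
    exact hdim
  let J : Ideal S := PrimeSpectrum.vanishingIdeal Wᶜ
  have hJ : PrimeSpectrum.zeroLocus (J : Set S) = Wᶜ := by
    rw [PrimeSpectrum.zeroLocus_vanishingIdeal_eq_closure, hW.isClosed_compl.closure_eq]
  have htop : J.map (Algebra.TensorProduct.includeRight (R := R) (A := p.ResidueField) (B := S))
      = ⊤ := by
    by_contra hne
    obtain ⟨M, hM, hle⟩ := Ideal.exists_le_maximal _ hne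
    have hmem : (⟨M.comap (Algebra.TensorProduct.includeRight.toRingHom), inferInstance⟩ :
        PrimeSpectrum S) ∈ Wᶜ := by
      rw [← hJ]
      intro j hj
      exact hle (Ideal.mem_map_of_mem _ hj)
    exact hmem (hfib ⟨M, hM.isPrime⟩)
  obtain ⟨r, hr, g, hg, e⟩ := exists_tmul_of_mem_map R S p J 1 (htop ▸ Submodule.mem_top)
  refine ⟨g, ?_, ?_⟩
  · rw [← e, Algebra.smul_def, mul_one, IsScalarTower.algebraMap_apply R p.ResidueField]
    refine IsUnit.map _ (IsUnit.mk0 _ ?_)
    rwa [ne_eq, Ideal.algebraMap_residueField_eq_zero]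
  · intro q hq
    by_contra hnot
    have : q ∈ Wᶜ := hnot
    rw [← hJ] at this
    exact hq (this hg)

end General

section Fibre

variable (R : Type u) [CommRing R] (n c : ℕ) (F : Fin c → MvPolynomial (Fin n) R)

/-- If `D(g)` lies in the locus of local fibre dimension `≤ n - c`, every nonempty fibre of `S_g`
has dimension `n - c`. -/
theorem ringKrullDim_fibre_away (g : Synt.RelGCIRing R n c F)
    (hg : ∀ q : PrimeSpectrum (Synt.RelGCIRing R n c F), g ∉ q.asIdeal →
      FlatMor.fibreDimAt (Spec.map (CommRingCat.ofHom (algebraMap R (Synt.RelGCIRing R n c F))))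
        (show ↥(Spec (CommRingCat.of (Synt.RelGCIRing R n c F))) from q) ≤
          ((n - c : ℕ) : WithBot ℕ∞))
    (p' : Ideal R) [p'.IsPrime] [Nontrivial (p'.Fiber (Localization.Away g))] :
    ringKrullDim (p'.Fiber (Localization.Away g)) = ((n - c : ℕ) : WithBot ℕ∞) := by
  let T := p'.Fiber (Synt.RelGCIRing R n c F)
  let t : T := (1 : p'.ResidueField) ⊗ₜ[R] g
  letI : Algebra T (p'.Fiber (Localization.Away g)) :=
    (Groth.Agent.H46.tensorAwayMap R p'.ResidueField (Synt.RelGCIRing R n c F)
      (Localization.Away g)).toRingHom.toAlgebra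
  haveI : IsLocalization.Away t (p'.Fiber (Localization.Away g)) :=
    Groth.Agent.H46.isLocalization_away_tensor R p'.ResidueField (Synt.RelGCIRing R n c F)
      (Localization.Away g) g
  let e : Localization.Away t ≃ₐ[T] p'.Fiber (Localization.Away g) :=
    IsLocalization.algEquiv (Submonoid.powers t) _ _
  haveI : Nontrivial (Localization.Away t) := e.symm.injective.nontrivial
  rw [← ringKrullDim_eq_of_ringEquiv e.toRingEquiv]
  apply le_antisymm
  · rw [← PrimeSpectrum.topologicalKrullDim_eq_ringKrullDim,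
      Groth.Agent.H17.Chev.topologicalKrullDim_eq_iSup_localDim]
    refine iSup_le fun x => ?_
    rw [Groth.Agent.H17.Chev.localDim_eq_of_isOpenEmbedding
      (PrimeSpectrum.localization_away_isOpenEmbedding (Localization.Away t) t) x]
    have htQ : t ∉ (PrimeSpectrum.comap (algebraMap T (Localization.Away t)) x).asIdeal := by
      intro ht
      exact x.isPrime.ne_top (Ideal.eq_top_of_isUnit_mem _ ht
        (IsLocalization.Away.algebraMap_isUnit t))
    let q : PrimeSpectrum (Synt.RelGCIRing R n c F) :=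
      ⟨(PrimeSpectrum.comap (algebraMap T (Localization.Away t)) x).asIdeal.comap
        (Algebra.TensorProduct.includeRight.toRingHom), inferInstance⟩
    have hgq : g ∉ q.asIdeal := fun h => htQ h
    rw [← Groth.Agent.H49.FibreDimRing.fibreDimAt_SpecMap R (Synt.RelGCIRing R n c F)
      ⟨p', inferInstance⟩ _ q rfl]
    exact hg q hgq
  · let P := Groth.Agent.H46.RelGCIFlat.fibrePresentation n c F p'
    refine Groth.Agent.H46.GCILoc.le_ringKrullDim_away t n c (aeval P.val) P.relation
      P.aeval_val_surjective ?_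
    rw [P.span_range_relation_eq_ker, Algebra.Generators.ker_eq_ker_aeval_val]
    rfl

instance finitePresentation : Algebra.FinitePresentation R (Synt.RelGCIRing R n c F) :=
  Algebra.FinitePresentation.quotient (Submodule.fg_span (Set.finite_range F))

/-- Transfer of the dimension statement to the explicit presentation of `S_g`. -/
theorem isRelGCI_ext (hcn : c ≤ n) (h : MvPolynomial (Fin n) R)
    (hg : ∀ q : PrimeSpectrum (Synt.RelGCIRing R n c F),
      Ideal.Quotient.mk (Ideal.span (Set.range F)) h ∉ q.asIdeal →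
      FlatMor.fibreDimAt (Spec.map (CommRingCat.ofHom (algebraMap R (Synt.RelGCIRing R n c F))))
        (show ↥(Spec (CommRingCat.of (Synt.RelGCIRing R n c F))) from q) ≤
          ((n - c : ℕ) : WithBot ℕ∞)) :
    Synt.IsRelGCI R (n + 1) (c + 1) (Groth.Agent.H46.RelGCIAway.ext n c F h) := by
  intro p' hnt
  refine ⟨by omega, ?_⟩
  let E : p'.asIdeal.Fiber (Localization.Away (Ideal.Quotient.mk (Ideal.span (Set.range F)) h))
      ≃ₐ[p'.asIdeal.ResidueField] p'.asIdeal.Fiber
        (Synt.RelGCIRing R (n + 1) (c + 1) (Groth.Agent.H46.RelGCIAway.ext n c F h)) :=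
    Algebra.TensorProduct.congr AlgEquiv.refl (Groth.Agent.H46.RelGCIAway.equiv n c F h)
  have : Nontrivial (p'.asIdeal.Fiber
      (Localization.Away (Ideal.Quotient.mk (Ideal.span (Set.range F)) h))) :=
    haveI := hnt
    E.symm.injective.nontrivial
  rw [← ringKrullDim_eq_of_ringEquiv E.toRingEquiv,
    ringKrullDim_fibre_away R n c F _ hg p'.asIdeal, Nat.add_sub_add_right]

theorem main (p : Ideal R) [p.IsPrime]
    (hp : c ≤ n ∧ ringKrullDim (p.Fiber (Synt.RelGCIRing R n c F)) = ((n - c : ℕ) : WithBot ℕ∞)) :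
    ∃ h : MvPolynomial (Fin n) R,
      IsUnit ((1 : p.ResidueField) ⊗ₜ[R] (Ideal.Quotient.mk (Ideal.span (Set.range F)) h) :
        p.Fiber (Synt.RelGCIRing R n c F)) ∧
      Synt.IsRelGCI R (n + 1) (c + 1)
        (Fin.snoc (fun i => rename Fin.castSucc (F i)) (rename Fin.castSucc h * X (Fin.last n) - 1)) ∧
      Nonempty (Localization.Away (Ideal.Quotient.mk (Ideal.span (Set.range F)) h) ≃ₐ[R]
        Synt.RelGCIRing R (n + 1) (c + 1)
          (Fin.snoc (fun i => rename Fin.castSucc (F i)) (rename Fin.castSucc h * X (Fin.last n) - 1))) := by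
  obtain ⟨g, hgu, hg⟩ := exists_unit R (Synt.RelGCIRing R n c F) p (n - c) hp.2.le
  obtain ⟨h, rfl⟩ := Ideal.Quotient.mk_surjective g
  exact ⟨h, hgu, isRelGCI_ext R n c F hp.1 h hg, ⟨Groth.Agent.H46.RelGCIAway.equiv n c F h⟩⟩

end Fibre

end Groth.Agent.H46.RelGCIOpen
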