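import Mathlib
import Groth.Agent.H46.RelGCIOpen

/-!
# Generators of the fibre kernel for a presentation adapted to a global-CI fibre

`T` an `R`-algebra with a surjection `α : R[x_1..x_n] → T`, `p` a prime of `R`, and a presentation
`β : κ(p)[y_1..y_m] → κ(p) ⊗ T` of the fibre with kernel generated by `t` elements. Then there is a
surjection `γ : R[x_1..x_{n+m}] → T` and `n + t` elements `G_l` of `ker γ` whose images generate the
extension of `ker γ` to `κ(p) ⊗ R[x_1..x_{n+m}]`.
-/

set_option autoImplicit false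
universe u

open MvPolynomial TensorProduct

namespace Groth.Agent.H46.SyntLocal

section KerGens

variable {R T : Type u} [CommRing R] [CommRing T] [Algebra R T] (p : Ideal R) [p.IsPrime]
variable {n m t : ℕ}

/-- The abstract statement about polynomial rings over a field. -/
theorem ker_eq_span {κ B : Type u} [Field κ] [CommRing B] [Algebra κ B]
    (Φ' : MvPolynomial (Fin (n + m)) κ →ₐ[κ] B)
    (β : MvPolynomial (Fin m) κ →ₐ[κ] B)
    (r : Fin t → MvPolynomial (Fin m) κ)
    (hker : RingHom.ker β.toRingHom = Ideal.span (Set.range r))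
    (u : Fin m → κ) (hu : ∀ j, u j ≠ 0)
    (hΦβ : ∀ j, Φ' (X (Fin.natAdd n j)) = u j • β (X j))
    (P : Fin n → MvPolynomial (Fin m) κ)
    (hP : ∀ i, β (P i) = Φ' (X (Fin.castAdd m i))) :
    ∃ w : Fin (n + t) → MvPolynomial (Fin (n + m)) κ,
      RingHom.ker Φ'.toRingHom = Ideal.span (Set.range w) := by
  let ι : MvPolynomial (Fin m) κ →ₐ[κ] MvPolynomial (Fin (n + m)) κ :=
    aeval (fun j => C (u j)⁻¹ * X (Fin.natAdd n j))
  let ρ : MvPolynomial (Fin (n + m)) κ →ₐ[κ] MvPolynomial (Fin m) κ :=
    aeval (Fin.addCases (motive := fun _ => MvPolynomial (Fin m) κ) P (fun j => C (u j) * X j))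
  have hιβ : Φ'.comp ι = β := by
    apply MvPolynomial.algHom_ext
    intro j
    change Φ' (ι (X j)) = β (X j)
    simp only [ι, aeval_X]
    rw [map_mul, hΦβ, ← algebraMap_eq, AlgHom.commutes, ← Algebra.smul_def, smul_smul,
      inv_mul_cancel₀ (hu j), one_smul]
  have hβρ : β.comp ρ = Φ' := by
    apply MvPolynomial.algHom_ext
    intro i
    change β (ρ (X i)) = Φ' (X i)
    simp only [ρ, aeval_X]
    refine Fin.addCases (fun i' => ?_) (fun j => ?_) i
    · rw [Fin.addCases_left, hP]
    · rw [Fin.addCases_right, map_mul, ← algebraMap_eq, AlgHom.commutes, ← Algebra.smul_def,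
        hΦβ]
  let w : Fin (n + t) → MvPolynomial (Fin (n + m)) κ :=
    Fin.addCases (motive := fun _ => MvPolynomial (Fin (n + m)) κ)
      (fun i => X (Fin.castAdd m i) - ι (P i)) (fun l => ι (r l))
  refine ⟨w, ?_⟩
  set W := Ideal.span (Set.range w) with hW
  have hw_mem : ∀ l, w l ∈ W := fun l => Ideal.subset_span ⟨l, rfl⟩
  -- `z ≡ ι (ρ z)` modulo `W`
  have hmod : ∀ z, z - ι (ρ z) ∈ W := by
    have hcomp : (Ideal.Quotient.mkₐ κ W).comp (ι.comp ρ) = Ideal.Quotient.mkₐ κ W := by
      apply MvPolynomial.algHom_ext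
      intro i
      change Ideal.Quotient.mk W (ι (ρ (X i))) = Ideal.Quotient.mk W (X i)
      simp only [ρ, aeval_X]
      refine Fin.addCases (fun i' => ?_) (fun j => ?_) i
      · rw [Fin.addCases_left, eq_comm, Ideal.Quotient.eq]
        have := hw_mem (Fin.castAdd t i')
        simp only [w, Fin.addCases_left] at this
        exact this
      · rw [Fin.addCases_right, map_mul]
        simp only [ι, aeval_X, algHom_C]
        rw [algebraMap_eq, ← mul_assoc, ← C_mul, mul_inv_cancel₀ (hu j), C_1, one_mul]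
    intro z
    rw [← Ideal.Quotient.eq, eq_comm]
    exact DFunLike.congr_fun hcomp z
  apply le_antisymm
  · intro z hz
    have hz' : Φ' z = 0 := hz
    have h1 : ρ z ∈ Ideal.span (Set.range r) := by
      rw [← hker]
      change β (ρ z) = 0
      rw [← hz']
      exact DFunLike.congr_fun hβρ z
    have h2 : ι (ρ z) ∈ W := by
      have hle : Ideal.span (Set.range r) ≤ W.comap ι.toRingHom := by
        rw [Ideal.span_le]
        rintro _ ⟨l, rfl⟩
        have := hw_mem (Fin.natAdd n l)
        simp only [w, Fin.addCases_right] at this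
        exact this
      exact hle h1
    have := W.add_mem (hmod z) h2
    rwa [sub_add_cancel] at this
  · rw [hW, Ideal.span_le]
    rintro _ ⟨l, rfl⟩
    change Φ' (w l) = 0
    refine Fin.addCases (fun i => ?_) (fun l' => ?_) l
    · simp only [w, Fin.addCases_left]
      rw [map_sub, ← hP, sub_eq_zero]
      exact (DFunLike.congr_fun hιβ (P i)).symm
    · simp only [w, Fin.addCases_right]
      have : β (r l') = 0 := by
        have : r l' ∈ RingHom.ker β.toRingHom := by
          rw [hker]; exact Ideal.subset_span ⟨l', rfl⟩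
        exact this
      rw [← this]
      exact DFunLike.congr_fun hιβ (r l')

/-- Generators of the fibre kernel of an adapted presentation. -/
theorem exists_gens (α : MvPolynomial (Fin n) R →ₐ[R] T) (hα : Function.Surjective α)
    (β : MvPolynomial (Fin m) p.ResidueField →ₐ[p.ResidueField] p.Fiber T)
    (hβ : Function.Surjective β)
    (r : Fin t → MvPolynomial (Fin m) p.ResidueField)
    (hker : RingHom.ker β.toRingHom = Ideal.span (Set.range r)) :
    ∃ (γ : MvPolynomial (Fin (n + m)) R →ₐ[R] T)
      (G : Fin (n + t) → MvPolynomial (Fin (n + m)) R),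
      Function.Surjective γ ∧ (∀ l, γ (G l) = 0) ∧
      (RingHom.ker γ.toRingHom).map (Algebra.TensorProduct.includeRight (R := R)
        (A := p.ResidueField) (B := MvPolynomial (Fin (n + m)) R)) =
        Ideal.span (Set.range fun l => (1 : p.ResidueField) ⊗ₜ[R] G l) := by
  classical
  have hη : ∀ j, ∃ s : R, s ∉ p ∧ ∃ η : T, s • β (X j) = (1 : p.ResidueField) ⊗ₜ[R] η :=
    fun j => by
      obtain ⟨s, hs, η, e⟩ := Ideal.Fiber.exists_smul_eq_one_tmul p (β (X j))
      exact ⟨s, hs, η, e⟩
  choose s hs η hη using hη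
  let γ : MvPolynomial (Fin (n + m)) R →ₐ[R] T :=
    aeval (Fin.addCases (motive := fun _ => T) (fun i => α (X i)) η)
  have hγl : ∀ i, γ (X (Fin.castAdd m i)) = α (X i) := fun i => by
    simp only [γ, aeval_X, Fin.addCases_left]
  have hγr : ∀ j, γ (X (Fin.natAdd n j)) = η j := fun j => by
    simp only [γ, aeval_X, Fin.addCases_right]
  have hγsurj : Function.Surjective γ := by
    intro y
    obtain ⟨a, rfl⟩ := hα y
    refine ⟨rename (Fin.castAdd m) a, ?_⟩
    have : γ.comp (rename (Fin.castAdd m)) = α := by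
      apply MvPolynomial.algHom_ext
      intro i
      change γ (rename (Fin.castAdd m) (X i)) = α (X i)
      rw [rename_X, hγl]
    exact DFunLike.congr_fun this a
  let Φ' : MvPolynomial (Fin (n + m)) p.ResidueField →ₐ[p.ResidueField] p.Fiber T :=
    aeval (fun i => (1 : p.ResidueField) ⊗ₜ[R] γ (X i))
  let u : Fin m → p.ResidueField := fun j => algebraMap R p.ResidueField (s j)
  have hu : ∀ j, u j ≠ 0 := fun j => by
    rw [ne_eq, Ideal.algebraMap_residueField_eq_zero]; exact hs j
  have hΦβ : ∀ j, Φ' (X (Fin.natAdd n j)) = u j • β (X j) := fun j => by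
    simp only [Φ', aeval_X]
    rw [hγr, ← hη j, algebraMap_smul]
  have hP : ∀ i, ∃ P : MvPolynomial (Fin m) p.ResidueField, β P = Φ' (X (Fin.castAdd m i)) :=
    fun i => hβ _
  choose P hP using hP
  obtain ⟨w, hw⟩ := ker_eq_span Φ' β r hker u hu hΦβ P hP
  let e := MvPolynomial.algebraTensorAlgEquiv (σ := Fin (n + m)) R p.ResidueField
  let Φκ : p.ResidueField ⊗[R] MvPolynomial (Fin (n + m)) R →ₐ[p.ResidueField]
      p.ResidueField ⊗[R] T :=
    Algebra.TensorProduct.map (AlgHom.id p.ResidueField p.ResidueField) γ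
  have hΦ : ∀ x, Φ' (e x) = Φκ x := by
    have h1 : Φκ.comp e.symm.toAlgHom = Φ' := by
      apply MvPolynomial.algHom_ext
      intro i
      change Φκ (e.symm (X i)) = Φ' (X i)
      rw [MvPolynomial.algebraTensorAlgEquiv_symm_X]
      simp only [Φκ, Φ', aeval_X, Algebra.TensorProduct.map_tmul, AlgHom.id_apply]
    intro x
    rw [← h1]
    change Φκ (e.symm (e x)) = Φκ x
    rw [e.symm_apply_apply]
  set J := RingHom.ker γ.toRingHom with hJ
  have hkerΦ : ∀ x, Φκ x = 0 ↔ x ∈ J.map (Algebra.TensorProduct.includeRight (R := R)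
      (A := p.ResidueField) (B := MvPolynomial (Fin (n + m)) R)) := by
    intro x
    have h := Algebra.TensorProduct.lTensor_ker (A := p.ResidueField) γ hγsurj
    have hJJ : J = RingHom.ker γ := rfl
    rw [hJJ, ← h]
    rfl
  have hmem : ∀ l, e.symm (w l) ∈ J.map (Algebra.TensorProduct.includeRight (R := R)
      (A := p.ResidueField) (B := MvPolynomial (Fin (n + m)) R)) := by
    intro l
    rw [← hkerΦ, ← hΦ, e.apply_symm_apply]
    have : w l ∈ RingHom.ker Φ'.toRingHom := by
      rw [hw]; exact Ideal.subset_span ⟨l, rfl⟩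
    exact this
  have hG : ∀ l, ∃ s' : R, s' ∉ p ∧ ∃ G ∈ J, s' • e.symm (w l) = (1 : p.ResidueField) ⊗ₜ[R] G :=
    fun l => Groth.Agent.H46.RelGCIOpen.exists_tmul_of_mem_map R _ p J _ (hmem l)
  choose s' hs' G hGJ hG using hG
  refine ⟨γ, G, hγsurj, fun l => hGJ l, ?_⟩
  apply le_antisymm
  · intro x hx
    have h1 : e x ∈ Ideal.span (Set.range w) := by
      rw [← hw]
      change Φ' (e x) = 0
      rw [hΦ, hkerΦ]
      exact hx
    have hle : Ideal.span (Set.range w) ≤
        (Ideal.span (Set.range fun l => (1 : p.ResidueField) ⊗ₜ[R] G l)).comap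
          e.symm.toRingEquiv.toRingHom := by
      rw [Ideal.span_le]
      rintro _ ⟨l, rfl⟩
      rw [SetLike.mem_coe, Ideal.mem_comap]
      change e.symm (w l) ∈ _
      have hu' : algebraMap R p.ResidueField (s' l) ≠ 0 := by
        rw [ne_eq, Ideal.algebraMap_residueField_eq_zero]; exact hs' l
      have : e.symm (w l) =
          (algebraMap R p.ResidueField (s' l))⁻¹ • ((1 : p.ResidueField) ⊗ₜ[R] G l) := by
        rw [← hG l, ← algebraMap_smul p.ResidueField (s' l) (e.symm (w l)), smul_smul,
          inv_mul_cancel₀ hu', one_smul]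
      rw [this]
      exact Submodule.smul_of_tower_mem _ _ (Ideal.subset_span ⟨l, rfl⟩)
    have := hle h1
    rw [Ideal.mem_comap] at this
    change e.symm (e x) ∈ _ at this
    rwa [e.symm_apply_apply] at this
  · rw [Ideal.span_le]
    rintro _ ⟨l, rfl⟩
    exact Ideal.mem_map_of_mem _ (hGJ l)

end KerGens

end Groth.Agent.H46.SyntLocal
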