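import Mathlib
import Groth.Agent.H46.RelGCIOpen
import Groth.Agent.H46.SyntLocalKer
import Groth.Agent.H46.FlatKer

/-!
# A flat finitely presented algebra with a global-complete-intersection fibre is locally
a relative global complete intersection
-/

set_option autoImplicit false
universe u

open MvPolynomial TensorProduct

namespace Groth.Agent.H46.SyntLocal

section TmulZero

attribute [local instance] Algebra.TensorProduct.rightAlgebra in
/-- An element with vanishing image in the fibre is, up to an element outside `p`, in `pS`. -/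
theorem exists_smul_mem_of_tmul_eq_zero (R S : Type u) [CommRing R] [CommRing S] [Algebra R S]
    (p : Ideal R) [p.IsPrime] (x : S) (hx : (1 : p.ResidueField) ⊗ₜ[R] x = 0) :
    ∃ s : R, s ∉ p ∧ s • x ∈ p.map (algebraMap R S) := by
  let e := Ideal.Fiber.algEquivAux₁ (S := S) p
  have h1 : e ((1 : p.ResidueField) ⊗ₜ[R] x) = 0 := by rw [hx, map_zero]
  have h2 : e ((1 : p.ResidueField) ⊗ₜ[R] x) = Ideal.Quotient.mk _ (algebraMap S _ x) :=
    e.commutes x
  rw [h2, Ideal.Quotient.eq_zero_iff_mem, IsLocalization.algebraMap_mem_map_algebraMap_iff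
    (Algebra.algebraMapSubmonoid S p.primeCompl)] at h1
  obtain ⟨_, ⟨s, hs, rfl⟩, hmx⟩ := h1
  exact ⟨s, hs, by rwa [Algebra.smul_def]⟩

end TmulZero

section Annih

/-- A finite product of annihilating elements outside a prime. -/
theorem exists_annih_finset {A : Type u} [CommRing A] (q : Ideal A) [q.IsPrime] (s : Finset A)
    (h : ∀ k ∈ s, ∃ a : A, a ∉ q ∧ a * k = 0) : ∃ a : A, a ∉ q ∧ ∀ k ∈ s, a * k = 0 := by
  classical
  induction s using Finset.induction_on with
  | empty => exact ⟨1, fun h1 => Ideal.IsPrime.ne_top' ((Ideal.eq_top_iff_one q).2 h1), by simp⟩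
  | insert k₀ s _ ih =>
    obtain ⟨a₀, ha₀, h₀⟩ := h k₀ (Finset.mem_insert_self _ _)
    obtain ⟨a₁, ha₁, h₁⟩ := ih (fun k hk => h k (Finset.mem_insert_of_mem hk))
    refine ⟨a₀ * a₁, fun hmem => (Ideal.IsPrime.mem_or_mem inferInstance hmem).elim ha₀ ha₁, ?_⟩
    intro k hk
    rcases Finset.mem_insert.1 hk with rfl | hk
    · rw [mul_comm a₀ a₁, mul_assoc, h₀, mul_zero]
    · rw [mul_assoc, h₁ k hk, mul_zero]

/-- Nakayama step: the finitely generated kernel of a surjection onto a flat algebra, vanishing in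
the fibre over `p`, is killed by an element outside any given prime over `p`. -/
theorem exists_annih_ker {R S' T : Type u} [CommRing R] [CommRing S'] [CommRing T] [Algebra R S']
    [Algebra R T] [Module.Flat R T]
    (π : S' →ₐ[R] T) (hπ : Function.Surjective π) (p : Ideal R) [p.IsPrime] (q' : Ideal S')
    [q'.IsPrime] (hq' : ∀ r : R, r ∈ p ↔ algebraMap R S' r ∈ q')
    (hfg : (RingHom.ker π.toRingHom).FG)
    (hK1 : ∀ k ∈ RingHom.ker π.toRingHom, (1 : p.ResidueField) ⊗ₜ[R] k = 0) :
    ∃ a : S', a ∉ q' ∧ ∀ k ∈ RingHom.ker π.toRingHom, a * k = 0 := by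
  classical
  set K := RingHom.ker π.toRingHom with hK
  let L := Localization.AtPrime q'
  let K' : Ideal L := K.map (algebraMap S' L)
  have hK'fg : K'.FG := hfg.map _
  have hmap : ∀ z ∈ p • LinearMap.ker π.toLinearMap,
      algebraMap S' L z ∈ IsLocalRing.maximalIdeal L • K' := by
    intro z hz
    refine Submodule.smul_induction_on hz (fun r hr k' hk' => ?_) (fun a b ha hb => ?_)
    · rw [Algebra.smul_def, map_mul, smul_eq_mul]
      refine Ideal.mul_mem_mul ?_ (Ideal.mem_map_of_mem _ hk')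
      rw [IsLocalization.AtPrime.to_map_mem_maximal_iff L q']
      exact (hq' r).1 hr
    · rw [map_add]
      exact add_mem ha hb
  have hle : K' ≤ IsLocalRing.maximalIdeal L • K' := by
    rw [Ideal.map_le_iff_le_comap]
    intro k hk
    obtain ⟨s, hs, hsk⟩ := exists_smul_mem_of_tmul_eq_zero R S' p k (hK1 k hk)
    have hsk' : s • k ∈ p • LinearMap.ker π.toLinearMap := by
      refine Groth.Agent.H46.mem_smul_ker_of_flat π.toLinearMap hπ p (s • k) ?_ ?_
      · rw [LinearMap.mem_ker, map_smul]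
        have : π k = 0 := hk
        rw [AlgHom.toLinearMap_apply, this, smul_zero]
      · rw [Ideal.smul_top_eq_map]
        exact hsk
    have h3 := hmap _ hsk'
    rw [Algebra.smul_def, map_mul] at h3
    have hunit : IsUnit (algebraMap S' L (algebraMap R S' s)) :=
      IsLocalization.map_units L (⟨algebraMap R S' s, fun hmem => hs ((hq' s).2 hmem)⟩ :
        q'.primeCompl)
    exact Ideal.mem_comap.2 ((Ideal.unit_mul_mem_iff_mem _ hunit).1 h3)
  have hK'bot : K' = ⊥ :=
    Submodule.eq_bot_of_le_smul_of_le_jacobson_bot (IsLocalRing.maximalIdeal L) K' hK'fg hle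
      (IsLocalRing.maximalIdeal_le_jacobson ⊥)
  obtain ⟨gens, hgens⟩ := hfg
  have hann : ∀ k ∈ gens, ∃ a : S', a ∉ q' ∧ a * k = 0 := by
    intro k hk
    have hkK : k ∈ K := hgens ▸ Ideal.subset_span hk
    have h0 : algebraMap S' L k = 0 := by
      have : algebraMap S' L k ∈ K' := Ideal.mem_map_of_mem _ hkK
      rw [hK'bot] at this
      exact this
    obtain ⟨m, hm⟩ := (IsLocalization.map_eq_zero_iff q'.primeCompl L k).1 h0
    exact ⟨m.1, m.2, hm⟩
  obtain ⟨a, ha, hak⟩ := exists_annih_finset q' gens hann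
  refine ⟨a, ha, fun k hk => ?_⟩
  rw [← hgens] at hk
  refine Submodule.span_induction (fun x hx => hak x hx) (by rw [mul_zero])
    (fun x y _ _ hx hy => by rw [mul_add, hx, hy, add_zero])
    (fun c x _ hx => by rw [smul_eq_mul, mul_left_comm, hx, mul_zero]) hk

end Annih


section Core

variable (R T : Type u) [CommRing R] [CommRing T] [Algebra R T] [Algebra.FinitePresentation R T]
  [Module.Flat R T] (p : Ideal R) [p.IsPrime] (qT : Ideal T) [qT.IsPrime]

/-- A flat finitely presented `R`-algebra whose fibre over `p` is a global complete intersection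
(presented by `m` variables and `t` relations, of dimension `m - t`) is, near any prime over `p`,
a relative global complete intersection. -/
theorem core (hqT : ∀ r : R, r ∈ p ↔ algebraMap R T r ∈ qT) (m t : ℕ) (htm : t ≤ m)
    (β : MvPolynomial (Fin m) p.ResidueField →ₐ[p.ResidueField] p.Fiber T)
    (hβ : Function.Surjective β)
    (r : Fin t → MvPolynomial (Fin m) p.ResidueField)
    (hker : RingHom.ker β.toRingHom = Ideal.span (Set.range r))
    (hdim : ringKrullDim (p.Fiber T) = ((m - t : ℕ) : WithBot ℕ∞)) :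
    ∃ u : T, u ∉ qT ∧ ∃ (N C : ℕ) (G : Fin C → MvPolynomial (Fin N) R), Synt.IsRelGCI R N C G ∧
      Nonempty (Localization.Away u ≃ₐ[R] Synt.RelGCIRing R N C G) := by
  classical
  obtain ⟨n, α, hα, -⟩ := Algebra.FinitePresentation.out (R := R) (A := T)
  obtain ⟨γ, G, hγ, hG, hJ⟩ := exists_gens p α hα β hβ r hker
  have hle : Ideal.span (Set.range G) ≤ RingHom.ker γ.toRingHom := by
    rw [Ideal.span_le]
    rintro _ ⟨l, rfl⟩
    exact hG l
  let π : Synt.RelGCIRing R (n + m) (n + t) G →ₐ[R] T :=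
    Ideal.Quotient.liftₐ (Ideal.span (Set.range G)) γ (fun a ha => hle ha)
  have hπ : Function.Surjective π := fun y => by
    obtain ⟨z, rfl⟩ := hγ y
    exact ⟨Ideal.Quotient.mk _ z, rfl⟩
  -- kernel elements vanish in the fibre
  have hK1 : ∀ k ∈ RingHom.ker π.toRingHom, (1 : p.ResidueField) ⊗ₜ[R] k = 0 := by
    intro k hk
    obtain ⟨z, rfl⟩ := Ideal.Quotient.mk_surjective k
    have hz : z ∈ RingHom.ker γ.toRingHom := hk
    let Mk : p.ResidueField ⊗[R] MvPolynomial (Fin (n + m)) R →ₐ[p.ResidueField]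
        p.ResidueField ⊗[R] Synt.RelGCIRing R (n + m) (n + t) G :=
      Algebra.TensorProduct.map (AlgHom.id _ _)
        (Ideal.Quotient.mkₐ R (Ideal.span (Set.range G)))
    have h1 : (1 : p.ResidueField) ⊗ₜ[R] z ∈
        Ideal.span (Set.range fun l => (1 : p.ResidueField) ⊗ₜ[R] G l) := by
      rw [← hJ]
      exact Ideal.mem_map_of_mem _ hz
    have h2 : Ideal.span (Set.range fun l => (1 : p.ResidueField) ⊗ₜ[R] G l) ≤
        RingHom.ker Mk.toRingHom := by
      rw [Ideal.span_le]
      rintro _ ⟨l, rfl⟩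
      change Mk ((1 : p.ResidueField) ⊗ₜ[R] G l) = 0
      simp only [Mk, Algebra.TensorProduct.map_tmul, AlgHom.id_apply, Ideal.Quotient.mkₐ_eq_mk]
      have hGl : Ideal.Quotient.mk (Ideal.span (Set.range G)) (G l) = 0 :=
        Ideal.Quotient.eq_zero_iff_mem.2 (Ideal.subset_span (Set.mem_range_self l))
      rw [hGl, TensorProduct.tmul_zero]
    have h3 : Mk ((1 : p.ResidueField) ⊗ₜ[R] z) = 0 := h2 h1
    simpa only [Mk, Algebra.TensorProduct.map_tmul, AlgHom.id_apply, Ideal.Quotient.mkₐ_eq_mk]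
      using h3
  -- the fibre map is bijective
  let Ψ : p.Fiber (Synt.RelGCIRing R (n + m) (n + t) G) →ₐ[p.ResidueField] p.Fiber T :=
    Algebra.TensorProduct.map (AlgHom.id _ _) π
  have hΨsurj : Function.Surjective Ψ :=
    Algebra.TensorProduct.map_surjective _ _ Function.surjective_id hπ
  have hΨinj : Function.Injective Ψ := by
    rw [injective_iff_map_eq_zero]
    intro x hx
    have hx' : x ∈ (RingHom.ker π).map (Algebra.TensorProduct.includeRight (R := R)
        (A := p.ResidueField) (B := Synt.RelGCIRing R (n + m) (n + t) G)) := by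
      rw [← Algebra.TensorProduct.lTensor_ker (A := p.ResidueField) π hπ]
      exact hx
    have hbot : (RingHom.ker π).map (Algebra.TensorProduct.includeRight (R := R)
        (A := p.ResidueField) (B := Synt.RelGCIRing R (n + m) (n + t) G)) ≤ ⊥ := by
      rw [Ideal.map_le_iff_le_comap]
      intro k hk
      rw [Ideal.mem_comap, Ideal.mem_bot]
      exact hK1 k hk
    exact (Ideal.mem_bot).1 (hbot hx')
  have hdim' : ringKrullDim (p.Fiber (Synt.RelGCIRing R (n + m) (n + t) G)) =
      (((n + m) - (n + t) : ℕ) : WithBot ℕ∞) := by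
    rw [ringKrullDim_eq_of_ringEquiv (AlgEquiv.ofBijective Ψ ⟨hΨinj, hΨsurj⟩).toRingEquiv, hdim,
      Nat.add_sub_add_left]
  obtain ⟨g₀, hg₀u, hg₀⟩ := Groth.Agent.H46.RelGCIOpen.exists_unit R (Synt.RelGCIRing R (n + m) (n + t) G) p
    ((n + m) - (n + t)) hdim'.le
  -- Nakayama
  let q' : Ideal (Synt.RelGCIRing R (n + m) (n + t) G) := qT.comap π.toRingHom
  haveI : q'.IsPrime := Ideal.comap_isPrime _ _
  have hq' : ∀ r : R, r ∈ p ↔ algebraMap R (Synt.RelGCIRing R (n + m) (n + t) G) r ∈ q' := by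
    intro r
    rw [hqT r]
    change _ ↔ π (algebraMap R _ r) ∈ qT
    rw [AlgHom.commutes]
  have hfg : (RingHom.ker π.toRingHom).FG :=
    Algebra.FinitePresentation.ker_fG_of_surjective π hπ
  obtain ⟨a, ha, hak⟩ := exists_annih_ker π hπ p q' hq' hfg hK1
  have hg₀q : g₀ ∉ q' := by
    intro hmem
    haveI : q'.LiesOver p := ⟨Ideal.ext fun r => by rw [Ideal.under_def, Ideal.mem_comap]; exact hq' r⟩
    let Q' : PrimeSpectrum (p.Fiber (Synt.RelGCIRing R (n + m) (n + t) G)) :=
      PrimeSpectrum.primesOverOrderIsoFiber R (Synt.RelGCIRing R (n + m) (n + t) G) p ⟨q', ‹_›, ‹_›⟩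
    have hQ' : q' = Q'.asIdeal.comap Algebra.TensorProduct.includeRight.toRingHom :=
      congr($((PrimeSpectrum.primesOverOrderIsoFiber R (Synt.RelGCIRing R (n + m) (n + t) G) p).symm_apply_apply
        ⟨q', ‹_›, ‹_›⟩).1).symm
    have hmem' : (1 : p.ResidueField) ⊗ₜ[R] g₀ ∈ Q'.asIdeal := by
      rw [hQ'] at hmem
      exact hmem
    exact Q'.isPrime.ne_top (Ideal.eq_top_of_isUnit_mem _ hmem' hg₀u)
  obtain ⟨h', hh'⟩ := Ideal.Quotient.mk_surjective (a * g₀)
  have hh'q : Ideal.Quotient.mk (Ideal.span (Set.range G)) h' ∉ q' := by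
    rw [hh']
    exact fun hmem => (Ideal.IsPrime.mem_or_mem inferInstance hmem).elim ha hg₀q
  refine ⟨π (Ideal.Quotient.mk _ h'), hh'q, (n + m) + 1, (n + t) + 1,
    Groth.Agent.H46.RelGCIAway.ext (n + m) (n + t) G h', ?_, ?_⟩
  · refine Groth.Agent.H46.RelGCIOpen.isRelGCI_ext R (n + m) (n + t) G (by omega) h' ?_
    intro q hq
    apply hg₀ q
    intro hmem
    apply hq
    rw [hh']
    exact Ideal.mul_mem_left _ _ hmem
  · let E1 : Localization.Away (Ideal.Quotient.mk (Ideal.span (Set.range G)) h') →ₐ[R]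
        Localization.Away (π (Ideal.Quotient.mk (Ideal.span (Set.range G)) h')) :=
      IsLocalization.Away.mapₐ _ _ π (Ideal.Quotient.mk (Ideal.span (Set.range G)) h')
    have hE1inj : Function.Injective E1 := by
      change Function.Injective (IsLocalization.Away.map _ _ π.toRingHom _)
      rw [IsLocalization.Away.map_injective_iff]
      intro x hx
      refine ⟨1, ?_⟩
      rw [pow_one, hh', mul_comm a g₀, mul_assoc, hak x hx, mul_zero]
    have hE1surj : Function.Surjective E1 :=
      IsLocalization.Away.mapₐ_surjective_of_surjective _ hπ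
    exact ⟨(AlgEquiv.ofBijective E1 ⟨hE1inj, hE1surj⟩).symm.trans
      (Groth.Agent.H46.RelGCIAway.equiv (n + m) (n + t) G h')⟩

end Core

end Groth.Agent.H46.SyntLocal
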