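import Mathlib
import Groth.Agent.H46.SyntLocalCore
import Groth.Agent.H46.TensorAway

/-!
# Local structure of syntomic ring maps: locally a relative global complete intersection
-/

set_option autoImplicit false
universe u

open MvPolynomial TensorProduct

namespace Groth.Agent.H46.SyntLocal

section Away2

/-- A principal localization of a principal localization is a principal localization. -/
theorem exists_away_algEquiv (R S : Type u) [CommRing R] [CommRing S] [Algebra R S]
    (q : Ideal S) [q.IsPrime] (g₁ : S) (hg₁ : g₁ ∉ q) (u : Localization.Away g₁)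
    (hu : u ∉ q.map (algebraMap S (Localization.Away g₁))) :
    ∃ g : S, g ∉ q ∧ Nonempty (Localization.Away g ≃ₐ[R] Localization.Away u) := by
  have hassoc := IsLocalization.Away.associated_sec_fst (S := Localization.Away g₁) g₁ u
  set b := (IsLocalization.Away.sec (S := Localization.Away g₁) g₁ u).1 with hb
  haveI : IsLocalization.Away (g₁ * b) (Localization.Away u) :=
    IsLocalization.Away.mul_of_associated g₁ b u hassoc
  refine ⟨g₁ * b, ?_, ⟨(IsLocalization.algEquiv (Submonoid.powers (g₁ * b))
    (Localization.Away (g₁ * b)) (Localization.Away u)).restrictScalars R⟩⟩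
  intro hmem
  rcases Ideal.IsPrime.mem_or_mem inferInstance hmem with h | h
  · exact hg₁ h
  · apply hu
    obtain ⟨v, hv⟩ := hassoc
    rw [← hv]
    exact Ideal.mul_mem_right _ _ (Ideal.mem_map_of_mem _ h)

end Away2

section Main

/-- **Local structure of syntomic ring maps**: around every prime, a syntomic algebra is a relative
global complete intersection. -/
theorem main (R S : Type u) [CommRing R] [CommRing S] [Algebra R S] (h : Synt.IsSyntomic R S)
    (q : Ideal S) [q.IsPrime] :
    ∃ g : S, g ∉ q ∧ ∃ (n c : ℕ) (F : Fin c → MvPolynomial (Fin n) R), Synt.IsRelGCI R n c F ∧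
      Nonempty (Localization.Away g ≃ₐ[R] Synt.RelGCIRing R n c F) := by
  classical
  obtain ⟨hflat, hfp, hfib⟩ := h
  haveI := hflat
  haveI := hfp
  let p : Ideal R := q.under R
  haveI : p.IsPrime := inferInstance
  haveI : q.LiesOver p := ⟨rfl⟩
  let Q : PrimeSpectrum (p.Fiber S) := PrimeSpectrum.primesOverOrderIsoFiber R S p ⟨q, ‹_›, ‹_›⟩
  have hQ : q = Q.asIdeal.comap Algebra.TensorProduct.includeRight.toRingHom :=
    congr($((PrimeSpectrum.primesOverOrderIsoFiber R S p).symm_apply_apply ⟨q, ‹_›, ‹_›⟩).1).symm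
  obtain ⟨-, hloc⟩ := hfib ⟨p, inferInstance⟩
  obtain ⟨gbar, hgbarQ, hGCI⟩ := hloc Q
  have hnt : ¬ Subsingleton (Localization.Away gbar) := by
    intro hsub
    have h01 : algebraMap (p.Fiber S) (Localization.Away gbar) 1 = 0 := Subsingleton.elim _ _
    obtain ⟨⟨_, n, rfl⟩, hn⟩ :=
      (IsLocalization.map_eq_zero_iff (Submonoid.powers gbar) (Localization.Away gbar) 1).1 h01
    apply hgbarQ
    refine Q.isPrime.mem_of_pow_mem n ?_
    rw [mul_one] at hn
    have hn' : gbar ^ n = 0 := hn
    rw [hn']
    exact zero_mem _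
  rcases hGCI with hsub | ⟨m, t, htm, φ, r, hφ, hkerφ, hdimφ⟩
  · exact absurd hsub hnt
  obtain ⟨s, hs, g₁, hsg⟩ := Ideal.Fiber.exists_smul_eq_one_tmul p gbar
  have hsu : IsUnit (algebraMap R (p.Fiber S) s) := by
    rw [IsScalarTower.algebraMap_apply R p.ResidueField]
    refine IsUnit.map _ (IsUnit.mk0 _ ?_)
    rwa [ne_eq, Ideal.algebraMap_residueField_eq_zero]
  have hassoc : Associated ((1 : p.ResidueField) ⊗ₜ[R] g₁) gbar := by
    rw [← hsg, Algebra.smul_def]
    obtain ⟨v, hv⟩ := hsu
    rw [← hv, mul_comm]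
    exact (associated_mul_unit_left gbar _ v.isUnit)
  have hg₁q : g₁ ∉ q := by
    intro hmem
    rw [hQ] at hmem
    have h1 : (1 : p.ResidueField) ⊗ₜ[R] g₁ ∈ Q.asIdeal := hmem
    rw [← hsg, Algebra.smul_def] at h1
    exact hgbarQ ((Ideal.unit_mul_mem_iff_mem _ hsu).1 h1)
  -- the fibre of `T = S_{g₁}`
  letI alg : Algebra (p.Fiber S) (p.Fiber (Localization.Away g₁)) :=
    (Groth.Agent.H46.tensorAwayMap R p.ResidueField S (Localization.Away g₁)).toRingHom.toAlgebra
  haveI loc1 : IsLocalization.Away ((1 : p.ResidueField) ⊗ₜ[R] g₁)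
      (p.Fiber (Localization.Away g₁)) :=
    Groth.Agent.H46.isLocalization_away_tensor R p.ResidueField S (Localization.Away g₁) g₁
  haveI loc2 : IsLocalization.Away gbar (p.Fiber (Localization.Away g₁)) :=
    IsLocalization.Away.of_associated hassoc
  haveI tower : IsScalarTower p.ResidueField (p.Fiber S) (p.Fiber (Localization.Away g₁)) :=
    IsScalarTower.of_algebraMap_eq fun k =>
      ((Groth.Agent.H46.tensorAwayMap R p.ResidueField S (Localization.Away g₁)).commutes k).symm
  let E : Localization.Away gbar ≃ₐ[p.Fiber S] p.Fiber (Localization.Away g₁) :=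
    IsLocalization.algEquiv (Submonoid.powers gbar) _ _
  let Eκ : Localization.Away gbar ≃ₐ[p.ResidueField] p.Fiber (Localization.Away g₁) :=
    E.restrictScalars p.ResidueField
  let β : MvPolynomial (Fin m) p.ResidueField →ₐ[p.ResidueField]
      p.Fiber (Localization.Away g₁) := Eκ.toAlgHom.comp φ
  have hβ : Function.Surjective β := Eκ.surjective.comp hφ
  have hkerβ : RingHom.ker β.toRingHom = Ideal.span (Set.range r) := by
    rw [← hkerφ]
    ext x
    change Eκ (φ x) = 0 ↔ φ x = 0
    exact map_eq_zero_iff Eκ Eκ.injective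
  have hdimβ : ringKrullDim (p.Fiber (Localization.Away g₁)) = ((m - t : ℕ) : WithBot ℕ∞) := by
    rw [← ringKrullDim_eq_of_ringEquiv E.toRingEquiv]
    exact hdimφ
  -- the prime of `T`
  have hdisj : Disjoint (Submonoid.powers g₁ : Set S) (q : Set S) := by
    rw [Set.disjoint_left]
    rintro _ ⟨n, rfl⟩ hmem
    exact hg₁q (Ideal.IsPrime.mem_of_pow_mem inferInstance n hmem)
  let qT : Ideal (Localization.Away g₁) := q.map (algebraMap S (Localization.Away g₁))
  haveI : qT.IsPrime :=
    IsLocalization.isPrime_of_isPrime_disjoint (Submonoid.powers g₁) _ q inferInstance hdisj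
  have hcomap : qT.comap (algebraMap S (Localization.Away g₁)) = q :=
    IsLocalization.comap_map_of_isPrime_disjoint (Submonoid.powers g₁) _ inferInstance hdisj
  have hqT : ∀ x : R, x ∈ p ↔ algebraMap R (Localization.Away g₁) x ∈ qT := by
    intro x
    rw [IsScalarTower.algebraMap_apply R S (Localization.Away g₁), ← Ideal.mem_comap, hcomap]
    rfl
  haveI : Algebra.FinitePresentation R (Localization.Away g₁) :=
    Algebra.FinitePresentation.trans R S _
  obtain ⟨u, huq, N, C, G, hRel, ⟨e⟩⟩ :=
    core R (Localization.Away g₁) p qT hqT m t htm β hβ r hkerβ hdimβ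
  obtain ⟨g, hgq, ⟨e'⟩⟩ := exists_away_algEquiv R S q g₁ hg₁q u huq
  exact ⟨g, hgq, N, C, G, hRel, ⟨e'.trans e⟩⟩

end Main

end Groth.Agent.H46.SyntLocal
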