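import Mathlib
import Groth.Prelude.Def_RegImm
import Groth.Prelude.Def_LCI2
import Groth.Agent.H46.RelGCIKoszul
import Groth.Agent.H46.SyntLocal
import Groth.Agent.H39.LCIMor
import Groth.Agent.H39.KoszulFlatBC

/-!
# Syntomic ring maps are local complete intersection maps
-/

set_option autoImplicit false
universe u

namespace Groth.Agent.H46.SyntLCI

/-- A relative global complete intersection is a local complete intersection ring map. -/
theorem isLCI_relGCI (R : Type u) [CommRing R] (n c : ℕ)
    (F : Fin c → MvPolynomial (Fin n) R) (h : Synt.IsRelGCI R n c F) :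
    LCI.IsLCI R (Synt.RelGCIRing R n c F) := by
  have hsurj : Function.Surjective (Ideal.Quotient.mkₐ R (Ideal.span (Set.range F))) :=
    Ideal.Quotient.mkₐ_surjective R _
  refine ⟨Algebra.FiniteType.of_surjective _ hsurj, n,
    Ideal.Quotient.mkₐ R (Ideal.span (Set.range F)), hsurj, ?_⟩
  have hker : RingHom.ker (Ideal.Quotient.mkₐ R (Ideal.span (Set.range F))).toRingHom =
      Ideal.span (Set.range F) := Ideal.mk_ker
  rw [hker]
  intro 𝔭 h𝔭
  refine ⟨1, fun h1 => 𝔭.isPrime.ne_top ((Ideal.eq_top_iff_one _).mpr h1),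
    (List.ofFn F).map (algebraMap _ (Localization.Away (1 : MvPolynomial (Fin n) R))), ?_, ?_⟩
  · refine Groth.Agent.H39.KoszulFlatBC.isKoszulRegularSeq_map_of_flat _ ?_ _
      (Groth.Agent.H46.RelGCIKoszul.main R n c F h)
    rw [RingHom.flat_algebraMap_iff]
    exact IsLocalization.flat _ (Submonoid.powers (1 : MvPolynomial (Fin n) R))
  · rw [Ideal.map_span]
    congr 1
    ext x
    simp only [Set.mem_image, Set.mem_range, List.mem_map, List.mem_ofFn, Set.mem_ofPred_eq]

/-- Syntomic implies local complete intersection. -/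
theorem isLCI_of_isSyntomic (R S : Type u) [CommRing R] [CommRing S] [Algebra R S]
    (h : Synt.IsSyntomic R S) : LCI.IsLCI R S := by
  apply Groth.Agent.H39.LCIMor.isLCI_of_span_eq_top R S
    {g | LCI.IsLCI R (Localization.Away g)}
  · by_contra hne
    obtain ⟨m, hmax, hle⟩ := Ideal.exists_le_maximal _ hne
    obtain ⟨g, hg, n, c, F, hGCI, ⟨e⟩⟩ := Groth.Agent.H46.SyntLocal.main R S h m
    apply hg
    apply hle
    apply Ideal.subset_span
    exact Groth.Agent.H39.LCIMor.isLCI_of_algEquiv e.symm (isLCI_relGCI R n c F hGCI)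
  · exact fun r hr => hr

end Groth.Agent.H46.SyntLCI
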