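import Groth.Prelude.Def_CAlgX
import Groth.Agent.H46.AdicSmooth
import Mathlib.RingTheory.LocalRing.ResidueField.Basic
import Mathlib.RingTheory.LocalRing.RingHom.Basic
import Mathlib.RingTheory.LocalRing.Pullback
import Mathlib.RingTheory.Ideal.Quotient.Operations
import Mathlib.RingTheory.Henselian

set_option autoImplicit false
set_option linter.style.haveILetI false
universe u

namespace Groth.Agent.H46

open IsLocalRing

/-- A surjective ring map with square-zero kernel is a local homomorphism. -/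
theorem isLocalHom_of_surjective_of_ker_sq {A B : Type*} [CommRing A] [CommRing B] (f : A →+* B)
    (hf : Function.Surjective f) (hK : (RingHom.ker f) ^ 2 = ⊥) : IsLocalHom f := by
  constructor
  intro a ha
  obtain ⟨b', hb'⟩ := isUnit_iff_exists_inv.mp ha
  obtain ⟨b, rfl⟩ := hf b'
  have hx : a * b - 1 ∈ RingHom.ker f := by
    rw [RingHom.mem_ker, map_sub, map_mul, hb', map_one, sub_self]
  have hx2 : (a * b - 1) * (a * b - 1) = 0 := by
    have : (a * b - 1) * (a * b - 1) ∈ (RingHom.ker f) ^ 2 := by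
      rw [pow_two]; exact Ideal.mul_mem_mul hx hx
    rw [hK] at this
    exact this
  have hab : IsUnit (a * b) := by
    refine IsUnit.of_mul_eq_one (1 - (a * b - 1)) ?_
    have : a * b * (1 - (a * b - 1)) = 1 - (a * b - 1) * (a * b - 1) := by ring
    rw [this, hx2, sub_zero]
  exact isUnit_of_mul_isUnit_left hab

section

variable {R S : Type u} [CommRing R] [CommRing S] [IsLocalRing R] [IsLocalRing S] [Algebra R S]
  [IsLocalHom (algebraMap R S)]

theorem maximalIdeal_pow_succ_ne_top (t : ℕ) : maximalIdeal S ^ (t + 1) ≠ ⊤ := by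
  intro h
  have h1 : maximalIdeal S ^ (t + 1) ≤ maximalIdeal S := Ideal.pow_le_self (Nat.succ_ne_zero t)
  rw [h] at h1
  exact (maximalIdeal.isMaximal S).ne_top (top_le_iff.mp h1)

instance quot_pow_nontrivial (t : ℕ) : Nontrivial (S ⧸ maximalIdeal S ^ (t + 1)) :=
  Ideal.Quotient.nontrivial_iff.mpr (maximalIdeal_pow_succ_ne_top t)

instance quot_pow_isLocalRing (t : ℕ) : IsLocalRing (S ⧸ maximalIdeal S ^ (t + 1)) :=
  IsLocalRing.of_surjective' (Ideal.Quotient.mk _) Ideal.Quotient.mk_surjective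

theorem isLocalHom_mk_pow (t : ℕ) : IsLocalHom (Ideal.Quotient.mk (maximalIdeal S ^ (t + 1))) := by
  apply isLocalHom_of_le_jacobson_bot
  rw [IsLocalRing.jacobson_eq_maximalIdeal ⊥ bot_ne_top]
  exact Ideal.pow_le_self (Nat.succ_ne_zero t)

theorem maximalIdeal_quot_pow (t : ℕ) :
    maximalIdeal (S ⧸ maximalIdeal S ^ (t + 1)) ^ (t + 1) = ⊥ := by
  have h1 : maximalIdeal (S ⧸ maximalIdeal S ^ (t + 1)) ≤
      (maximalIdeal S).map (Ideal.Quotient.mk (maximalIdeal S ^ (t + 1))) := by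
    intro x hx
    obtain ⟨s, rfl⟩ := Ideal.Quotient.mk_surjective x
    apply Ideal.mem_map_of_mem
    rw [mem_maximalIdeal, mem_nonunits_iff] at hx ⊢
    intro hs
    exact hx (hs.map _)
  rw [eq_bot_iff]
  refine (Ideal.pow_right_mono h1 (t + 1)).trans ?_
  rw [← Ideal.map_pow, Ideal.map_quotient_self]

end

section

variable {R S : Type u} [CommRing R] [CommRing S] [IsLocalRing R] [IsLocalRing S] [Algebra R S]
  [IsLocalHom (algebraMap R S)]

/-- Local data attached to a square-zero extension `p : A' → S/𝔫^(t+1)`. -/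
theorem local_data (t : ℕ) (A' : Type u) [CommRing A'] [Algebra R A']
    (p : A' →ₐ[R] S ⧸ maximalIdeal S ^ (t + 1)) (hp : Function.Surjective p)
    (hK : (RingHom.ker p) ^ 2 = ⊥) :
    ∃ (_ : IsLocalRing A') (_ : IsLocalHom (algebraMap R A'))
      (_ : IsLocalRing (A' ⧸ RingHom.ker p)) (ψ' : S →ₐ[R] A' ⧸ RingHom.ker p)
      (_ : IsLocalHom ψ'.toRingHom),
      maximalIdeal A' ^ ((t + 1) + (t + 1)) = ⊥ ∧
      (∀ a ∈ maximalIdeal A', p a ∈ maximalIdeal (S ⧸ maximalIdeal S ^ (t + 1))) ∧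
      Function.Bijective (ResidueField.map ψ'.toRingHom) ∧
      ∀ χ : S →ₐ[R] A', (Ideal.Quotient.mkₐ R (RingHom.ker p)).comp χ = ψ' →
        p.comp χ = Ideal.Quotient.mkₐ R (maximalIdeal S ^ (t + 1)) := by
  have hloc : IsLocalHom (p : A' →+* S ⧸ maximalIdeal S ^ (t + 1)) :=
    isLocalHom_of_surjective_of_ker_sq (p : A' →+* S ⧸ maximalIdeal S ^ (t + 1)) hp hK
  have hA' : IsLocalRing A' := RingHom.domain_isLocalRing (p : A' →+* S ⧸ maximalIdeal S ^ (t + 1))
  have hmk := isLocalHom_mk_pow (S := S) t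
  have hRA' : IsLocalHom (algebraMap R A') := by
    constructor
    intro r hr
    have h1 : IsUnit (p (algebraMap R A' r)) := hr.map p
    rw [p.commutes] at h1
    have h2 : IsUnit (Ideal.Quotient.mk (maximalIdeal S ^ (t + 1)) (algebraMap R S r)) := h1
    have h3 := hmk.map_nonunit _ h2
    exact isUnit_of_map_unit (algebraMap R S) r h3
  have hKne : RingHom.ker p ≠ ⊤ := by
    intro h
    have : (1 : A') ∈ RingHom.ker p := by rw [h]; trivial
    rw [RingHom.mem_ker, map_one] at this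
    exact one_ne_zero this
  haveI : Nontrivial (A' ⧸ RingHom.ker p) := Ideal.Quotient.nontrivial_iff.mpr hKne
  have hQ : IsLocalRing (A' ⧸ RingHom.ker p) :=
    IsLocalRing.of_surjective' (Ideal.Quotient.mk _) Ideal.Quotient.mk_surjective
  let e := Ideal.quotientKerAlgEquivOfSurjective hp
  let ψ' : S →ₐ[R] A' ⧸ RingHom.ker p :=
    (e.symm : (S ⧸ maximalIdeal S ^ (t + 1)) →ₐ[R] A' ⧸ RingHom.ker p).comp
      (Ideal.Quotient.mkₐ R (maximalIdeal S ^ (t + 1)))
  have hψ'e : ∀ s, e (ψ' s) = Ideal.Quotient.mk _ s := by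
    intro s
    simp [ψ']
  have hψ'loc : IsLocalHom ψ'.toRingHom := by
    constructor
    intro s hs
    have h1 : IsUnit (e (ψ' s)) := hs.map e
    rw [hψ'e] at h1
    exact hmk.map_nonunit _ h1
  have hψ'surj : Function.Surjective ψ' := by
    intro y
    obtain ⟨s, hs⟩ := Ideal.Quotient.mk_surjective (e y)
    refine ⟨s, ?_⟩
    apply e.injective
    rw [hψ'e, hs]
  have hpmax : ∀ a ∈ maximalIdeal A', p a ∈ maximalIdeal (S ⧸ maximalIdeal S ^ (t + 1)) := by
    intro a ha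
    rw [mem_maximalIdeal, mem_nonunits_iff] at ha ⊢
    intro h
    exact ha (hloc.map_nonunit a h)
  refine ⟨hA', hRA', hQ, ψ', hψ'loc, ?_, hpmax, ?_, ?_⟩
  · -- nilpotency
    have h1 : maximalIdeal A' ^ (t + 1) ≤ RingHom.ker p := by
      intro x hx
      rw [RingHom.mem_ker]
      have h2 : p x ∈ (maximalIdeal A' ^ (t + 1)).map (p : A' →+* S ⧸ maximalIdeal S ^ (t + 1)) :=
        Ideal.mem_map_of_mem _ hx
      rw [Ideal.map_pow] at h2
      have h3 : (maximalIdeal A').map (p : A' →+* S ⧸ maximalIdeal S ^ (t + 1)) ≤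
          maximalIdeal (S ⧸ maximalIdeal S ^ (t + 1)) := by
        rw [Ideal.map_le_iff_le_comap]
        intro a ha
        exact hpmax a ha
      have h4 := Ideal.pow_right_mono h3 (t + 1) h2
      rw [maximalIdeal_quot_pow] at h4
      exact h4
    rw [eq_bot_iff, pow_add, ← hK, pow_two]
    exact Ideal.mul_mono h1 h1
  · constructor
    · exact RingHom.injective _
    · intro y
      obtain ⟨z, rfl⟩ := IsLocalRing.residue_surjective y
      obtain ⟨s, rfl⟩ := hψ'surj z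
      exact ⟨IsLocalRing.residue S s, ResidueField.map_residue _ _⟩
  · intro χ hχ
    ext s
    have h1 : Ideal.Quotient.mk (RingHom.ker p) (χ s) = ψ' s :=
      congrArg (fun f : S →ₐ[R] A' ⧸ RingHom.ker p => f s) hχ
    have h2 : e (Ideal.Quotient.mk (RingHom.ker p) (χ s)) = p (χ s) := rfl
    rw [AlgHom.comp_apply, ← h2, h1, hψ'e]
    rfl

end

section Pullback

variable {R S A : Type u} [CommRing R] [CommRing S] [CommRing A] [Algebra R S] [Algebra R A]

/-- The fibre product `S/I ×_{A/J} A` with its two projections. -/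
theorem exists_pullback (J : Ideal A) (ψ : S →ₐ[R] A ⧸ J) (I : Ideal S)
    (hI : ∀ x ∈ I, ψ x = 0) :
    ∃ (A' : Type u) (_ : CommRing A') (_ : Algebra R A') (p : A' →ₐ[R] S ⧸ I) (q : A' →ₐ[R] A),
      Function.Surjective p ∧
      (∀ a', Ideal.Quotient.mk J (q a') = Ideal.Quotient.liftₐ I ψ hI (p a')) ∧
      (∀ a', p a' = 0 → q a' = 0 → a' = 0) := by
  let ψb : S ⧸ I →ₐ[R] A ⧸ J := Ideal.Quotient.liftₐ I ψ hI
  refine ⟨AlgHom.pullback ψb (Ideal.Quotient.mkₐ R J), inferInstance, inferInstance,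
    AlgHom.pullbackFst ψb (Ideal.Quotient.mkₐ R J), AlgHom.pullbackSnd ψb (Ideal.Quotient.mkₐ R J),
    ?_, ?_, ?_⟩
  · exact AlgHom.surjective_pullbackFst_of_surjective _ _ (Ideal.Quotient.mkₐ_surjective R J)
  · intro a'
    exact a'.prop.symm
  · rintro ⟨⟨b, a⟩, h⟩ h1 h2
    have hb : b = 0 := h1
    have ha : a = 0 := h2
    subst hb ha
    rfl

/-- Lifting along the fibre product gives a lifting of the original problem. -/
theorem lift_of_pullback (J : Ideal A) (ψ : S →ₐ[R] A ⧸ J) (I : Ideal S)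
    (hI : ∀ x ∈ I, ψ x = 0) {A' : Type u} [CommRing A'] [Algebra R A'] (p : A' →ₐ[R] S ⧸ I)
    (q : A' →ₐ[R] A)
    (hpq : ∀ a', Ideal.Quotient.mk J (q a') = Ideal.Quotient.liftₐ I ψ hI (p a'))
    (χ' : S →ₐ[R] A') (hχ' : p.comp χ' = Ideal.Quotient.mkₐ R I) :
    (Ideal.Quotient.mkₐ R J).comp (q.comp χ') = ψ := by
  ext s
  have h1 : p (χ' s) = Ideal.Quotient.mk I s := congrArg (fun f : S →ₐ[R] S ⧸ I => f s) hχ'
  change Ideal.Quotient.mk J (q (χ' s)) = ψ s
  rw [hpq, h1]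
  rfl

theorem ker_sq_of_pullback (J : Ideal A) (hJ : J ^ 2 = ⊥) (ψ : S →ₐ[R] A ⧸ J) (I : Ideal S)
    (hI : ∀ x ∈ I, ψ x = 0) {A' : Type u} [CommRing A'] [Algebra R A'] (p : A' →ₐ[R] S ⧸ I)
    (q : A' →ₐ[R] A)
    (hpq : ∀ a', Ideal.Quotient.mk J (q a') = Ideal.Quotient.liftₐ I ψ hI (p a'))
    (hinj : ∀ a', p a' = 0 → q a' = 0 → a' = 0) : (RingHom.ker p) ^ 2 = ⊥ := by
  have hqJ : ∀ a', p a' = 0 → q a' ∈ J := by
    intro a' h
    rw [← Ideal.Quotient.eq_zero_iff_mem, hpq, h, map_zero]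
  rw [eq_bot_iff, pow_two, Ideal.mul_le]
  intro x hx y hy
  rw [RingHom.mem_ker] at hx hy
  rw [Ideal.mem_bot]
  apply hinj
  · rw [map_mul, hx, zero_mul]
  · have : q x * q y ∈ J ^ 2 := by
      rw [pow_two]; exact Ideal.mul_mem_mul (hqJ x hx) (hqJ y hy)
    rw [hJ] at this
    rw [map_mul]; exact this

end Pullback

section

variable {R S : Type u} [CommRing R] [CommRing S] [Algebra R S]

/-- Formal smoothness for the `𝔫`-adic topology follows from the lifting property along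
surjections onto `S/𝔫^(t+1)` with square-zero kernel. -/
theorem isAdicFormallySmooth_of_surjLift (𝔫 : Ideal S)
    (H : ∀ (t : ℕ) (A' : Type u) [CommRing A'] [Algebra R A'] (p : A' →ₐ[R] S ⧸ 𝔫 ^ (t + 1)),
      Function.Surjective p → (RingHom.ker p) ^ 2 = ⊥ →
      ∃ χ : S →ₐ[R] A', p.comp χ = Ideal.Quotient.mkₐ R (𝔫 ^ (t + 1))) :
    CAlgX.IsAdicFormallySmooth R S 𝔫 := by
  intro A _ _ J hJ ψ hk
  obtain ⟨k, hk⟩ := hk
  have hI : ∀ x ∈ 𝔫 ^ (k + 1), ψ x = 0 := fun x hx =>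
    hk x (Ideal.pow_le_pow_right (Nat.le_succ k) hx)
  obtain ⟨A', _, _, p, q, hp, hpq, hinj⟩ := exists_pullback J ψ (𝔫 ^ (k + 1)) hI
  obtain ⟨χ', hχ'⟩ := H k A' p hp (ker_sq_of_pullback J hJ ψ _ hI p q hpq hinj)
  exact ⟨q.comp χ', lift_of_pullback J ψ _ hI p q hpq χ' hχ'⟩

end

end Groth.Agent.H46
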