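import Mathlib

/-!
# Closure of the image of a closed set under a quasi-compact morphism

Every point of the closure of `g '' Z` (`g` quasi-compact, `Z` closed) is a specialisation of a
point of `g '' Z`.
-/

universe u

open AlgebraicGeometry CategoryTheory TopologicalSpace Opposite

namespace Groth.Agent.H46

theorem PrimeSpectrum.exists_specializes_of_mem_closure_image {A B : Type*} [CommRing A]
    [CommRing B] (ψ : A →+* B) (Z : Set (PrimeSpectrum B)) (hZ : IsClosed Z)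
    (p : PrimeSpectrum A) (hp : p ∈ closure (PrimeSpectrum.comap ψ '' Z)) :
    ∃ q ∈ Z, PrimeSpectrum.comap ψ q ⤳ p := by
  obtain ⟨I, rfl⟩ := (PrimeSpectrum.isClosed_iff_zeroLocus_ideal Z).mp hZ
  rw [PrimeSpectrum.closure_image_comap_zeroLocus] at hp
  obtain ⟨Q, hIQ, hQ, hQp⟩ := p.asIdeal.exists_ideal_comap_le_prime I hp
  exact ⟨⟨Q, hQ⟩, hIQ, (PrimeSpectrum.le_iff_specializes _ p).mp hQp⟩

set_option backward.isDefEq.respectTransparency false in
theorem exists_specializes_of_mem_closure_image {T X : Scheme.{u}} (g : T ⟶ X) [QuasiCompact g]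
    (Z : Set T) (hZ : IsClosed Z) (x : X) (hx : x ∈ closure (g '' Z)) :
    ∃ z ∈ Z, g z ⤳ x := by
  obtain ⟨_, ⟨W : X.Opens, hW, rfl⟩, hxW, -⟩ :=
    X.isBasis_affineOpens.exists_subset_of_mem_open (Set.mem_univ x) isOpen_univ
  have hcomp : IsCompact ((g ⁻¹ᵁ W : T.Opens) : Set T) :=
    QuasiCompact.isCompact_preimage (f := g) _ W.2 hW.isCompact
  obtain ⟨R', f', hf'⟩ := isCompact_iff_exists.mp hcomp
  have hrange : Set.range (f' ≫ g) ⊆ Set.range W.ι := by
    rintro _ ⟨q, rfl⟩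
    have : f' q ∈ ((g ⁻¹ᵁ W : T.Opens) : Set T) := hf' ▸ ⟨q, rfl⟩
    simpa using this
  let k : Spec R' ⟶ W.toScheme := IsOpenImmersion.lift W.ι (f' ≫ g) hrange
  have hk : k ≫ W.ι = f' ≫ g := IsOpenImmersion.lift_fac _ _ _
  let ψ : Γ(X, W) ⟶ R' := Spec.preimage (k ≫ hW.isoSpec.hom)
  have hψ : Spec.map ψ = k ≫ hW.isoSpec.hom := Spec.map_preimage _
  let e : W.toScheme ≃ₜ Spec Γ(X, W) := Scheme.homeoOfIso hW.isoSpec
  let xW : W.toScheme := ⟨x, hxW⟩
  let Z₁ : Set (Spec R') := f' ⁻¹' Z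
  have hZ₁ : IsClosed Z₁ := hZ.preimage f'.continuous
  -- `x` lies in the closure of `k '' Z₁` inside `W`
  have h1 : W.ι ⁻¹' (g '' Z) = k '' Z₁ := by
    ext w
    constructor
    · rintro ⟨z, hz, hzw⟩
      have hzW : z ∈ ((g ⁻¹ᵁ W : T.Opens) : Set T) := by
        change g z ∈ W
        rw [hzw]
        exact w.2
      rw [← hf'] at hzW
      obtain ⟨q, rfl⟩ := hzW
      refine ⟨q, hz, ?_⟩
      apply W.ι.isOpenEmbedding.injective
      rw [← hzw, ← Scheme.Hom.comp_apply, hk, Scheme.Hom.comp_apply]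
    · rintro ⟨q, hq, rfl⟩
      refine ⟨f' q, hq, ?_⟩
      rw [← Scheme.Hom.comp_apply, ← Scheme.Hom.comp_apply, hk]
  have h2 : xW ∈ closure (k '' Z₁) := by
    rw [← h1, ← W.ι.isOpenEmbedding.isOpenMap.preimage_closure_eq_closure_preimage
      W.ι.continuous]
    exact hx
  have h3 : e xW ∈ closure (PrimeSpectrum.comap ψ.hom '' Z₁) := by
    have : PrimeSpectrum.comap ψ.hom '' Z₁ = e '' (k '' Z₁) := by
      rw [Set.image_image]
      apply Set.image_congr
      intro q _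
      change (Spec.map ψ) q = hW.isoSpec.hom (k q)
      rw [hψ, Scheme.Hom.comp_apply]
    rw [this, ← e.image_closure]
    exact ⟨xW, h2, rfl⟩
  obtain ⟨q, hq, hqs⟩ := PrimeSpectrum.exists_specializes_of_mem_closure_image ψ.hom Z₁ hZ₁ _ h3
  refine ⟨f' q, hq, ?_⟩
  have h4 : e.symm (PrimeSpectrum.comap ψ.hom q) ⤳ e.symm (e xW) :=
    hqs.map e.symm.continuous
  rw [e.symm_apply_apply] at h4
  have h5 : e.symm (PrimeSpectrum.comap ψ.hom q) = k q := by
    rw [e.symm_apply_eq]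
    change (Spec.map ψ) q = hW.isoSpec.hom (k q)
    rw [hψ, Scheme.Hom.comp_apply]
  rw [h5] at h4
  have h6 := h4.map W.ι.continuous
  have h7 : W.ι (k q) = g (f' q) := by
    rw [← Scheme.Hom.comp_apply, hk, Scheme.Hom.comp_apply]
  rw [h7] at h6
  exact h6

end Groth.Agent.H46
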