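import Mathlib
import Groth.Agent.H22.SpreadUnique
import Groth.Agent.H46.ClosureSpecializes

/-!
# Two morphisms agreeing on the punctured local scheme agree on a punctured neighbourhood
-/

universe u

open AlgebraicGeometry CategoryTheory TopologicalSpace Opposite Limits

namespace Groth.Agent.H46

set_option backward.isDefEq.respectTransparency.types false in
/-- `fromSpecStalk` form of helper22's uniqueness of spreading out. -/
theorem spread_out_unique_of_locallyOfFiniteType' {X Y S : Scheme.{u}} (sX : X ⟶ S) (sY : Y ⟶ S)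
    [LocallyOfFiniteType sY] (f g : X ⟶ Y) (hf : f ≫ sY = sX) (hg : g ≫ sY = sX) {x : X}
    (e : X.fromSpecStalk x ≫ f = X.fromSpecStalk x ≫ g) :
    ∃ U : X.Opens, x ∈ U ∧ U.ι ≫ f = U.ι ≫ g := by
  fapply Groth.Agent.H22.spread_out_unique_of_locallyOfFiniteType sX sY f g hf hg
  · simpa using congr($e (IsLocalRing.closedPoint _))
  · apply Spec.map_injective
    rw [← cancel_mono (Y.fromSpecStalk _)]
    simpa [Scheme.SpecMap_stalkSpecializes_fromSpecStalk]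

set_option backward.isDefEq.respectTransparency false in
theorem exists_nbhd_agree {X Y S : Scheme.{u}} (sY : Y ⟶ S) [LocallyOfFiniteType sY]
    (x : X) {N W : X.Opens} (hNW : N ≤ W) (hxW : x ∈ W) [QuasiCompact (X.homOfLE hNW)]
    (a b : N.toScheme ⟶ Y) (hab : a ≫ sY = b ≫ sY)
    (hgen : ∀ (y : X) (hy : y ∈ N), y ⤳ x →
      N.fromSpecStalkOfMem y hy ≫ a = N.fromSpecStalkOfMem y hy ≫ b) :
    ∃ W' : X.Opens, x ∈ W' ∧ W' ≤ W ∧
      X.homOfLE (inf_le_right : W' ⊓ N ≤ N) ≫ a = X.homOfLE (inf_le_right : W' ⊓ N ≤ N) ≫ b := by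
  -- the agreement locus
  let J := {O : X.Opens // ∃ hO : O ≤ N, X.homOfLE hO ≫ a = X.homOfLE hO ≫ b}
  let Q : X.Opens := ⨆ j : J, j.1
  have hQN : Q ≤ N := iSup_le fun j => j.2.1
  have hQ : X.homOfLE hQN ≫ a = X.homOfLE hQN ≫ b := by
    refine (Scheme.Opens.iSupOpenCover (fun j : J => j.1)).hom_ext _ _ fun j => ?_
    change X.homOfLE (le_iSup (fun j : J => j.1) j) ≫ X.homOfLE hQN ≫ a =
      X.homOfLE (le_iSup (fun j : J => j.1) j) ≫ X.homOfLE hQN ≫ b
    rw [X.homOfLE_homOfLE_assoc, X.homOfLE_homOfLE_assoc]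
    exact j.2.2
  -- generalisations of `x` in `N` lie in `Q`
  have hgenQ : ∀ (y : X) (hy : y ∈ N), y ⤳ x → y ∈ Q := by
    intro y hy hyx
    have h1 : N.toScheme.fromSpecStalk ⟨y, hy⟩ ≫ a = N.toScheme.fromSpecStalk ⟨y, hy⟩ ≫ b := by
      have e : N.toScheme.fromSpecStalk ⟨y, hy⟩ =
          Spec.map (N.ι.stalkMap ⟨y, hy⟩) ≫ N.fromSpecStalkOfMem y hy := by
        simp [Scheme.Opens.fromSpecStalkOfMem]
      rw [e, Category.assoc, Category.assoc, hgen y hy hyx]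
    obtain ⟨O', hyO', hO'⟩ := spread_out_unique_of_locallyOfFiniteType' (a ≫ sY) sY a b rfl
      hab.symm h1
    have hO : N.ι ''ᵁ O' ≤ N := by
      rintro _ ⟨z, _, rfl⟩
      exact z.2
    have hagree : X.homOfLE hO ≫ a = X.homOfLE hO ≫ b := by
      have e : (N.ι.isoImage O').hom ≫ X.homOfLE hO = O'.ι := by
        rw [← cancel_mono N.ι, Category.assoc, X.homOfLE_ι, Scheme.Hom.isoImage_hom_ι]
      rw [← cancel_epi (N.ι.isoImage O').hom, ← Category.assoc, ← Category.assoc, e]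
      exact hO'
    have : y ∈ N.ι ''ᵁ O' := ⟨⟨y, hy⟩, hyO', rfl⟩
    exact (le_iSup (fun j : J => j.1) ⟨N.ι ''ᵁ O', hO, hagree⟩) this
  -- the closed complement
  let g := X.homOfLE hNW
  let Z : Set N.toScheme := ((N.ι ⁻¹ᵁ Q : N.toScheme.Opens) : Set N.toScheme)ᶜ
  have hZ : IsClosed Z := (N.ι ⁻¹ᵁ Q).2.isClosed_compl
  let xW : W.toScheme := ⟨x, hxW⟩
  have hx : xW ∉ closure (g '' Z) := by
    intro hmem
    obtain ⟨z, hzZ, hzx⟩ := exists_specializes_of_mem_closure_image g Z hZ xW hmem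
    have h2 : W.ι (g z) ⤳ W.ι xW := hzx.map W.ι.continuous
    have h3 : W.ι (g z) = N.ι z := by
      rw [← Scheme.Hom.comp_apply, X.homOfLE_ι]
    rw [h3] at h2
    exact hzZ (hgenQ (N.ι z) z.2 h2)
  let W'₀ : W.toScheme.Opens := ⟨(closure (g '' Z))ᶜ, isClosed_closure.isOpen_compl⟩
  refine ⟨W.ι ''ᵁ W'₀, ⟨xW, hx, rfl⟩, ?_, ?_⟩
  · rintro _ ⟨w, _, rfl⟩
    exact w.2
  · have hle : W.ι ''ᵁ W'₀ ⊓ N ≤ Q := by
      rintro y ⟨⟨w, hw, rfl⟩, hyN⟩
      by_contra hyQ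
      apply hw
      apply subset_closure
      refine ⟨⟨W.ι w, hyN⟩, hyQ, ?_⟩
      apply W.ι.isOpenEmbedding.injective
      rw [← Scheme.Hom.comp_apply, X.homOfLE_ι]
      rfl
    have e : X.homOfLE (inf_le_right : W.ι ''ᵁ W'₀ ⊓ N ≤ N) =
        X.homOfLE hle ≫ X.homOfLE hQN := by
      rw [X.homOfLE_homOfLE]
    rw [e, Category.assoc, Category.assoc, hQ]

end Groth.Agent.H46
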