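import Mathlib
import Groth.Agent.H24.DirColimUnder

/-!
# Every algebra is a directed colimit of finitely presented algebras
-/

set_option autoImplicit false
universe u
open CategoryTheory CategoryTheory.Limits MvPolynomial

namespace Groth.Agent.H46

namespace AlgColim

variable (R A : Type u) [CommRing R] [CommRing A] [Algebra R A]

/-- Evaluation `R[X_e : e ∈ E] → A`. -/
noncomputable def ev (E : Finset A) : MvPolynomial E R →ₐ[R] A := aeval (fun e : E => (e : A))

/-- Inclusion of variables. -/
def incl {E E' : Finset A} (h : E ⊆ E') : E → E' := fun e => ⟨e.1, h e.2⟩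

/-- The induced map of polynomial rings. -/
noncomputable def ren {E E' : Finset A} (h : E ⊆ E') : MvPolynomial E R →ₐ[R] MvPolynomial E' R :=
  rename (incl A h)

variable {R A}

theorem ren_refl {E : Finset A} (h : E ⊆ E) (p : MvPolynomial E R) : ren R A h p = p := by
  have : incl A h = id := rfl
  simp [ren, this]

theorem ren_trans {E E' E'' : Finset A} (h : E ⊆ E') (h' : E' ⊆ E'') (p : MvPolynomial E R) :
    ren R A h' (ren R A h p) = ren R A (h.trans h') p := by
  simp only [ren, rename_rename]
  rfl

theorem ev_ren {E E' : Finset A} (h : E ⊆ E') (p : MvPolynomial E R) :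
    ev R A E' (ren R A h p) = ev R A E p := by
  simp only [ev, ren, aeval_rename]
  rfl

variable (R A)

/-- The index poset: a finite set of elements of `A` and a finitely generated ideal of relations. -/
structure Idx : Type u where
  E : Finset A
  I : Ideal (MvPolynomial E R)
  fg : I.FG
  le : ∀ p ∈ I, ev R A E p = 0

variable {R A}

instance : Preorder (Idx R A) where
  le a b := ∃ h : a.E ⊆ b.E, ∀ p ∈ a.I, ren R A h p ∈ b.I
  le_refl a := ⟨subset_rfl, fun p hp => by rwa [ren_refl]⟩
  le_trans a b c := by
    rintro ⟨h, H⟩ ⟨h', H'⟩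
    refine ⟨h.trans h', fun p hp => ?_⟩
    rw [← ren_trans h h']
    exact H' _ (H p hp)

theorem le_def {a b : Idx R A} : a ≤ b ↔ ∃ h : a.E ⊆ b.E, ∀ p ∈ a.I, ren R A h p ∈ b.I := Iff.rfl

theorem subset_of_le {a b : Idx R A} (h : a ≤ b) : a.E ⊆ b.E := h.1

theorem ren_mem_of_le {a b : Idx R A} (h : a ≤ b) (p : MvPolynomial a.E R) (hp : p ∈ a.I) :
    ren R A (subset_of_le h) p ∈ b.I := h.2 p hp

instance : Nonempty (Idx R A) := ⟨⟨∅, ⊥, Submodule.fg_bot, fun p hp => by
  rw [Ideal.mem_bot] at hp; simp [hp]⟩⟩

open Classical in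
/-- Upper bound of two indices. -/
noncomputable def sup (a b : Idx R A) : Idx R A where
  E := a.E ∪ b.E
  I := a.I.map (ren R A (Finset.subset_union_left : a.E ⊆ a.E ∪ b.E)).toRingHom ⊔
    b.I.map (ren R A (Finset.subset_union_right : b.E ⊆ a.E ∪ b.E)).toRingHom
  fg := Submodule.FG.sup (a.fg.map _) (b.fg.map _)
  le := by
    classical
    have key : a.I.map (ren R A (Finset.subset_union_left : a.E ⊆ a.E ∪ b.E)).toRingHom ⊔
      b.I.map (ren R A (Finset.subset_union_right : b.E ⊆ a.E ∪ b.E)).toRingHom ≤
        RingHom.ker (ev R A (a.E ∪ b.E)).toRingHom := by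
      refine sup_le ?_ ?_
      · rw [Ideal.map_le_iff_le_comap]
        intro p hp
        rw [Ideal.mem_comap, RingHom.mem_ker]
        change ev R A _ (ren R A _ p) = 0
        rw [ev_ren]
        exact a.le p hp
      · rw [Ideal.map_le_iff_le_comap]
        intro p hp
        rw [Ideal.mem_comap, RingHom.mem_ker]
        change ev R A _ (ren R A _ p) = 0
        rw [ev_ren]
        exact b.le p hp
    intro p hp
    exact RingHom.mem_ker.1 (key hp)

open Classical in
instance : IsDirected (Idx R A) (· ≤ ·) :=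
  ⟨fun a b => ⟨sup a b,
    ⟨Finset.subset_union_left, fun p hp => Ideal.mem_sup_left (Ideal.mem_map_of_mem _ hp)⟩,
    ⟨Finset.subset_union_right, fun p hp => Ideal.mem_sup_right (Ideal.mem_map_of_mem _ hp)⟩⟩⟩

/-- The transition maps. -/
noncomputable def trans {a b : Idx R A} (h : a ≤ b) :
    MvPolynomial a.E R ⧸ a.I →+* MvPolynomial b.E R ⧸ b.I :=
  Ideal.quotientMap b.I (ren R A (subset_of_le h)).toRingHom (fun p hp => ren_mem_of_le h p hp)

@[simp]
theorem trans_mk {a b : Idx R A} (h : a ≤ b) (p : MvPolynomial a.E R) :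
    trans h (Ideal.Quotient.mk a.I p) = Ideal.Quotient.mk b.I (ren R A (subset_of_le h) p) := rfl

theorem trans_refl (a : Idx R A) (h : a ≤ a) (x : MvPolynomial a.E R ⧸ a.I) : trans h x = x := by
  obtain ⟨p, rfl⟩ := Ideal.Quotient.mk_surjective x
  rw [trans_mk, ren_refl]

theorem trans_trans {a b c : Idx R A} (h : a ≤ b) (h' : b ≤ c) (x : MvPolynomial a.E R ⧸ a.I) :
    trans h' (trans h x) = trans (h.trans h') x := by
  obtain ⟨p, rfl⟩ := Ideal.Quotient.mk_surjective x
  rw [trans_mk, trans_mk, trans_mk, ren_trans]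

/-- The map to `A`. -/
noncomputable def toA (a : Idx R A) : MvPolynomial a.E R ⧸ a.I →+* A :=
  Ideal.Quotient.lift a.I (ev R A a.E).toRingHom a.le

@[simp]
theorem toA_mk (a : Idx R A) (p : MvPolynomial a.E R) :
    toA a (Ideal.Quotient.mk a.I p) = ev R A a.E p := rfl

theorem algebraMap_quot (a : Idx R A) (r : R) :
    algebraMap R (MvPolynomial a.E R ⧸ a.I) r = Ideal.Quotient.mk a.I (C r) := rfl

variable (R A)

/-- The diagram. -/
noncomputable def diag : Idx R A ⥤ Under (CommRingCat.of R) where
  obj a := Under.mk (CommRingCat.ofHom (algebraMap R (MvPolynomial a.E R ⧸ a.I)))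
  map {a b} h := Under.homMk (CommRingCat.ofHom (trans (leOfHom h))) (by
    ext x
    change trans (leOfHom h) (algebraMap R (MvPolynomial a.E R ⧸ a.I) x) =
      algebraMap R (MvPolynomial b.E R ⧸ b.I) x
    rw [algebraMap_quot, algebraMap_quot, trans_mk]
    simp [ren])
  map_id a := by
    ext x
    exact trans_refl a (leOfHom (𝟙 a)) x
  map_comp {a b c} h h' := by
    ext x
    exact (trans_trans (leOfHom h) (leOfHom h') x).symm

/-- The cocone with point `A`. -/
noncomputable def cocone : Cocone (diag R A) where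
  pt := Under.mk (CommRingCat.ofHom (algebraMap R A))
  ι :=
    { app := fun a => Under.homMk (CommRingCat.ofHom (toA a)) (by
        ext x
        change toA a (algebraMap R (MvPolynomial a.E R ⧸ a.I) x) = algebraMap R A x
        rw [algebraMap_quot, toA_mk]
        simp [ev])
      naturality := fun a b h => by
        ext x
        obtain ⟨p, rfl⟩ := Ideal.Quotient.mk_surjective x
        change toA b (trans (leOfHom h) (Ideal.Quotient.mk a.I p)) = toA a (Ideal.Quotient.mk a.I p)
        rw [trans_mk, toA_mk, toA_mk, ev_ren] }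

theorem nonempty_isColimit : Nonempty (IsColimit (cocone R A)) := by
  classical
  refine Groth.Agent.H24.isColimit_under_of_directed (diag R A) (cocone R A) ?_ ?_
  · intro s
    change A at s
    let a : Idx R A := ⟨{s}, ⊥, Submodule.fg_bot, fun p hp => by rw [Ideal.mem_bot] at hp; simp [hp]⟩
    refine ⟨a, Ideal.Quotient.mk _ (X ⟨s, Finset.mem_singleton_self s⟩), ?_⟩
    change toA a (Ideal.Quotient.mk _ _) = s
    rw [toA_mk]
    simp [ev]
  · intro a x y hxy
    obtain ⟨p, rfl⟩ := Ideal.Quotient.mk_surjective x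
    obtain ⟨q, rfl⟩ := Ideal.Quotient.mk_surjective y
    have hpq : ev R A a.E p = ev R A a.E q := hxy
    let b : Idx R A :=
      { E := a.E
        I := a.I ⊔ Ideal.span {p - q}
        fg := Submodule.FG.sup a.fg (Submodule.fg_span_singleton _)
        le := by
          have key : a.I ⊔ Ideal.span {p - q} ≤ RingHom.ker (ev R A a.E).toRingHom := by
            refine sup_le (fun r hr => RingHom.mem_ker.2 (a.le r hr)) ?_
            rw [Ideal.span_singleton_le_iff_mem, RingHom.mem_ker]
            change ev R A a.E (p - q) = 0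
            rw [map_sub, hpq, sub_self]
          intro r hr
          exact RingHom.mem_ker.1 (key hr) }
    have hab : a ≤ b := ⟨subset_rfl, fun r hr => by
      rw [ren_refl]; exact Ideal.mem_sup_left hr⟩
    refine ⟨b, hab, ?_⟩
    change trans hab (Ideal.Quotient.mk a.I p) = trans hab (Ideal.Quotient.mk a.I q)
    rw [trans_mk, trans_mk, ren_refl, ren_refl, Ideal.Quotient.eq]
    exact Ideal.mem_sup_right (Ideal.mem_span_singleton_self _)

end AlgColim

theorem exists_filteredColimit_fp (R A : Type u) [CommRing R] [CommRing A] [Algebra R A] :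
    ∃ (I : Type u) (_ : SmallCategory I) (_ : IsFiltered I) (D : I ⥤ Under (CommRingCat.of R))
      (c : Cocone D) (_ : IsColimit c),
      (∀ i, (D.obj i).hom.hom.FinitePresentation) ∧
      Nonempty (c.pt ≅ Under.mk (CommRingCat.ofHom (algebraMap R A))) := by
  obtain ⟨hc⟩ := AlgColim.nonempty_isColimit R A
  refine ⟨AlgColim.Idx R A, inferInstance, inferInstance, AlgColim.diag R A, AlgColim.cocone R A, hc,
    ?_, ⟨Iso.refl _⟩⟩
  intro a
  change (algebraMap R (MvPolynomial a.E R ⧸ a.I)).FinitePresentation
  rw [RingHom.finitePresentation_algebraMap]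
  exact Algebra.FinitePresentation.quotient a.fg

end Groth.Agent.H46
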