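import Mathlib

/-!
# Contractibility of mapping cocones

The mapping cocone of a morphism of cochain complexes which is an isomorphism in the homotopy
category is contractible.
-/

namespace Groth.Agent.H46

open CategoryTheory Limits Pretriangulated

universe v u

variable {C : Type u} [Category.{v} C] [Preadditive C] [HasZeroObject C] [HasBinaryBiproducts C]

theorem contractible_mappingCocone_of_isIso_quotient {K L : CochainComplex C ℤ} (φ : K ⟶ L)
    (h : IsIso ((HomotopyCategory.quotient C (ComplexShape.up ℤ)).map φ)) :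
    Nonempty (Homotopy (𝟙 (CochainComplex.mappingCocone φ)) 0) := by
  rw [← HomotopyCategory.isZero_quotient_obj_iff]
  have h1 : IsZero ((HomotopyCategory.quotient C (ComplexShape.up ℤ)).obj
      (CochainComplex.mappingCone φ)) :=
    Triangle.isZero₃_of_isIso₁ _ (HomotopyCategory.mappingCone_triangleh_distinguished φ) h
  have h2 : IsZero (((HomotopyCategory.quotient C (ComplexShape.up ℤ)).obj
      (CochainComplex.mappingCone φ))⟦(-1 : ℤ)⟧) :=
    (shiftFunctor _ (-1 : ℤ)).map_isZero h1
  exact h2.of_iso (((HomotopyCategory.quotient C (ComplexShape.up ℤ)).commShiftIso (-1 : ℤ)).app _)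

theorem contractible_mappingCocone_of_isIso {K L : CochainComplex C ℤ} (φ : K ⟶ L) [IsIso φ] :
    Nonempty (Homotopy (𝟙 (CochainComplex.mappingCocone φ)) 0) :=
  contractible_mappingCocone_of_isIso_quotient φ inferInstance

theorem contractible_mappingCocone_of_contractible {K L : CochainComplex C ℤ} (φ : K ⟶ L)
    (hK : Nonempty (Homotopy (𝟙 K) 0)) (hL : Nonempty (Homotopy (𝟙 L) 0)) :
    Nonempty (Homotopy (𝟙 (CochainComplex.mappingCocone φ)) 0) := by
  rw [← HomotopyCategory.isZero_quotient_obj_iff] at hK hL
  exact contractible_mappingCocone_of_isIso_quotient φ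
    ⟨⟨0, hK.eq_of_src _ _, hL.eq_of_src _ _⟩⟩

end Groth.Agent.H46

namespace Groth.Agent.H46

theorem mkLinearMap_bijective_of_units {R : Type*} [CommRing R] (S : Submonoid R)
    (hS : ∀ s ∈ S, IsUnit s) (M : Type*) [AddCommGroup M] [Module R M] :
    Function.Bijective (LocalizedModule.mkLinearMap S M) := by
  constructor
  · intro a b hab
    rw [LocalizedModule.mkLinearMap_apply, LocalizedModule.mkLinearMap_apply,
      LocalizedModule.mk_eq] at hab
    obtain ⟨u, hu⟩ := hab
    simp only [one_smul] at hu
    obtain ⟨v, hv⟩ := hS u u.2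
    have h2 : (u : R) • a = (u : R) • b := hu
    rw [← hv] at h2
    have := congrArg (fun x => (↑v⁻¹ : R) • x) h2
    simpa [smul_smul] using this
  · intro x
    induction x using LocalizedModule.induction_on with
    | h m s =>
      obtain ⟨u, hu⟩ := hS s s.2
      refine ⟨(↑u⁻¹ : R) • m, ?_⟩
      rw [LocalizedModule.mkLinearMap_apply, LocalizedModule.mk_eq]
      refine ⟨1, ?_⟩
      simp only [one_smul]
      change (s : R) • (↑u⁻¹ : R) • m = m
      rw [← hu, smul_smul]
      simp

end Groth.Agent.H46
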