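import Mathlib
import Groth.Agent.H47.ColimKL

/-!
# Polynomials over weakly presented directed colimits

Descent of polynomials, of vanishing of polynomials, and of membership in finitely generated
ideals of polynomial rings, for a *reach system* `(G i) → A`: a family of `A₀`-algebras with
compatible maps to `A`, jointly surjective, directed (any two stages map compatibly to a common
stage) and such that every kernel element dies under some compatible stage map.  This generalises
`Groth.Agent.H47.ColimKL.Sys` (no transition maps are fixed) and is stable under `B₀ ⊗[A₀] -`.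
-/

set_option autoImplicit false
set_option linter.unusedSectionVars false
universe u

open MvPolynomial

namespace Groth.Agent.H46.ColimPoly

/-- A reach system: a weakly presented directed colimit without fixed transition maps. -/
structure RSys {ι : Type u} (A₀ : Type u) [CommRing A₀] (G : ι → Type u) [∀ i, CommRing (G i)]
    [∀ i, Algebra A₀ (G i)] (A : Type u) [CommRing A] [Algebra A₀ A] where
  g : ∀ i, G i →ₐ[A₀] A
  hsurj : ∀ a : A, ∃ i, ∃ x : G i, g i x = a
  hdir : ∀ i i', ∃ (k : ι) (θ : G i →ₐ[A₀] G k) (θ' : G i' →ₐ[A₀] G k),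
    (g k).comp θ = g i ∧ (g k).comp θ' = g i'
  hker : ∀ i (x : G i), g i x = 0 → ∃ (j : ι) (θ : G i →ₐ[A₀] G j), (g j).comp θ = g i ∧ θ x = 0

variable {ι : Type u}
  {A₀ : Type u} [CommRing A₀] {G : ι → Type u} [∀ i, CommRing (G i)] [∀ i, Algebra A₀ (G i)]
  {A : Type u} [CommRing A] [Algebra A₀ A] (S : RSys A₀ G A) {σ : Type*}

/-- `θ : G i → G j` is compatible with the maps to the colimit. -/
def Reach (i j : ι) (θ : G i →ₐ[A₀] G j) : Prop := (S.g j).comp θ = S.g i

theorem Reach.refl (i : ι) : Reach S i i (AlgHom.id A₀ (G i)) := AlgHom.comp_id _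

theorem Reach.trans {i j k : ι} {θ : G i →ₐ[A₀] G j} {θ' : G j →ₐ[A₀] G k}
    (h : Reach S i j θ) (h' : Reach S j k θ') : Reach S i k (θ'.comp θ) := by
  unfold Reach at *
  rw [← AlgHom.comp_assoc, h', h]

theorem Reach.apply {i j : ι} {θ : G i →ₐ[A₀] G j} (h : Reach S i j θ) (x : G i) :
    S.g j (θ x) = S.g i x := DFunLike.congr_fun h x

/-- A reach system from a weak directed system. -/
def RSys.ofSys [Preorder ι] [IsDirected ι (· ≤ ·)] (S₀ : Groth.Agent.H47.ColimKL.Sys A₀ G A) :
    RSys A₀ G A where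
  g := S₀.g
  hsurj := S₀.hsurj
  hdir i i' := by
    obtain ⟨k, h1, h2⟩ := exists_ge_ge i i'
    exact ⟨k, S₀.f i k h1, S₀.f i' k h2, S₀.hg i k h1, S₀.hg i' k h2⟩
  hker i x hx := by
    obtain ⟨j, h, hj⟩ := S₀.hker i x hx
    exact ⟨j, S₀.f i j h, S₀.hg i j h, hj⟩

/-- Finitely many elements of `ker (g i)` can be killed simultaneously. -/
theorem exists_reach_kill_finset (i : ι) (T : Finset (G i)) (hT : ∀ x ∈ T, S.g i x = 0) :
    ∃ (j : ι) (θ : G i →ₐ[A₀] G j), Reach S i j θ ∧ ∀ x ∈ T, θ x = 0 := by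
  classical
  induction T using Finset.induction_on with
  | empty => exact ⟨i, AlgHom.id A₀ (G i), Reach.refl S i, by simp⟩
  | insert a T _ ih =>
    obtain ⟨j, θ, hθ, hk⟩ := ih (fun x hx => hT x (Finset.mem_insert_of_mem hx))
    have ha : S.g j (θ a) = 0 := by rw [hθ.apply, hT a (Finset.mem_insert_self a T)]
    obtain ⟨k, θ', hθ', hka⟩ := S.hker j (θ a) ha
    refine ⟨k, θ'.comp θ, hθ.trans S hθ', ?_⟩
    intro x hx
    rcases Finset.mem_insert.mp hx with rfl | hx
    · exact hka
    · rw [AlgHom.comp_apply, hk x hx, map_zero]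

/-- Finitely many stages map compatibly to a common stage. -/
theorem exists_common [Nonempty ι] {κ : Type*} [Finite κ] (idx : κ → ι) :
    ∃ (k : ι), ∀ a, ∃ θ : G (idx a) →ₐ[A₀] G k, Reach S (idx a) k θ := by
  classical
  cases nonempty_fintype κ
  suffices H : ∀ T : Finset κ, ∃ (k : ι), ∀ a ∈ T, ∃ θ : G (idx a) →ₐ[A₀] G k,
      Reach S (idx a) k θ by
    obtain ⟨k, hk⟩ := H Finset.univ
    exact ⟨k, fun a => hk a (Finset.mem_univ a)⟩
  intro T
  induction T using Finset.induction_on with
  | empty => exact ⟨Classical.arbitrary ι, by simp⟩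
  | insert b T _ ih =>
    obtain ⟨k, hk⟩ := ih
    obtain ⟨k', α₁, α₂, h1, h2⟩ := S.hdir k (idx b)
    refine ⟨k', fun a ha => ?_⟩
    rcases Finset.mem_insert.mp ha with rfl | ha
    · exact ⟨α₂, h2⟩
    · obtain ⟨θ, hθ⟩ := hk a ha
      exact ⟨α₁.comp θ, hθ.trans S h1⟩

theorem map_reach {i j : ι} {θ : G i →ₐ[A₀] G j} (h : Reach S i j θ) (p : MvPolynomial σ (G i)) :
    map (S.g j).toRingHom (map θ.toRingHom p) = map (S.g i).toRingHom p := by
  rw [MvPolynomial.map_map]
  have : (S.g j).toRingHom.comp θ.toRingHom = (S.g i).toRingHom :=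
    RingHom.ext fun x => h.apply S x
  rw [this]

/-- A polynomial over a stage which vanishes over the colimit vanishes at a later stage. -/
theorem exists_reach_map_eq_zero (i : ι) (p : MvPolynomial σ (G i))
    (h : map (S.g i).toRingHom p = 0) :
    ∃ (j : ι) (θ : G i →ₐ[A₀] G j), Reach S i j θ ∧ map θ.toRingHom p = 0 := by
  classical
  obtain ⟨j, θ, hθ, hk⟩ := exists_reach_kill_finset S i (p.support.image p.coeff) (by
    intro x hx
    obtain ⟨m, -, rfl⟩ := Finset.mem_image.mp hx
    have := congrArg (MvPolynomial.coeff m) h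
    rwa [coeff_map, coeff_zero] at this)
  refine ⟨j, θ, hθ, ?_⟩
  ext m
  rw [coeff_map, coeff_zero]
  by_cases hm : m ∈ p.support
  · exact hk _ (Finset.mem_image_of_mem _ hm)
  · rw [notMem_support_iff.mp hm]
    exact map_zero _

/-- Finitely many polynomials over a stage which vanish over the colimit vanish at a common later
stage. -/
theorem exists_reach_map_eq_zero_finset (i : ι) (T : Finset (MvPolynomial σ (G i)))
    (h : ∀ p ∈ T, map (S.g i).toRingHom p = 0) :
    ∃ (j : ι) (θ : G i →ₐ[A₀] G j), Reach S i j θ ∧ ∀ p ∈ T, map θ.toRingHom p = 0 := by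
  classical
  induction T using Finset.induction_on with
  | empty => exact ⟨i, AlgHom.id A₀ (G i), Reach.refl S i, by simp⟩
  | insert a T _ ih =>
    obtain ⟨j, θ, hθ, hk⟩ := ih (fun x hx => h x (Finset.mem_insert_of_mem hx))
    have ha : map (S.g j).toRingHom (map θ.toRingHom a) = 0 := by
      rw [map_reach S hθ, h a (Finset.mem_insert_self a T)]
    obtain ⟨k, θ', hθ', hka⟩ := exists_reach_map_eq_zero S j _ ha
    refine ⟨k, θ'.comp θ, hθ.trans S hθ', ?_⟩
    intro x hx
    have hcomp : map (θ'.comp θ).toRingHom x = map θ'.toRingHom (map θ.toRingHom x) := by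
      rw [MvPolynomial.map_map]; rfl
    rw [hcomp]
    rcases Finset.mem_insert.mp hx with rfl | hx
    · exact hka
    · rw [hk x hx, map_zero]

variable [Nonempty ι]

/-- Every polynomial over the colimit comes from a stage. -/
theorem exists_map_eq (p : MvPolynomial σ A) :
    ∃ (i : ι) (p' : MvPolynomial σ (G i)), map (S.g i).toRingHom p' = p := by
  induction p using MvPolynomial.induction_on with
  | C a =>
    obtain ⟨i, x, rfl⟩ := S.hsurj a
    exact ⟨i, C x, by simp⟩
  | add p q hp hq =>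
    obtain ⟨i₁, p', rfl⟩ := hp
    obtain ⟨i₂, q', rfl⟩ := hq
    obtain ⟨k, θ₁, θ₂, h1, h2⟩ := S.hdir i₁ i₂
    refine ⟨k, map θ₁.toRingHom p' + map θ₂.toRingHom q', ?_⟩
    rw [map_add, map_reach S h1, map_reach S h2]
  | mul_X p n hp =>
    obtain ⟨i, p', rfl⟩ := hp
    exact ⟨i, p' * X n, by simp⟩

/-- Finitely many polynomials over the colimit come from a common stage. -/
theorem exists_map_eq_family {κ : Type*} [Finite κ] (p : κ → MvPolynomial σ A) :
    ∃ (i : ι) (p' : κ → MvPolynomial σ (G i)), ∀ k, map (S.g i).toRingHom (p' k) = p k := by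
  choose idx p₀ hp₀ using fun k => exists_map_eq S (p k)
  obtain ⟨i, hi⟩ := exists_common S idx
  choose θ hθ using hi
  refine ⟨i, fun k => map (θ k).toRingHom (p₀ k), fun k => ?_⟩
  rw [map_reach S (hθ k), hp₀]

/-- Membership in a finitely generated ideal of a polynomial ring descends to a later stage. -/
theorem exists_reach_mem_span (i : ι) (a : MvPolynomial σ (G i)) {κ : Type*} [Finite κ]
    (gens : κ → MvPolynomial σ (G i))
    (h : map (S.g i).toRingHom a ∈
      Ideal.span (Set.range fun k => map (S.g i).toRingHom (gens k))) :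
    ∃ (j : ι) (θ : G i →ₐ[A₀] G j), Reach S i j θ ∧
      map θ.toRingHom a ∈ Ideal.span (Set.range fun k => map θ.toRingHom (gens k)) := by
  classical
  cases nonempty_fintype κ
  obtain ⟨cf, hcf⟩ := (Ideal.mem_span_range_iff_exists_fun).mp h
  obtain ⟨i₁, cf', hcf'⟩ := exists_map_eq_family S cf
  obtain ⟨k, β₁, β₂, h1, h2⟩ := S.hdir i i₁
  let d : MvPolynomial σ (G k) := map β₁.toRingHom a -
    ∑ l, map β₂.toRingHom (cf' l) * map β₁.toRingHom (gens l)
  have hd : map (S.g k).toRingHom d = 0 := by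
    simp only [d, map_sub, map_sum, map_mul, map_reach S h1,
      map_reach S h2, hcf']
    rw [hcf, sub_self]
  obtain ⟨j, θ, hθ, hz⟩ := exists_reach_map_eq_zero S k d hd
  refine ⟨j, θ.comp β₁, Reach.trans S h1 hθ, ?_⟩
  have hcomp : ∀ x : MvPolynomial σ (G i), map (θ.comp β₁).toRingHom x =
      map θ.toRingHom (map β₁.toRingHom x) := fun x => by
    rw [MvPolynomial.map_map]; rfl
  simp only [d, map_sub, map_sum, map_mul, sub_eq_zero] at hz
  rw [hcomp, hz]
  refine Ideal.sum_mem _ fun l _ => Ideal.mul_mem_left _ _ ?_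
  rw [← hcomp]
  exact Ideal.subset_span ⟨l, rfl⟩

omit [Nonempty ι] in
/-- Membership in a span is preserved by later stage maps. -/
theorem mem_span_map {i j : ι} (θ : G i →ₐ[A₀] G j) (a : MvPolynomial σ (G i)) {κ : Type*}
    (gens : κ → MvPolynomial σ (G i)) (h : a ∈ Ideal.span (Set.range gens)) :
    map θ.toRingHom a ∈ Ideal.span (Set.range fun k => map θ.toRingHom (gens k)) := by
  have := Ideal.mem_map_of_mem (map θ.toRingHom) h
  rwa [Ideal.map_span, ← Set.range_comp] at this

/-- Finitely many memberships descend simultaneously. -/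
theorem exists_reach_mem_span_family (i : ι) {κ' : Type*} [Finite κ']
    (a : κ' → MvPolynomial σ (G i)) {κ : Type*} [Finite κ]
    (gens : κ → MvPolynomial σ (G i))
    (h : ∀ k', map (S.g i).toRingHom (a k') ∈
      Ideal.span (Set.range fun k => map (S.g i).toRingHom (gens k))) :
    ∃ (j : ι) (θ : G i →ₐ[A₀] G j), Reach S i j θ ∧ ∀ k',
      map θ.toRingHom (a k') ∈ Ideal.span (Set.range fun k => map θ.toRingHom (gens k)) := by
  classical
  cases nonempty_fintype κ'
  suffices H : ∀ T : Finset κ', ∃ (j : ι) (θ : G i →ₐ[A₀] G j), Reach S i j θ ∧ ∀ k' ∈ T,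
      map θ.toRingHom (a k') ∈ Ideal.span (Set.range fun k => map θ.toRingHom (gens k)) by
    obtain ⟨j, θ, hθ, hk⟩ := H Finset.univ
    exact ⟨j, θ, hθ, fun k' => hk k' (Finset.mem_univ _)⟩
  intro T
  induction T using Finset.induction_on with
  | empty => exact ⟨i, AlgHom.id A₀ (G i), Reach.refl S i, by simp⟩
  | insert b T _ ih =>
    obtain ⟨j, θ, hθ, hk⟩ := ih
    have hb : map (S.g j).toRingHom (map θ.toRingHom (a b)) ∈
        Ideal.span (Set.range fun k => map (S.g j).toRingHom (map θ.toRingHom (gens k))) := by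
      simp only [map_reach S hθ]
      exact h b
    obtain ⟨k, θ', hθ', hkb⟩ := exists_reach_mem_span S j _ (fun k => map θ.toRingHom (gens k)) hb
    refine ⟨k, θ'.comp θ, hθ.trans S hθ', ?_⟩
    have hcomp : ∀ x : MvPolynomial σ (G i), map (θ'.comp θ).toRingHom x =
        map θ'.toRingHom (map θ.toRingHom x) := fun x => by
      rw [MvPolynomial.map_map]; rfl
    intro x hx
    simp only [hcomp]
    rcases Finset.mem_insert.mp hx with rfl | hx
    · exact hkb
    · exact mem_span_map θ' _ _ (hk x hx)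

omit [Nonempty ι] in
theorem map_comp_apply {i j k : ι} (θ : G i →ₐ[A₀] G j) (θ' : G j →ₐ[A₀] G k)
    (x : MvPolynomial σ (G i)) :
    map (θ'.comp θ).toRingHom x = map θ'.toRingHom (map θ.toRingHom x) := by
  rw [MvPolynomial.map_map]; rfl

/-- Two finite families of memberships (in two polynomial rings) descend simultaneously. -/
theorem exists_reach_mem_span_family₂ (i : ι) {σ₁ σ₂ : Type*}
    {κ₁' κ₁ κ₂' κ₂ : Type*} [Finite κ₁'] [Finite κ₁] [Finite κ₂'] [Finite κ₂]
    (a₁ : κ₁' → MvPolynomial σ₁ (G i)) (gens₁ : κ₁ → MvPolynomial σ₁ (G i))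
    (h₁ : ∀ k', map (S.g i).toRingHom (a₁ k') ∈
      Ideal.span (Set.range fun k => map (S.g i).toRingHom (gens₁ k)))
    (a₂ : κ₂' → MvPolynomial σ₂ (G i)) (gens₂ : κ₂ → MvPolynomial σ₂ (G i))
    (h₂ : ∀ k', map (S.g i).toRingHom (a₂ k') ∈
      Ideal.span (Set.range fun k => map (S.g i).toRingHom (gens₂ k))) :
    ∃ (j : ι) (θ : G i →ₐ[A₀] G j), Reach S i j θ ∧
      (∀ k', map θ.toRingHom (a₁ k') ∈
        Ideal.span (Set.range fun k => map θ.toRingHom (gens₁ k))) ∧
      (∀ k', map θ.toRingHom (a₂ k') ∈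
        Ideal.span (Set.range fun k => map θ.toRingHom (gens₂ k))) := by
  obtain ⟨j₁, θ₁, hθ₁, hm₁⟩ := exists_reach_mem_span_family S i a₁ gens₁ h₁
  have h₂' : ∀ k', map (S.g j₁).toRingHom (map θ₁.toRingHom (a₂ k')) ∈
      Ideal.span (Set.range fun k => map (S.g j₁).toRingHom (map θ₁.toRingHom (gens₂ k))) := by
    intro k'
    simp only [map_reach S hθ₁]
    exact h₂ k'
  obtain ⟨j, θ₂, hθ₂, hm₂⟩ := exists_reach_mem_span_family S j₁
    (fun k' => map θ₁.toRingHom (a₂ k')) (fun k => map θ₁.toRingHom (gens₂ k)) h₂'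
  refine ⟨j, θ₂.comp θ₁, hθ₁.trans S hθ₂, fun k' => ?_, fun k' => ?_⟩
  · simp only [map_comp_apply]
    exact mem_span_map θ₂ _ _ (hm₁ k')
  · simp only [map_comp_apply]
    exact hm₂ k'

end Groth.Agent.H46.ColimPoly
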