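import Mathlib.RingTheory.Kaehler.Basic
import Mathlib.RingTheory.Ideal.Cotangent
import Mathlib.LinearAlgebra.TensorProduct.RightExactness

set_option autoImplicit false
universe u

namespace Groth.Agent.H46

open TensorProduct KaehlerDifferential

section

variable (A B C : Type u) [CommRing A] [CommRing B] [CommRing C] [Algebra A B] [Algebra B C]
  [Algebra A C] [IsScalarTower A B C]

/-- If `1 ⊗ ω = 0` in `C ⊗[B] M` for `B → C` surjective, then `ω ∈ J • ⊤` with `J` the kernel. -/
theorem mem_ker_smul_top_of_one_tmul_eq_zero (hBC : Function.Surjective (algebraMap B C))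
    (M : Type u) [AddCommGroup M] [Module B M] (ω : M)
    (hω : (1 : C) ⊗ₜ[B] ω = 0) :
    ω ∈ RingHom.ker (algebraMap B C) • (⊤ : Submodule B M) := by
  set J := RingHom.ker (algebraMap B C) with hJ
  let e : (B ⧸ J) ≃ₐ[B] C :=
    Ideal.quotientKerAlgEquivOfSurjective (f := Algebra.ofId B C) hBC
  let E : (B ⧸ J) ⊗[B] M ≃ₗ[B] C ⊗[B] M :=
    TensorProduct.congr e.toLinearEquiv (LinearEquiv.refl B M)
  have h1 : E ((1 : B ⧸ J) ⊗ₜ[B] ω) = (1 : C) ⊗ₜ[B] ω := by
    simp [E]
  have h2 : (1 : B ⧸ J) ⊗ₜ[B] ω = 0 := by
    apply E.injective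
    rw [h1, hω, map_zero]
  have h3 : ω ∈ LinearMap.ker (TensorProduct.mk B (B ⧸ J) M 1) := by
    rw [LinearMap.mem_ker]
    exact h2
  rwa [LinearMap.ker_tensorProductMk] at h3

end

section

variable (A B C : Type u) [CommRing A] [CommRing B] [CommRing C] [Algebra A B] [Algebra B C]
  [Algebra A C] [IsScalarTower A B C]
  (hAC : Function.Surjective (algebraMap A C))
  (h : RingHom.ker (algebraMap A C) ≤ (RingHom.ker (algebraMap B C)).comap (Algebra.ofId A B))

local notation "I" => RingHom.ker (algebraMap A C)
local notation "J" => RingHom.ker (algebraMap B C)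

/-- The range of `I/I² → J/J²` as a `B`-submodule. -/
def rangeSub : Submodule B (RingHom.ker (algebraMap B C)).Cotangent where
  carrier := Set.range (Ideal.mapCotangent (RingHom.ker (algebraMap A C))
    (RingHom.ker (algebraMap B C)) (Algebra.ofId A B) h)
  add_mem' := by
    rintro _ _ ⟨x, rfl⟩ ⟨y, rfl⟩
    exact ⟨x + y, map_add _ _ _⟩
  zero_mem' := ⟨0, map_zero _⟩
  smul_mem' := by
    rintro b _ ⟨x, rfl⟩
    obtain ⟨a, ha⟩ := hAC (algebraMap B C b)
    refine ⟨a • x, ?_⟩
    rw [map_smul]
    have hmem : b - algebraMap A B a ∈ RingHom.ker (algebraMap B C) := by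
      rw [RingHom.mem_ker, map_sub, ← IsScalarTower.algebraMap_apply, ha, sub_self]
    have := Ideal.Cotangent.smul_eq_zero_of_mem hmem
      (Ideal.mapCotangent (RingHom.ker (algebraMap A C))
        (RingHom.ker (algebraMap B C)) (Algebra.ofId A B) h x)
    rw [sub_smul, sub_eq_zero, algebraMap_smul] at this
    exact this.symm


variable {A B C}

theorem sub_algebraMap_mem_ker (b : B) (a : A) (ha : algebraMap A C a = algebraMap B C b) :
    b - algebraMap A B a ∈ RingHom.ker (algebraMap B C) := by
  rw [RingHom.mem_ker, map_sub, ← IsScalarTower.algebraMap_apply, ha, sub_self]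

/-- The class of `b - φ a` in the quotient of `J/J²` by the image of `I/I²`. -/
noncomputable def deltaAux (b : B) (a : A) (ha : algebraMap A C a = algebraMap B C b) :
    (RingHom.ker (algebraMap B C)).Cotangent ⧸ rangeSub A B C hAC h :=
  Submodule.Quotient.mk ((RingHom.ker (algebraMap B C)).toCotangent
    ⟨b - algebraMap A B a, sub_algebraMap_mem_ker b a ha⟩)

theorem deltaAux_eq (b : B) (a a' : A) (ha : algebraMap A C a = algebraMap B C b)
    (ha' : algebraMap A C a' = algebraMap B C b) :
    deltaAux hAC h b a ha = deltaAux hAC h b a' ha' := by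
  unfold deltaAux
  rw [Submodule.Quotient.eq, ← map_sub]
  have hmem : a' - a ∈ RingHom.ker (algebraMap A C) := by
    rw [RingHom.mem_ker, map_sub, ha, ha', sub_self]
  refine ⟨(RingHom.ker (algebraMap A C)).toCotangent ⟨a' - a, hmem⟩, ?_⟩
  rw [Ideal.mapCotangent_toCotangent]
  congr 1
  ext
  simp only [Algebra.ofId_apply, map_sub, AddSubgroupClass.coe_sub]
  ring

/-- The function underlying the derivation. -/
noncomputable def delta (b : B) : (RingHom.ker (algebraMap B C)).Cotangent ⧸ rangeSub A B C hAC h :=
  deltaAux hAC h b (hAC (algebraMap B C b)).choose (hAC (algebraMap B C b)).choose_spec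

theorem delta_eq (b : B) (a : A) (ha : algebraMap A C a = algebraMap B C b) :
    delta hAC h b = deltaAux hAC h b a ha := deltaAux_eq hAC h b _ _ _ _

/-- The derivation `B → (J/J²)/im(I/I²)`. -/
noncomputable def deltaDer :
    Derivation A B ((RingHom.ker (algebraMap B C)).Cotangent ⧸ rangeSub A B C hAC h) where
  toFun := delta hAC h
  map_add' b b' := by
    obtain ⟨a, ha⟩ := hAC (algebraMap B C b)
    obtain ⟨a', ha'⟩ := hAC (algebraMap B C b')
    rw [delta_eq hAC h b a ha, delta_eq hAC h b' a' ha',
      delta_eq hAC h (b + b') (a + a') (by rw [map_add, map_add, ha, ha'])]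
    unfold deltaAux
    rw [← Submodule.Quotient.mk_add, ← (RingHom.ker (algebraMap B C)).toCotangent.map_add]
    congr 2
    ext
    simp only [map_add, AddMemClass.mk_add_mk]
    ring
  map_smul' r b := by
    obtain ⟨a, ha⟩ := hAC (algebraMap B C b)
    rw [delta_eq hAC h b a ha, delta_eq hAC h (r • b) (r * a)
      (by rw [map_mul, ha, Algebra.smul_def, map_mul, ← IsScalarTower.algebraMap_apply])]
    unfold deltaAux
    rw [RingHom.id_apply]
    refine Eq.trans ?_ (algebraMap_smul B r _)
    rw [← Submodule.Quotient.mk_smul,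
      ← (RingHom.ker (algebraMap B C)).toCotangent.map_smul]
    congr 2
    ext
    simp only [map_mul, SetLike.mk_smul_mk, smul_eq_mul, Algebra.smul_def]
    ring
  map_one_eq_zero' := by
    change delta hAC h 1 = 0
    rw [delta_eq hAC h 1 1 (by rw [map_one, map_one])]
    unfold deltaAux
    rw [Submodule.Quotient.mk_eq_zero]
    have : (⟨1 - algebraMap A B 1, sub_algebraMap_mem_ker 1 1 (by rw [map_one, map_one])⟩ :
        RingHom.ker (algebraMap B C)) = 0 := by
      ext
      simp
    rw [this, map_zero]
    exact Submodule.zero_mem _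
  leibniz' b b' := by
    change delta hAC h (b * b') = b • delta hAC h b' + b' • delta hAC h b
    obtain ⟨a, ha⟩ := hAC (algebraMap B C b)
    obtain ⟨a', ha'⟩ := hAC (algebraMap B C b')
    rw [delta_eq hAC h b a ha, delta_eq hAC h b' a' ha',
      delta_eq hAC h (b * b') (a * a') (by rw [map_mul, map_mul, ha, ha'])]
    unfold deltaAux
    rw [← Submodule.Quotient.mk_smul, ← Submodule.Quotient.mk_smul, ← Submodule.Quotient.mk_add]
    congr 1
    have hkill : (b' - algebraMap A B a') • (RingHom.ker (algebraMap B C)).toCotangent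
        ⟨b - algebraMap A B a, sub_algebraMap_mem_ker b a ha⟩ = 0 :=
      Ideal.Cotangent.smul_eq_zero_of_mem (sub_algebraMap_mem_ker b' a' ha') _
    rw [sub_smul, sub_eq_zero] at hkill
    rw [hkill, ← (RingHom.ker (algebraMap B C)).toCotangent.map_smul,
      ← (RingHom.ker (algebraMap B C)).toCotangent.map_smul,
      ← (RingHom.ker (algebraMap B C)).toCotangent.map_add]
    congr 1
    ext
    simp only [map_mul, SetLike.mk_smul_mk, smul_eq_mul, AddMemClass.mk_add_mk]
    ring

include hAC in
theorem conormal_exact :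
    Function.Exact
      (Ideal.mapCotangent (RingHom.ker (algebraMap A C)) (RingHom.ker (algebraMap B C))
        (Algebra.ofId A B) h)
      (KaehlerDifferential.kerCotangentToTensor A B C) := by
  have hBC : Function.Surjective (algebraMap B C) := by
    intro c
    obtain ⟨a, rfl⟩ := hAC c
    exact ⟨algebraMap A B a, (IsScalarTower.algebraMap_apply A B C a).symm⟩
  intro y
  constructor
  · intro hy
    obtain ⟨⟨x, hx⟩, rfl⟩ := (RingHom.ker (algebraMap B C)).toCotangent_surjective y
    rw [KaehlerDifferential.kerCotangentToTensor_toCotangent] at hy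
    have h1 := mem_ker_smul_top_of_one_tmul_eq_zero B C hBC _ (D A B x) hy
    have h2 : (deltaDer hAC h).liftKaehlerDifferential (D A B x) = delta hAC h x :=
      Derivation.liftKaehlerDifferential_comp_D _ _
    have h3 : (deltaDer hAC h).liftKaehlerDifferential (D A B x) = 0 := by
      have hmem : (deltaDer hAC h).liftKaehlerDifferential (D A B x) ∈
          (RingHom.ker (algebraMap B C) • (⊤ : Submodule B (Ω[B⁄A]))).map
            (deltaDer hAC h).liftKaehlerDifferential := Submodule.mem_map_of_mem h1
      rw [Submodule.map_smul''] at hmem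
      refine Submodule.smul_induction_on hmem ?_ ?_
      · intro r hr n _
        obtain ⟨n, rfl⟩ := Submodule.Quotient.mk_surjective _ n
        rw [← Submodule.Quotient.mk_smul, Ideal.Cotangent.smul_eq_zero_of_mem hr,
          Submodule.Quotient.mk_zero]
      · intro x y hx hy
        rw [hx, hy, add_zero]
    rw [h2, delta_eq hAC h x 0 (by rw [map_zero]; exact (RingHom.mem_ker.mp hx).symm)] at h3
    unfold deltaAux at h3
    rw [Submodule.Quotient.mk_eq_zero] at h3
    obtain ⟨z, hz⟩ := h3
    refine ⟨z, ?_⟩
    rw [hz]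
    congr 1
    ext
    simp
  · rintro ⟨x, rfl⟩
    obtain ⟨⟨a, ha⟩, rfl⟩ := (RingHom.ker (algebraMap A C)).toCotangent_surjective x
    rw [Ideal.mapCotangent_toCotangent, KaehlerDifferential.kerCotangentToTensor_toCotangent]
    simp only [Algebra.ofId_apply, Derivation.map_algebraMap, TensorProduct.tmul_zero]

end

end Groth.Agent.H46
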