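import Mathlib

/-!
# Tensor products with a directed colimit of algebras
-/

set_option autoImplicit false
set_option linter.unusedSectionVars false
universe u

open TensorProduct

namespace Groth.Agent.H46

namespace DirLimTensor

variable {ι : Type u} [Preorder ι] [Nonempty ι] [IsDirectedOrder ι] (G : ι → Type u)
  [∀ i, CommRing (G i)] (f : ∀ i j, i ≤ j → G i →+* G j) [DirectedSystem G (fun i j h => f i j h)]
  (A : Type u) [CommRing A] [∀ i, Algebra A (G i)]
  (hf : ∀ i j (h : i ≤ j), (f i j h).comp (algebraMap A (G i)) = algebraMap A (G j))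
  [Algebra A (Ring.DirectLimit G (fun i j h => f i j h))]
  (hof : ∀ i, (Ring.DirectLimit.of G (fun i j h => f i j h) i).comp (algebraMap A (G i)) =
    algebraMap A (Ring.DirectLimit G (fun i j h => f i j h)))

local notation "RR" => Ring.DirectLimit G (fun i j h => f i j h)

include hf in
/-- The transition maps as `A`-linear maps. -/
def fl (i j : ι) (h : i ≤ j) : G i →ₗ[A] G j :=
  { (f i j h) with
    map_smul' := fun a x => by
      simp only [Algebra.smul_def, RingHom.toMonoidHom_eq_coe, OneHom.toFun_eq_coe,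
        MonoidHom.toOneHom_coe, MonoidHom.coe_coe, map_mul, RingHom.id_apply]
      congr 1
      exact DFunLike.congr_fun (hf i j h) a }

@[simp] theorem fl_apply (i j : ι) (h : i ≤ j) (x : G i) : fl G f A hf i j h x = f i j h x := rfl

include hof in
/-- The maps to the colimit as `A`-linear maps. -/
noncomputable def ofl (i : ι) : G i →ₗ[A] RR :=
  { (Ring.DirectLimit.of G (fun i j h => f i j h) i) with
    map_smul' := fun a x => by
      simp only [Algebra.smul_def, RingHom.toMonoidHom_eq_coe, OneHom.toFun_eq_coe,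
        MonoidHom.toOneHom_coe, MonoidHom.coe_coe, map_mul, RingHom.id_apply]
      congr 1
      exact DFunLike.congr_fun (hof i) a }

@[simp] theorem ofl_apply (i : ι) (x : G i) :
    ofl G f A hof i x = Ring.DirectLimit.of G (fun i j h => f i j h) i x := rfl

instance directedSystem_fl : DirectedSystem G (fun i j h => fl G f A hf i j h) where
  map_self _ x := DirectedSystem.map_self (f := fun i j h => f i j h) x
  map_map _ _ _ hij hjk x := DirectedSystem.map_map (f := fun i j h => f i j h) hij hjk x

theorem fl_self (i : ι) : fl G f A hf i i le_rfl = LinearMap.id := by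
  ext x
  exact DirectedSystem.map_self (f := fun i j h => f i j h) x

theorem fl_comp (i j k : ι) (hij : i ≤ j) (hjk : j ≤ k) :
    fl G f A hf j k hjk ∘ₗ fl G f A hf i j hij = fl G f A hf i k (hij.trans hjk) := by
  ext x
  exact DirectedSystem.map_map (f := fun i j h => f i j h) hij hjk x

variable (C : Type u) [AddCommGroup C] [Module A C]

instance directedSystem_rTensor :
    DirectedSystem (fun i => G i ⊗[A] C) (fun i j h => (fl G f A hf i j h).rTensor C) where
  map_self i x := by
    change (fl G f A hf i i le_rfl).rTensor C x = x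
    rw [fl_self, LinearMap.rTensor_id, LinearMap.id_apply]
  map_map k j i hij hjk x := by
    change (fl G f A hf j k hjk).rTensor C ((fl G f A hf i j hij).rTensor C x) = _
    rw [← LinearMap.comp_apply, ← LinearMap.rTensor_comp, fl_comp]

open Classical in
/-- The comparison map from the module direct limit. -/
noncomputable def ψ : Module.DirectLimit G (fun i j h => fl G f A hf i j h) →ₗ[A] RR :=
  Module.DirectLimit.lift A ι G _ (fun i => ofl G f A hof i) (fun i j hij x => by
    simp only [ofl_apply, fl_apply]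
    exact Ring.DirectLimit.of_f hij x)

open Classical in
theorem ψ_of (i : ι) (x : G i) :
    ψ G f A hf hof (Module.DirectLimit.of A ι G (fun i j h => fl G f A hf i j h) i x) =
      Ring.DirectLimit.of G (fun i j h => f i j h) i x := by
  simp [ψ]

open Classical in
theorem ψ_bijective : Function.Bijective (ψ G f A hf hof) := by
  constructor
  · rw [injective_iff_map_eq_zero]
    intro z hz
    obtain ⟨i, x, rfl⟩ := Module.DirectLimit.exists_of z
    rw [ψ_of] at hz
    obtain ⟨j, hij, hj⟩ := Ring.DirectLimit.of.zero_exact hz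
    rw [← Module.DirectLimit.of_f (hij := hij), fl_apply, hj, map_zero]
  · intro r
    obtain ⟨i, x, rfl⟩ := Ring.DirectLimit.exists_of r
    exact ⟨_, ψ_of G f A hf hof i x⟩

open Classical in
/-- The key lemma: elements of `G i ⊗ C` dying in the colimit die at a finite stage. -/
theorem exists_rTensor_eq_zero (i : ι) (x : G i ⊗[A] C)
    (hx : (ofl G f A hof i).rTensor C x = 0) :
    ∃ (j : ι) (hij : i ≤ j), (fl G f A hf i j hij).rTensor C x = 0 := by
  let e := LinearEquiv.ofBijective (ψ G f A hf hof) (ψ_bijective G f A hf hof)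
  have h1 : ofl G f A hof i = e.toLinearMap ∘ₗ
      Module.DirectLimit.of A ι G (fun i j h => fl G f A hf i j h) i := by
    ext y
    exact (ψ_of G f A hf hof i y).symm
  rw [h1, LinearMap.rTensor_comp, LinearMap.comp_apply] at hx
  have h2 : (Module.DirectLimit.of A ι G (fun i j h => fl G f A hf i j h) i).rTensor C x = 0 := by
    have hinj : Function.Injective (e.toLinearMap.rTensor C) :=
      (e.rTensor C).injective
    exact hinj (by rw [hx, map_zero])
  have h3 := TensorProduct.directLimitLeft_rTensor_of (fun i j h => fl G f A hf i j h) C x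
  rw [h2, map_zero] at h3
  exact Module.DirectLimit.of.zero_exact h3.symm

include hf in
open Classical in
/-- Every element of `RR ⊗ C` comes from a finite stage. -/
theorem exists_rTensor_eq (y : RR ⊗[A] C) :
    ∃ (i : ι) (x : G i ⊗[A] C), (ofl G f A hof i).rTensor C x = y := by
  let e := LinearEquiv.ofBijective (ψ G f A hf hof) (ψ_bijective G f A hf hof)
  have h1 : ∀ i, ofl G f A hof i = e.toLinearMap ∘ₗ
      Module.DirectLimit.of A ι G (fun i j h => fl G f A hf i j h) i := by
    intro i
    ext y
    exact (ψ_of G f A hf hof i y).symm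
  let y' := (e.rTensor C).symm y
  obtain ⟨i, x, hx⟩ := Module.DirectLimit.exists_of
    (TensorProduct.directLimitLeft (fun i j h => fl G f A hf i j h) C y')
  refine ⟨i, x, ?_⟩
  rw [h1, LinearMap.rTensor_comp, LinearMap.comp_apply]
  have h3 := TensorProduct.directLimitLeft_rTensor_of (fun i j h => fl G f A hf i j h) C x
  rw [hx] at h3
  have h4 := (TensorProduct.directLimitLeft (fun i j h => fl G f A hf i j h) C).injective h3
  rw [h4]
  exact (e.rTensor C).apply_symm_apply y

section Algebras

variable (B C : Type u) [CommRing B] [CommRing C] [Algebra A B] [Algebra A C]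

theorem rTensor_fl_one_tmul (i j : ι) (h : i ≤ j) (c : C) :
    (fl G f A hf i j h).rTensor C ((1 : G i) ⊗ₜ[A] c) = (1 : G j) ⊗ₜ[A] c := by
  rw [LinearMap.rTensor_tmul, fl_apply, map_one]

theorem rTensor_ofl_one_tmul (i : ι) (c : C) :
    (ofl G f A hof i).rTensor C ((1 : G i) ⊗ₜ[A] c) = (1 : RR) ⊗ₜ[A] c := by
  rw [LinearMap.rTensor_tmul, ofl_apply, map_one]

include hf hof in
/-- If `1 ⊗ c = 1 ⊗ c'` in `RR ⊗ C` then the same holds at all large enough stages. -/
theorem exists_one_tmul_eq (c c' : C) (h : (1 : RR) ⊗ₜ[A] c = (1 : RR) ⊗ₜ[A] c') :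
    ∃ j : ι, ∀ k, j ≤ k → (1 : G k) ⊗ₜ[A] c = (1 : G k) ⊗ₜ[A] c' := by
  let l : ι := Classical.arbitrary ι
  have h0 : (ofl G f A hof l).rTensor C ((1 : G l) ⊗ₜ[A] c - (1 : G l) ⊗ₜ[A] c') = 0 := by
    rw [map_sub, rTensor_ofl_one_tmul, rTensor_ofl_one_tmul, h, sub_self]
  obtain ⟨j, hlj, hj⟩ := exists_rTensor_eq_zero G f A hf hof C l _ h0
  refine ⟨j, fun k hjk => ?_⟩
  rw [map_sub, rTensor_fl_one_tmul, rTensor_fl_one_tmul, sub_eq_zero] at hj
  have := congrArg ((fl G f A hf j k hjk).rTensor C) hj
  rwa [rTensor_fl_one_tmul, rTensor_fl_one_tmul] at this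

include hf hof in
theorem part1 [Algebra.FiniteType A B] (u u' : B →ₐ[A] C)
    (h : Algebra.TensorProduct.map (AlgHom.id A RR) u =
      Algebra.TensorProduct.map (AlgHom.id A RR) u') :
    ∃ i : ι, Algebra.TensorProduct.map (AlgHom.id A (G i)) u =
      Algebra.TensorProduct.map (AlgHom.id A (G i)) u' := by
  classical
  obtain ⟨t, ht⟩ := (inferInstance : Algebra.FiniteType A B)
  have key : ∀ b : B, ∃ j : ι, ∀ k, j ≤ k → (1 : G k) ⊗ₜ[A] u b = (1 : G k) ⊗ₜ[A] u' b := by
    intro b
    apply exists_one_tmul_eq G f A hf hof C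
    have := congrArg (fun φ => φ ((1 : RR) ⊗ₜ[A] b)) h
    simpa using this
  choose J hJ using key
  obtain ⟨i, hi⟩ := Finset.exists_le (t.image J)
  refine ⟨i, ?_⟩
  have h1 : (Algebra.TensorProduct.includeRight : C →ₐ[A] G i ⊗[A] C).comp u =
      (Algebra.TensorProduct.includeRight : C →ₐ[A] G i ⊗[A] C).comp u' := by
    apply AlgHom.ext_of_adjoin_eq_top ht
    intro b hb
    simp only [AlgHom.comp_apply, Algebra.TensorProduct.includeRight_apply]
    exact hJ b i (hi _ (Finset.mem_image_of_mem J hb))
  apply Algebra.TensorProduct.ext'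
  intro g b
  simp only [Algebra.TensorProduct.map_tmul, AlgHom.id_apply]
  have h2 := congrArg (fun φ => φ b) h1
  simp only [AlgHom.comp_apply, Algebra.TensorProduct.includeRight_apply] at h2
  calc g ⊗ₜ[A] u b = (g ⊗ₜ[A] (1 : C)) * ((1 : G i) ⊗ₜ[A] u b) := by
        rw [Algebra.TensorProduct.tmul_mul_tmul, mul_one, one_mul]
    _ = (g ⊗ₜ[A] (1 : C)) * ((1 : G i) ⊗ₜ[A] u' b) := by rw [h2]
    _ = g ⊗ₜ[A] u' b := by
        rw [Algebra.TensorProduct.tmul_mul_tmul, mul_one, one_mul]

include hf hof in
theorem part2 [Algebra.FiniteType A C] (u : B →ₐ[A] C)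
    (h : Function.Surjective (Algebra.TensorProduct.map (AlgHom.id A RR) u)) :
    ∃ i : ι, Function.Surjective (Algebra.TensorProduct.map (AlgHom.id A (G i)) u) := by
  classical
  obtain ⟨t, ht⟩ := (inferInstance : Algebra.FiniteType A C)
  -- naturality
  have hnat : ∀ (i : ι) (x : G i ⊗[A] B), (ofl G f A hof i).rTensor C
      (Algebra.TensorProduct.map (AlgHom.id A (G i)) u x) =
      Algebra.TensorProduct.map (AlgHom.id A RR) u ((ofl G f A hof i).rTensor B x) := by
    intro i x
    induction x using TensorProduct.induction_on with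
    | zero => simp
    | tmul g b => simp
    | add x y hx hy => simp only [map_add, hx, hy]
  have hnat' : ∀ (i j : ι) (hij : i ≤ j) (x : G i ⊗[A] B), (fl G f A hf i j hij).rTensor C
      (Algebra.TensorProduct.map (AlgHom.id A (G i)) u x) =
      Algebra.TensorProduct.map (AlgHom.id A (G j)) u ((fl G f A hf i j hij).rTensor B x) := by
    intro i j hij x
    induction x using TensorProduct.induction_on with
    | zero => simp
    | tmul g b => simp
    | add x y hx hy => simp only [map_add, hx, hy]
  have key : ∀ c : C, ∃ j : ι, ∀ k, j ≤ k → (1 : G k) ⊗ₜ[A] c ∈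
      Set.range (Algebra.TensorProduct.map (AlgHom.id A (G k)) u) := by
    intro c
    obtain ⟨y, hy⟩ := h ((1 : RR) ⊗ₜ[A] c)
    obtain ⟨i, x, rfl⟩ := exists_rTensor_eq G f A hf hof B y
    have h0 : (ofl G f A hof i).rTensor C
        (Algebra.TensorProduct.map (AlgHom.id A (G i)) u x - (1 : G i) ⊗ₜ[A] c) = 0 := by
      rw [map_sub, hnat, hy, rTensor_ofl_one_tmul, sub_self]
    obtain ⟨j, hij, hj⟩ := exists_rTensor_eq_zero G f A hf hof C i _ h0
    rw [map_sub, hnat', rTensor_fl_one_tmul, sub_eq_zero] at hj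
    refine ⟨j, fun k hjk => ?_⟩
    refine ⟨(fl G f A hf j k hjk).rTensor B ((fl G f A hf i j hij).rTensor B x), ?_⟩
    rw [← hnat', hj, rTensor_fl_one_tmul]
  choose J hJ using key
  obtain ⟨i, hi⟩ := Finset.exists_le (t.image J)
  refine ⟨i, ?_⟩
  set φ := Algebra.TensorProduct.map (AlgHom.id A (G i)) u with hφ
  have hone : ∀ c : C, (1 : G i) ⊗ₜ[A] c ∈ φ.range := by
    intro c
    have hc : c ∈ Algebra.adjoin A (t : Set C) := by rw [ht]; trivial
    have : Algebra.adjoin A (t : Set C) ≤
        φ.range.comap (Algebra.TensorProduct.includeRight : C →ₐ[A] G i ⊗[A] C) := by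
      apply Algebra.adjoin_le
      intro c hc
      exact hJ c i (hi _ (Finset.mem_image_of_mem J hc))
    exact this hc
  intro z
  induction z using TensorProduct.induction_on with
  | zero => exact ⟨0, map_zero _⟩
  | tmul g c =>
    obtain ⟨x, hx⟩ := hone c
    replace hx : φ x = (1 : G i) ⊗ₜ[A] c := hx
    refine ⟨(g ⊗ₜ[A] (1 : B)) * x, ?_⟩
    rw [map_mul, hx, hφ, Algebra.TensorProduct.map_tmul, map_one, AlgHom.id_apply,
      Algebra.TensorProduct.tmul_mul_tmul, mul_one, one_mul]
  | add x y hx hy =>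
    obtain ⟨x', rfl⟩ := hx
    obtain ⟨y', rfl⟩ := hy
    exact ⟨x' + y', map_add _ _ _⟩

end Algebras

end DirLimTensor

end Groth.Agent.H46
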