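import Mathlib
import Groth.Prelude.Def_DerCA
import Groth.Agent.H46.LocCxHomology
import Groth.Agent.H46.ExtCechTorsion

/-!
# Elements acting bijectively on the extended Čech complex
-/

namespace Groth.Agent.H46

open CategoryTheory Limits

universe u

/-- `f` acts bijectively on the module `N`. -/
def ActsBij {R : Type*} [CommRing R] (f : R) (N : Type*) [AddCommGroup N] [Module R N] : Prop :=
  Function.Bijective (fun m : N => f • m)

namespace ActsBij

variable {R : Type*} [CommRing R] {f : R} {N N' : Type*} [AddCommGroup N] [Module R N]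
  [AddCommGroup N'] [Module R N']

theorem of_linearEquiv (e : N ≃ₗ[R] N') (h : ActsBij f N) : ActsBij f N' := by
  constructor
  · intro a b hab
    apply e.symm.injective
    apply h.1
    change f • e.symm a = f • e.symm b
    rw [← map_smul, ← map_smul]
    exact congrArg e.symm hab
  · intro a
    obtain ⟨b, hb⟩ := h.2 (e.symm a)
    refine ⟨e b, ?_⟩
    change f • e b = a
    rw [← map_smul]
    change e (f • b) = a
    have hb' : f • b = e.symm a := hb
    rw [hb']
    simp

theorem of_subsingleton [Subsingleton N] : ActsBij f N :=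
  ⟨fun _ _ _ => Subsingleton.elim _ _, fun a => ⟨a, Subsingleton.elim _ _⟩⟩

theorem prod (h : ActsBij f N) (h' : ActsBij f N') : ActsBij f (N × N') := by
  constructor
  · rintro ⟨a, a'⟩ ⟨b, b'⟩ hab
    have h1 : f • a = f • b := congrArg Prod.fst hab
    have h2 : f • a' = f • b' := congrArg Prod.snd hab
    exact Prod.ext (h.1 h1) (h'.1 h2)
  · rintro ⟨a, a'⟩
    obtain ⟨b, hb⟩ := h.2 a
    obtain ⟨b', hb'⟩ := h'.2 a'
    exact ⟨(b, b'), Prod.ext hb hb'⟩

theorem localizedModule (S : Submonoid R) (h : ActsBij f N) :
    ActsBij f (LocalizedModule S N) := by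
  constructor
  · intro a b
    induction a using LocalizedModule.induction_on with
    | h m s =>
    induction b using LocalizedModule.induction_on with
    | h m' s' =>
    intro hab
    change f • LocalizedModule.mk m s = f • LocalizedModule.mk m' s' at hab
    rw [LocalizedModule.smul'_mk, LocalizedModule.smul'_mk, LocalizedModule.mk_eq] at hab
    obtain ⟨u, hu⟩ := hab
    rw [LocalizedModule.mk_eq]
    refine ⟨u, ?_⟩
    apply h.1
    change f • u • s' • m = f • u • s • m'
    have e1 : f • u • s' • m = u • s' • f • m := by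
      rw [smul_comm f u, smul_comm f s']
    have e2 : f • u • s • m' = u • s • f • m' := by
      rw [smul_comm f u, smul_comm f s]
    rw [e1, e2]
    exact hu
  · intro a
    induction a using LocalizedModule.induction_on with
    | h m s =>
    obtain ⟨m', hm'⟩ := h.2 m
    refine ⟨LocalizedModule.mk m' s, ?_⟩
    change f • LocalizedModule.mk m' s = _
    rw [LocalizedModule.smul'_mk]
    have : f • m' = m := hm'
    rw [this]

theorem pow (h : ActsBij f N) (k : ℕ) : ActsBij (f ^ k) N := by
  induction k with
  | zero =>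
    have : (fun m : N => f ^ 0 • m) = id := by
      ext m; simp
    rw [ActsBij, this]
    exact Function.bijective_id
  | succ k ih =>
    have : (fun m : N => f ^ (k + 1) • m) = (fun m => f ^ k • m) ∘ (fun m => f • m) := by
      ext m; simp [pow_succ, mul_smul]
    rw [ActsBij, this]
    exact ih.comp h

end ActsBij

theorem exists_pow_smul_eq_zero_of_mem_span {R : Type*} [CommRing R] {N : Type*}
    [AddCommGroup N] [Module R N] (x : N) (s : Set R) (h : ∀ g ∈ s, ∃ n : ℕ, g ^ n • x = 0)
    (f : R) (hf : f ∈ Ideal.span s) : ∃ n : ℕ, f ^ n • x = 0 := by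
  let J : Ideal R := LinearMap.ker (LinearMap.toSpanSingleton R N x)
  have hJ : ∀ r : R, r ∈ J ↔ r • x = 0 := fun r => by
    simp [J, LinearMap.mem_ker, LinearMap.toSpanSingleton_apply]
  have h1 : Ideal.span s ≤ J.radical := by
    rw [Ideal.span_le]
    intro g hg
    obtain ⟨n, hn⟩ := h g hg
    exact ⟨n, (hJ _).mpr hn⟩
  obtain ⟨n, hn⟩ := h1 hf
  exact ⟨n, (hJ _).mp hn⟩

theorem mkLinearMap_bijective_of_actsBij {R : Type*} [CommRing R] (S : Submonoid R)
    (N : Type*) [AddCommGroup N] [Module R N] (hS : ∀ s ∈ S, ActsBij s N) :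
    Function.Bijective (LocalizedModule.mkLinearMap S N) := by
  constructor
  · intro a b hab
    rw [LocalizedModule.mkLinearMap_apply, LocalizedModule.mkLinearMap_apply,
      LocalizedModule.mk_eq] at hab
    obtain ⟨u, hu⟩ := hab
    simp only [one_smul] at hu
    exact (hS u u.2).1 hu
  · intro x
    induction x using LocalizedModule.induction_on with
    | h m s =>
      obtain ⟨m', hm'⟩ := (hS s s.2).2 m
      refine ⟨m', ?_⟩
      rw [LocalizedModule.mkLinearMap_apply, LocalizedModule.mk_eq]
      refine ⟨1, ?_⟩
      simp only [one_smul]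
      exact hm'

variable {R : Type u} [CommRing R]

theorem actsBij_extCech_X (f : R) (M : ModuleCat.{u} R) (hM : ActsBij f M) :
    ∀ (fs : List R) (n : ℤ), ActsBij f ((DerCA.extCech M fs).X n) := by
  intro fs
  induction fs with
  | nil =>
    intro n
    by_cases hn : n = 0
    · subst hn
      exact hM.of_linearEquiv
        (HomologicalComplex.singleObjXSelf (ComplexShape.up ℤ) 0 M).symm.toLinearEquiv
    · have h0 := HomologicalComplex.isZero_single_obj_X (ComplexShape.up ℤ) 0 M n hn
      have : Subsingleton ((DerCA.extCech M []).X n) := ModuleCat.subsingleton_of_isZero h0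
      exact ActsBij.of_subsingleton
  | cons g fs ih =>
    intro n
    have e := DerCA.mappingCoconeXIso
      (DerCA.locCxUnit (Submonoid.powers g) (DerCA.extCech M fs)) n ≪≫ ModuleCat.biprodIsoProd _ _
    refine ActsBij.of_linearEquiv e.symm.toLinearEquiv ?_
    exact (ih n).prod ((ih (n - 1)).localizedModule _)

theorem isZero_extCechH_of_actsBij (fs : List R) (M : ModuleCat.{u} R) (f : R)
    (hf : f ∈ Ideal.span {a : R | a ∈ fs}) (hbij : ActsBij f M) (q : ℤ) :
    IsZero ((DerCA.extCech M fs).homology q) := by
  set K := DerCA.extCech M fs with hK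
  set S := Submonoid.powers f with hS'
  have hS : ∀ n, ∀ s ∈ S, ActsBij s (K.X n) := by
    rintro n s ⟨k, rfl⟩
    exact (actsBij_extCech_X f M hbij fs n).pow k
  have h1 : ∀ n, IsIso ((DerCA.locCxUnit S K).f n) := fun n =>
    (ConcreteCategory.isIso_iff_bijective _).mpr (mkLinearMap_bijective_of_actsBij S _ (hS n))
  have h2 : IsIso (DerCA.locCxUnit S K) := HomologicalComplex.Hom.isIso_of_components _
  have hiso : IsIso (HomologicalComplex.homologyMap (DerCA.locCxUnit S K) q) := inferInstance
  have hinj : Function.Injective (HomologicalComplex.homologyMap (DerCA.locCxUnit S K) q) :=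
    ((ConcreteCategory.isIso_iff_bijective _).mp hiso).1
  have hloc := isLocalizedModule_homologyMap_locCxUnit S K q
  rw [ModuleCat.isZero_iff_subsingleton]
  suffices h : ∀ x : K.homology q, x = 0 from ⟨fun x y => (h x).trans (h y).symm⟩
  intro x
  obtain ⟨n, hn⟩ := exists_pow_smul_eq_zero_of_mem_span x {a : R | a ∈ fs}
    (fun g hg => extCech_homology_torsion M fs g hg q x) f hf
  apply hinj
  rw [map_zero]
  exact (IsLocalizedModule.eq_zero_iff S _).mpr ⟨⟨f ^ n, n, rfl⟩, hn⟩

end Groth.Agent.H46
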