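import Mathlib
import Groth.Prelude.Def_LCI2
import Groth.Prelude.Def_ega3
import Groth.Agent.H79.KoszulMinGen
import Groth.Agent.H94.RegDescentKoszul

/-!
# Powers of a Koszul-regular sequence are Koszul-regular
-/

set_option autoImplicit false
universe u

open CategoryTheory CategoryTheory.Limits CochainComplex Pretriangulated

namespace Groth.Agent.H46.KoszulPowers

variable {A : Type u} [CommRing A]

/-- Octahedral step: if the cones of `g` and `h` on `K` are acyclic in degree `i`, so is the cone
of `g * h`. -/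
theorem isZero_homology_cone_mul (K : CochainComplex (ModuleCat.{u} A) ℤ) (g h : A) (i : ℤ)
    (hg : IsZero ((mappingCone (g • 𝟙 K)).homology i))
    (hh : IsZero ((mappingCone (h • 𝟙 K)).homology i)) :
    IsZero ((mappingCone ((g * h) • 𝟙 K)).homology i) := by
  have hcomp : (g • 𝟙 K) ≫ (h • 𝟙 K) = (g * h) • 𝟙 K := by
    rw [Linear.smul_comp, Category.id_comp, smul_smul]
  rw [← hcomp]
  have hT := HomotopyCategory.mappingConeCompTriangleh_distinguished (g • 𝟙 K) (h • 𝟙 K)
  have hex := (HomotopyCategory.homologyFunctor (ModuleCat.{u} A) (ComplexShape.up ℤ)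
    i).map_distinguished_exact _ hT
  have e := HomotopyCategory.homologyFunctorFactors (ModuleCat.{u} A) (ComplexShape.up ℤ) i
  have h1 : IsZero ((HomotopyCategory.homologyFunctor (ModuleCat.{u} A) (ComplexShape.up ℤ) i).obj
      (mappingConeCompTriangleh (g • 𝟙 K) (h • 𝟙 K)).obj₁) :=
    (e.app (mappingCone (g • 𝟙 K))).isZero_iff.mpr hg
  have h3 : IsZero ((HomotopyCategory.homologyFunctor (ModuleCat.{u} A) (ComplexShape.up ℤ) i).obj
      (mappingConeCompTriangleh (g • 𝟙 K) (h • 𝟙 K)).obj₃) :=
    (e.app (mappingCone (h • 𝟙 K))).isZero_iff.mpr hh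
  have h2 := hex.isZero_of_both_zeros (h1.eq_of_src _ _) (h3.eq_of_tgt _ _)
  exact (e.app (mappingCone ((g • 𝟙 K) ≫ (h • 𝟙 K)))).isZero_iff.mp h2

/-- Koszul-regularity phrased with `CohIII.koszulCx`. -/
def KR (l : List A) : Prop :=
  ∀ i : ℤ, i ≠ 0 → IsZero ((CohIII.koszulCx (ModuleCat.of A A) l).homology i)

theorem kr_iff (l : List A) : LCI.IsKoszulRegularSeq A l ↔ KR l := by
  constructor
  · intro h i hi
    have h1 : IsZero ((Koszul.koszul A l).homology i) := h i hi
    rwa [Groth.Agent.H79.KoszulCone.koszul_eq] at h1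
  · intro h i hi
    show IsZero ((Koszul.koszul A l).homology i)
    rw [Groth.Agent.H79.KoszulCone.koszul_eq]
    exact h i hi

theorem kr_head_mul (g h : A) (t : List A) (hg : KR (g :: t)) (hh : KR (h :: t)) :
    KR ((g * h) :: t) :=
  fun i hi => isZero_homology_cone_mul _ g h i (hg i hi) (hh i hi)

theorem kr_head_pow (x : A) (t : List A) (h : KR (x :: t)) (n : ℕ) : KR (x ^ n :: t) := by
  induction n with
  | zero =>
    rw [pow_zero, ← kr_iff]
    apply Groth.Agent.H94.RegDescent.koszul_unit
    rw [Ideal.eq_top_iff_one]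
    exact Ideal.subset_span (List.mem_cons_self ..)
  | succ n ih =>
    rw [pow_succ]
    exact kr_head_mul _ _ t ih h

theorem kr_rotate (a b : List A) (h : KR (a ++ b)) : KR (b ++ a) := by
  obtain ⟨e⟩ := Groth.Agent.H79.KoszulMinGen.nonempty_iso_append_comm (ModuleCat.of A A) a b
  intro i hi
  exact ((HomologicalComplex.homologyFunctor (ModuleCat.{u} A) (ComplexShape.up ℤ) i).mapIso
    e).isZero_iff.mp (h i hi)

theorem kr_map_pow_aux (n : ℕ) : ∀ (a b : List A), KR (a ++ b) → KR (b ++ a.map (· ^ n)) := by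
  intro a
  induction a with
  | nil =>
    intro b h
    simpa using h
  | cons x a ih =>
    intro b h
    have h1 : KR (x ^ n :: (a ++ b)) := kr_head_pow x (a ++ b) h n
    have h2 : KR ((a ++ b) ++ [x ^ n]) := kr_rotate [x ^ n] (a ++ b) h1
    rw [List.append_assoc] at h2
    have h3 := ih (b ++ [x ^ n]) h2
    rw [List.append_assoc] at h3
    exact h3

/-- Powers of a Koszul-regular sequence form a Koszul-regular sequence. -/
theorem isKoszulRegularSeq_map_pow (l : List A) (h : LCI.IsKoszulRegularSeq A l) (n : ℕ) :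
    LCI.IsKoszulRegularSeq A (l.map (· ^ n)) := by
  rw [kr_iff] at h ⊢
  have := kr_map_pow_aux n l [] (by simpa using h)
  simpa using this

end Groth.Agent.H46.KoszulPowers
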