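import Mathlib
import Groth.Prelude.Def_DerCA
import Groth.Agent.H46.KoszulPowers
import Groth.Agent.H88.KoszulLimCech

/-!
# The extended Čech complex of a Koszul-regular sequence has cohomology only in top degree
-/

set_option autoImplicit false
set_option linter.style.haveILetI false
universe u

open CategoryTheory CategoryTheory.Limits

namespace Groth.Agent.H46.ExtCechKoszul

variable {R : Type u} [CommRing R]

/-- The extended Čech complex vanishes in negative degrees. -/
theorem isZero_extCech_X_of_neg (M : ModuleCat.{u} R) :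
    ∀ (fs : List R) (n : ℤ), n < 0 → IsZero ((DerCA.extCech M fs).X n) := by
  intro fs
  induction fs with
  | nil =>
    intro n hn
    exact HomologicalComplex.isZero_single_obj_X (ComplexShape.up ℤ) 0 _ n (by omega)
  | cons f fs ih =>
    intro n hn
    change IsZero ((CochainComplex.mappingCocone
      (DerCA.locCxUnit (Submonoid.powers f) (DerCA.extCech M fs))).X n)
    refine IsZero.of_iso ?_ (DerCA.mappingCoconeXIso _ n)
    have h1 := ih n hn
    have h2 : IsZero (((DerCA.locCx (Submonoid.powers f)).obj (DerCA.extCech M fs)).X (n - 1)) :=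
      (DerCA.locFunctor (Submonoid.powers f)).map_isZero (ih (n - 1) (by omega))
    rw [IsZero.iff_id_eq_zero]
    apply biprod.hom_ext
    · exact h1.eq_of_tgt _ _
    · exact h2.eq_of_tgt _ _

theorem main (fs : List R) (hfs : LCI.IsKoszulRegularSeq R fs) (q : ℤ)
    (hq : q ≠ (fs.length : ℤ)) :
    IsZero (DerCA.extCechH fs (ModuleCat.of R R) q) := by
  by_cases hneg : q < 0
  · exact (HomologicalComplex.ExactAt.of_isZero
      (isZero_extCech_X_of_neg (ModuleCat.of R R) fs q hneg)).isZero_homology
  · obtain ⟨p, rfl⟩ : ∃ p : ℕ, q = (p : ℤ) := ⟨q.toNat, by omega⟩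
    obtain ⟨e⟩ := Groth.Agent.H88.nonempty_koszulHLim_equiv_extCechH fs (ModuleCat.of R R) p
    have hsub : ∀ n : ℕ, Subsingleton (CohIII.koszulHPow fs (ModuleCat.of R R) p n) := by
      intro n
      have h1 := (Groth.Agent.H46.KoszulPowers.kr_iff _).mp
        (Groth.Agent.H46.KoszulPowers.isKoszulRegularSeq_map_pow fs hfs n)
      have h2 := h1 ((p : ℤ) - fs.length) (by omega)
      exact ModuleCat.subsingleton_of_isZero h2
    haveI : Subsingleton (CohIII.koszulHLim fs (ModuleCat.of R R) p) := by
      unfold CohIII.koszulHLim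
      refine ⟨fun x y => ?_⟩
      obtain ⟨i, x, rfl⟩ := Module.DirectLimit.exists_of x
      obtain ⟨j, y, rfl⟩ := Module.DirectLimit.exists_of y
      rw [Subsingleton.elim x 0, Subsingleton.elim y 0, map_zero, map_zero]
    haveI : Subsingleton ((DerCA.extCech (ModuleCat.of R R) fs).homology (p : ℤ)) :=
      e.symm.toEquiv.subsingleton
    exact ModuleCat.isZero_of_subsingleton _

end Groth.Agent.H46.ExtCechKoszul
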