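import Mathlib
import Groth.Agent.H24.FPDescent

/-!
# Finitely presented modules over `S⁻¹(R/I)` descend to `R`
-/

open TensorProduct

namespace Groth.Agent.H46

universe u

/-- `M → M/IM` is the base change along `R → R/I`. -/
theorem isBaseChange_mkQ_smul_top {R : Type*} [CommRing R] (I : Ideal R) (M : Type*)
    [AddCommGroup M] [Module R M] :
    IsBaseChange (R ⧸ I) (I • ⊤ : Submodule R M).mkQ := by
  refine IsBaseChange.of_equiv
    ((quotTensorEquivQuotSMul M I).extendScalarsOfSurjective Ideal.Quotient.mk_surjective) ?_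
  intro x
  exact quotTensorEquivQuotSMul_mk_one_tmul I x

theorem exists_fp_descent_loc_quot (R : Type u) [CommRing R] (I : Ideal R)
    (S : Submonoid R) (M' : Type u) [AddCommGroup M']
    [Module (Localization (S.map (Ideal.Quotient.mk I))) M']
    [Module.FinitePresentation (Localization (S.map (Ideal.Quotient.mk I))) M'] :
    ∃ (M : Type u) (_ : AddCommGroup M) (_ : Module R M), Module.FinitePresentation R M ∧
      Nonempty (LocalizedModule (S.map (Ideal.Quotient.mk I)) (M ⧸ (I • ⊤ : Submodule R M))
        ≃ₗ[Localization (S.map (Ideal.Quotient.mk I))] M') := by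
  classical
  let S' : Submonoid (R ⧸ I) := S.map (Ideal.Quotient.mk I)
  let R' := Localization S'
  obtain ⟨n, K, e, hK⟩ := Module.FinitePresentation.exists_fin R' M'
  obtain ⟨s, hs⟩ := hK
  -- clear denominators
  let T : Finset R' := s.biUnion fun v => Finset.univ.image fun a => v a
  obtain ⟨b, hb⟩ := IsLocalization.exist_integer_multiples_of_finset S' T
  have hbunit : IsUnit (algebraMap (R ⧸ I) R' b) := IsLocalization.map_units R' b
  let s' : Finset (Fin n → R') := s.image fun v => (algebraMap (R ⧸ I) R' b) • v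
  have hs' : Submodule.span R' (s' : Set (Fin n → R')) = K := by
    rw [← hs]
    apply le_antisymm
    · rw [Submodule.span_le]
      intro w hw
      simp only [s', Finset.coe_image, Set.mem_image] at hw
      obtain ⟨v, hv, rfl⟩ := hw
      exact Submodule.smul_mem _ _ (Submodule.subset_span hv)
    · rw [Submodule.span_le]
      intro v hv
      obtain ⟨c, hc⟩ := hbunit.exists_left_inv
      have : v = c • ((algebraMap (R ⧸ I) R' b) • v) := by
        rw [smul_smul, hc, one_smul]
      rw [this]
      refine Submodule.smul_mem _ _ (Submodule.subset_span ?_)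
      simp only [s', Finset.coe_image, Set.mem_image]
      exact ⟨v, hv, rfl⟩
  have hint : ∀ (w : s') (a : Fin n), ∃ r : R, algebraMap R R' r = w.1 a := by
    intro w a
    obtain ⟨v, hv, hvw⟩ := Finset.mem_image.mp w.2
    have hmem : v a ∈ T := by
      simp only [T, Finset.mem_biUnion, Finset.mem_image, Finset.mem_univ, true_and]
      exact ⟨v, hv, a, rfl⟩
    obtain ⟨q, hq⟩ := hb (v a) hmem
    obtain ⟨r, rfl⟩ := Ideal.Quotient.mk_surjective q
    refine ⟨r, ?_⟩
    rw [← hvw, Pi.smul_apply, smul_eq_mul, ← Algebra.smul_def, ← hq]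
    rfl
  choose ρ hρ using hint
  obtain ⟨hfp, ⟨e₁⟩⟩ := Groth.Agent.H24.exists_equiv_tensor_of_lift (R := R) K e s' hs' ρ hρ
  set M₀ := (Fin n → R) ⧸ LinearMap.range (Fintype.linearCombination R ρ) with hM₀
  refine ⟨M₀, inferInstance, inferInstance, hfp, ?_⟩
  have hb1 : IsBaseChange (R ⧸ I) (I • ⊤ : Submodule R M₀).mkQ := isBaseChange_mkQ_smul_top I M₀
  have hb2 : IsBaseChange R' (LocalizedModule.mkLinearMap S' (M₀ ⧸ (I • ⊤ : Submodule R M₀))) :=
    IsLocalizedModule.isBaseChange S' R' _
  have hb3 := hb1.comp hb2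
  exact ⟨hb3.equiv.symm ≪≫ₗ e₁.symm⟩

end Groth.Agent.H46
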