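import Mathlib
import Groth.Agent.H24.DirColimUnder

/-!
# A finite type algebra is a directed colimit of finitely presented algebras with surjective
transition maps
-/

set_option autoImplicit false
universe u
open CategoryTheory CategoryTheory.Limits

namespace Groth.Agent.H46

namespace FTColim

variable {R : Type u} [CommRing R] {P A : Type u} [CommRing P] [CommRing A] [Algebra R P]
  [Algebra R A] (f : P →ₐ[R] A)

/-- Finitely generated ideals contained in the kernel. -/
abbrev Idx : Type u := {I : Ideal P // I.FG ∧ I ≤ RingHom.ker f.toRingHom}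

instance : Nonempty (Idx f) := ⟨⟨⊥, Submodule.fg_bot, bot_le⟩⟩

instance : IsDirected (Idx f) (· ≤ ·) :=
  ⟨fun I J => ⟨⟨I.1 ⊔ J.1, Submodule.FG.sup I.2.1 J.2.1, sup_le I.2.2 J.2.2⟩, le_sup_left (a := I.1),
    le_sup_right (b := J.1)⟩⟩

/-- The map `P ⧸ I → A`. -/
noncomputable def toA (I : Idx f) : P ⧸ I.1 →+* A :=
  Ideal.Quotient.lift I.1 f.toRingHom (fun _ ha => RingHom.mem_ker.1 (I.2.2 ha))

@[simp]
theorem toA_mk (I : Idx f) (x : P) : toA f I (Ideal.Quotient.mk I.1 x) = f x := rfl

/-- The diagram of quotients. -/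
noncomputable def diag : Idx f ⥤ Under (CommRingCat.of R) where
  obj I := Under.mk (CommRingCat.ofHom (algebraMap R (P ⧸ I.1)))
  map {I J} h := Under.homMk (CommRingCat.ofHom (Ideal.Quotient.factor (leOfHom h))) (by
    ext x
    change (Ideal.Quotient.factor (leOfHom h)) ((algebraMap R (P ⧸ I.1)) x) =
      (algebraMap R (P ⧸ J.1)) x
    rw [IsScalarTower.algebraMap_apply R P (P ⧸ I.1), IsScalarTower.algebraMap_apply R P (P ⧸ J.1),
      Ideal.Quotient.algebraMap_eq, Ideal.Quotient.algebraMap_eq, Ideal.Quotient.factor_mk])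
  map_id I := by
    ext x
    obtain ⟨x, rfl⟩ := Ideal.Quotient.mk_surjective x
    simp
  map_comp {I J K} h h' := by
    ext x
    obtain ⟨x, rfl⟩ := Ideal.Quotient.mk_surjective x
    simp

/-- The cocone with point `A`. -/
noncomputable def cocone : Cocone (diag f) where
  pt := Under.mk (CommRingCat.ofHom (algebraMap R A))
  ι :=
    { app := fun I => Under.homMk (CommRingCat.ofHom (toA f I)) (by
          ext x
          change (toA f I) ((algebraMap R (P ⧸ I.1)) x) = (algebraMap R A) x
          rw [IsScalarTower.algebraMap_apply R P (P ⧸ I.1), Ideal.Quotient.algebraMap_eq,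
            toA_mk]
          exact f.commutes x)
      naturality := fun I J h => by
        ext x
        obtain ⟨x, rfl⟩ := Ideal.Quotient.mk_surjective x
        change (toA f J) (Ideal.Quotient.factor (leOfHom h) (Ideal.Quotient.mk I.1 x)) =
          (toA f I) (Ideal.Quotient.mk I.1 x)
        rw [Ideal.Quotient.factor_mk, toA_mk, toA_mk] }

theorem nonempty_isColimit (hf : Function.Surjective f) : Nonempty (IsColimit (cocone f)) := by
  refine Groth.Agent.H24.isColimit_under_of_directed (diag f) (cocone f) ?_ ?_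
  · intro s
    obtain ⟨p, rfl⟩ := hf s
    refine ⟨⟨⊥, Submodule.fg_bot, bot_le⟩, Ideal.Quotient.mk _ p, ?_⟩
    rfl
  · intro I x y hxy
    obtain ⟨x, rfl⟩ := Ideal.Quotient.mk_surjective x
    obtain ⟨y, rfl⟩ := Ideal.Quotient.mk_surjective y
    have hxy' : f x = f y := by
      exact hxy
    have hmem : x - y ∈ RingHom.ker f.toRingHom := by
      rw [RingHom.mem_ker]
      simp [hxy']
    refine ⟨⟨I.1 ⊔ Ideal.span {x - y}, Submodule.FG.sup I.2.1 (Submodule.fg_span_singleton _),
      sup_le I.2.2 ((Ideal.span_singleton_le_iff_mem _).2 hmem)⟩, le_sup_left (a := I.1), ?_⟩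
    have hle : I.1 ≤ I.1 ⊔ Ideal.span {x - y} := le_sup_left
    change Ideal.Quotient.factor hle (Ideal.Quotient.mk I.1 x) =
      Ideal.Quotient.factor hle (Ideal.Quotient.mk I.1 y)
    rw [Ideal.Quotient.factor_mk, Ideal.Quotient.factor_mk, Ideal.Quotient.eq]
    exact Ideal.mem_sup_right (Ideal.mem_span_singleton_self _)

end FTColim

theorem exists_filteredColimit_fp_surjective (R A : Type u) [CommRing R] [CommRing A]
    [Algebra R A] [Algebra.FiniteType R A] :
    ∃ (I : Type u) (_ : SmallCategory I) (_ : IsFiltered I) (D : I ⥤ Under (CommRingCat.of R))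
      (c : Cocone D) (_ : IsColimit c),
      (∀ i, (D.obj i).hom.hom.FinitePresentation) ∧
      (∀ (i j : I) (φ : i ⟶ j), Function.Surjective (D.map φ).right.hom) ∧
      Nonempty (c.pt ≅ Under.mk (CommRingCat.ofHom (algebraMap R A))) := by
  obtain ⟨n, f, hf⟩ := Algebra.FiniteType.iff_quotient_mvPolynomial''.mp
    (inferInstance : Algebra.FiniteType R A)
  obtain ⟨hc⟩ := FTColim.nonempty_isColimit f hf
  refine ⟨FTColim.Idx f, inferInstance, inferInstance, FTColim.diag f, FTColim.cocone f, hc,
    ?_, ?_, ⟨Iso.refl _⟩⟩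
  · intro I
    change (algebraMap R (MvPolynomial (Fin n) R ⧸ I.1)).FinitePresentation
    rw [RingHom.finitePresentation_algebraMap]
    exact Algebra.FinitePresentation.quotient I.2.1
  · intro I J φ
    exact Ideal.Quotient.factor_surjective (leOfHom φ)

end Groth.Agent.H46
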