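import Mathlib
import Groth.Prelude.Def_Flat
import Groth.Agent.H17.Chev.Closed

/-!
# Fibre dimension of closed subschemes, in terms of the ambient space
-/

set_option autoImplicit false
universe u
open CategoryTheory CategoryTheory.Limits AlgebraicGeometry TopologicalSpace Topology

namespace Groth.Agent.H46.FibreDimClosed

theorem localDim_subtype_mono {B : Type*} [TopologicalSpace B] {S S' : Set B} (h : S ⊆ S') (b : B)
    (hb : b ∈ S) : FlatMor.localDim ↥S ⟨b, hb⟩ ≤ FlatMor.localDim ↥S' ⟨b, h hb⟩ := by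
  unfold FlatMor.localDim
  refine le_iInf fun V' => ?_
  have hcont : Continuous (Set.inclusion h) := continuous_inclusion h
  let V : Opens ↥S := ⟨Set.inclusion h ⁻¹' (V'.1 : Set ↥S'), V'.1.isOpen.preimage hcont⟩
  refine iInf_le_of_le ⟨V, V'.2⟩ ?_
  let g : ↥(V : Set ↥S) → ↥(V'.1 : Set ↥S') := fun t => ⟨Set.inclusion h t.1, t.2⟩
  have hg : IsInducing g := by
    have h1 : IsInducing (fun t : ↥(V : Set ↥S) => (Set.inclusion h t.1)) :=
      (IsEmbedding.inclusion h).isInducing.comp IsInducing.subtypeVal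
    exact IsInducing.of_comp (by fun_prop) continuous_subtype_val h1
  exact hg.topologicalKrullDim_le

theorem localDim_congr_set {B : Type*} [TopologicalSpace B] {S S' : Set B} (h : S = S') (b : B)
    (hb : b ∈ S) (hb' : b ∈ S') : FlatMor.localDim ↥S ⟨b, hb⟩ = FlatMor.localDim ↥S' ⟨b, hb'⟩ := by
  subst h
  rfl

variable {W X S : Scheme.{u}}

/-- The local fibre dimension of `W → X → S` for an embedding `W → X`, computed inside `X`. -/
theorem fibreDimAt_comp_eq (j : W ⟶ X) (hj : IsEmbedding j.base) (f : X ⟶ S) (w : W) :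
    FlatMor.fibreDimAt (j ≫ f) w =
      FlatMor.localDim ↥(Set.range j.base ∩ f.base ⁻¹' {f.base (j.base w)})
        ⟨j.base w, ⟨w, rfl⟩, rfl⟩ := by
  rw [Groth.Agent.H17.Chev.fibreDimAt_eq]
  let A : Set W := (j ≫ f).base ⁻¹' {(j ≫ f).base w}
  let B : Set X := Set.range j.base ∩ f.base ⁻¹' {f.base (j.base w)}
  let ψ : ↥A → ↥B := fun v => ⟨j.base v.1, ⟨v.1, rfl⟩, v.2⟩
  have hψi : IsInducing ψ := by
    have h1 : IsInducing (fun v : ↥A => j.base v.1) := hj.isInducing.comp IsInducing.subtypeVal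
    exact IsInducing.of_comp (by
      exact (j.continuous.comp continuous_subtype_val).subtype_mk _) continuous_subtype_val h1
  have hψinj : Function.Injective ψ := by
    intro a b hab
    apply Subtype.ext
    apply hj.injective
    exact congrArg Subtype.val hab
  have hψsurj : Function.Surjective ψ := by
    rintro ⟨x, ⟨v, rfl⟩, hx⟩
    exact ⟨⟨v, hx⟩, rfl⟩
  have hemb : IsEmbedding ψ := ⟨hψi, hψinj⟩
  have hoe : IsOpenEmbedding ψ := (hemb.toHomeomorphOfSurjective hψsurj).isOpenEmbedding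
  exact Groth.Agent.H17.Chev.localDim_eq_of_isOpenEmbedding hoe ⟨w, rfl⟩

end Groth.Agent.H46.FibreDimClosed
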