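import Mathlib
import Groth.Prelude.Def_Flat
import Groth.Agent.H20.ClosedLimit
import Groth.Agent.H46.FibreDimClosed

/-!
# Enlarging a closed subscheme with bounded fibre dimension to a finitely presented one
-/

set_option autoImplicit false
universe u
open CategoryTheory CategoryTheory.Limits AlgebraicGeometry TopologicalSpace Topology

namespace Groth.Agent.H46.FibreDimClosedFP

open Groth.Agent.H46.FibreDimClosed Groth.Agent.H17.Chev Groth.Agent.H20.ClosedLimit
  Groth.Agent.H20.IdealDirected Scheme.IdealSheafData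

variable {X S : Scheme.{u}} (f : X ⟶ S) (d : ℕ)

/-- Points of `V(I)` where the fibre of `V(I) → S` has local dimension `> d`. -/
def bad (I : X.IdealSheafData) : Set X :=
  I.subschemeι.base '' {x | ((d + 1 : ℕ) : WithBot ℕ∞) ≤ FlatMor.fibreDimAt (I.subschemeι ≫ f) x}

theorem isClosed_bad [LocallyOfFiniteType f] (I : X.IdealSheafData) : IsClosed (bad f d I) :=
  I.subschemeι.isClosedEmbedding.isClosedMap _
    (isClosed_setOf_le_fibreDimAt (I.subschemeι ≫ f) (d + 1))

theorem range_subschemeι' (I : X.IdealSheafData) :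
    Set.range I.subschemeι.base = (I.support : Set X) := I.range_subschemeι

theorem mem_bad_iff (I : X.IdealSheafData) (x : X) :
    x ∈ bad f d I ↔ ∃ hx : x ∈ (I.support : Set X), ((d + 1 : ℕ) : WithBot ℕ∞) ≤
      FlatMor.localDim ↥((I.support : Set X) ∩ f.base ⁻¹' {f.base x}) ⟨x, hx, rfl⟩ := by
  constructor
  · rintro ⟨w, hw, rfl⟩
    have hmem : I.subschemeι.base w ∈ (I.support : Set X) := by
      rw [← range_subschemeι']; exact ⟨w, rfl⟩
    refine ⟨hmem, ?_⟩
    change _ ≤ FlatMor.fibreDimAt (I.subschemeι ≫ f) w at hw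
    rw [fibreDimAt_comp_eq I.subschemeι I.subschemeι.isEmbedding f w] at hw
    have hset : Set.range I.subschemeι.base ∩ f.base ⁻¹' {f.base (I.subschemeι.base w)} =
        (I.support : Set X) ∩ f.base ⁻¹' {f.base (I.subschemeι.base w)} := by
      rw [range_subschemeι']
    exact hw.trans_eq (localDim_congr_set hset _ _ _)
  · rintro ⟨hx, h⟩
    have hx' : x ∈ Set.range I.subschemeι.base := by rw [range_subschemeι']; exact hx
    obtain ⟨w, rfl⟩ := hx'
    refine ⟨w, ?_, rfl⟩
    change _ ≤ FlatMor.fibreDimAt (I.subschemeι ≫ f) w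
    rw [fibreDimAt_comp_eq I.subschemeι I.subschemeι.isEmbedding f w]
    have hset : Set.range I.subschemeι.base ∩ f.base ⁻¹' {f.base (I.subschemeι.base w)} =
        (I.support : Set X) ∩ f.base ⁻¹' {f.base (I.subschemeι.base w)} := by
      rw [range_subschemeι']
    exact h.trans_eq (localDim_congr_set hset _ _ _).symm

theorem bad_antitone {I I' : X.IdealSheafData} (h : I ≤ I') : bad f d I' ⊆ bad f d I := by
  intro x hx
  rw [mem_bad_iff] at hx ⊢
  obtain ⟨hx, hd⟩ := hx
  have hsub : (I'.support : Set X) ⊆ (I.support : Set X) := support_antitone h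
  refine ⟨hsub hx, hd.trans ?_⟩
  exact localDim_subtype_mono
    (Set.inter_subset_inter_left (f.base ⁻¹' {f.base x}) hsub) x ⟨hx, rfl⟩

theorem noetherianSpace_fiber [LocallyOfFiniteType f] [QuasiCompact f] (s : S) :
    NoetherianSpace ↥(f.fiber s) := by
  have h1 : LocallyOfFiniteType (f.fiberToSpecResidueField s) :=
    inferInstanceAs (LocallyOfFiniteType (pullback.snd f (S.fromSpecResidueField s)))
  have h2 : QuasiCompact (f.fiberToSpecResidueField s) :=
    inferInstanceAs (QuasiCompact (pullback.snd f (S.fromSpecResidueField s)))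
  have h3 : IsLocallyNoetherian (f.fiber s) :=
    LocallyOfFiniteType.isLocallyNoetherian (f.fiberToSpecResidueField s)
  have h4 : CompactSpace ↥(f.fiber s) :=
    QuasiCompact.compactSpace_of_compactSpace (f.fiberToSpecResidueField s)
  have : IsNoetherian (f.fiber s) := { }
  infer_instance

theorem noetherianSpace_preimage [LocallyOfFiniteType f] [QuasiCompact f] (s : S) :
    NoetherianSpace ↥(f.base ⁻¹' {s}) := by
  have := noetherianSpace_fiber f s
  exact (noetherianSpace_iff_of_homeomorph (f.fiberHomeo s)).mp inferInstance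

section Main

variable {Z : Scheme.{u}} (ι : Z ⟶ X) [IsClosedImmersion ι]

theorem range_eq_support_ker : Set.range ι.base = (ι.ker.support : Set X) := by
  rw [Scheme.Hom.support_ker]
  exact (ι.isClosedEmbedding.isClosed_range.closure_eq).symm

/-- A point lying in the support of all finite type subideals of `K` lies in the support of
`K`. -/
theorem mem_support_of_forall_fg [CompactSpace X] [QuasiSeparatedSpace X] (K : X.IdealSheafData)
    (x : X) (h : ∀ I : X.IdealSheafData, I ≤ K → IsFT I → x ∈ (I.support : Set X)) :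
    x ∈ (K.support : Set X) := by
  obtain ⟨_, ⟨U, hU, rfl⟩, hxU, -⟩ :=
    X.isBasis_affineOpens.exists_subset_of_mem_open (Set.mem_univ x) isOpen_univ
  rw [SetLike.mem_coe, mem_support_iff_of_mem (U := ⟨U, hU⟩) hxU, Scheme.mem_zeroLocus_iff]
  intro a ha
  obtain ⟨I, hIK, hfg, haI⟩ := exists_fg_le_mem K ⟨U, hU⟩ a ha
  have := h I hIK hfg
  rw [SetLike.mem_coe, mem_support_iff_of_mem (U := ⟨U, hU⟩) hxU, Scheme.mem_zeroLocus_iff] at this
  exact this a haI

theorem iInter_bad_eq_empty [CompactSpace X] [QuasiSeparatedSpace X] [LocallyOfFiniteType f]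
    [QuasiCompact f] (hZ : ∀ s : S, topologicalKrullDim ↥((ι ≫ f).fiber s) ≤ d) :
    ⋂ i : Idx ι, bad f d i.1 = ∅ := by
  rw [Set.eq_empty_iff_forall_notMem]
  intro z hz
  rw [Set.mem_iInter] at hz
  have hN : NoetherianSpace ↥(f.base ⁻¹' {f.base z}) := noetherianSpace_preimage f (f.base z)
  -- closed subsets of the fibre
  let C : Idx ι → Closeds ↥(f.base ⁻¹' {f.base z}) := fun i =>
    ⟨Subtype.val ⁻¹' (i.1.support : Set X), i.1.support.isClosed.preimage continuous_subtype_val⟩
  have hwf : WellFoundedLT (Closeds ↥(f.base ⁻¹' {f.base z})) := inferInstance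
  obtain ⟨_, ⟨i₀, rfl⟩, hmin⟩ := hwf.wf.has_min (Set.range C) ⟨_, ⟨Classical.arbitrary _, rfl⟩⟩
  have hle : ∀ i, C i₀ ≤ C i := by
    intro i
    let k : Idx ι := ⟨i.1 ⊔ i₀.1, sup_le i.2.1 i₀.2.1, isFT_sup i.2.2 i₀.2.2⟩
    have hk0 : C k ≤ C i₀ := fun x hx => support_antitone (le_sup_right : i₀.1 ≤ k.1) hx
    have hki : C k ≤ C i := fun x hx => support_antitone (le_sup_left : i.1 ≤ k.1) hx
    have : C k = C i₀ := by
      by_contra hne
      exact hmin (C k) ⟨k, rfl⟩ (lt_of_le_of_ne hk0 hne)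
    rw [← this]
    exact hki
  -- the fibre of `V(i₀)` is the fibre of `Z`
  have hsub : (i₀.1.support : Set X) ∩ f.base ⁻¹' {f.base z} ⊆ Set.range ι.base := by
    rintro x ⟨hx0, hxs⟩
    rw [range_eq_support_ker]
    apply mem_support_of_forall_fg
    intro I hIK hfg
    exact hle ⟨I, hIK, hfg⟩ (show (⟨x, hxs⟩ : ↥(f.base ⁻¹' {f.base z})) ∈ C i₀ from hx0)
  have hsup : Set.range ι.base ⊆ (i₀.1.support : Set X) := by
    rw [range_eq_support_ker]
    exact support_antitone i₀.2.1
  have hset : (i₀.1.support : Set X) ∩ f.base ⁻¹' {f.base z} =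
      Set.range ι.base ∩ f.base ⁻¹' {f.base z} :=
    Set.Subset.antisymm (fun x hx => ⟨hsub hx, hx.2⟩) (Set.inter_subset_inter_left _ hsup)
  obtain ⟨hz0, hzd⟩ := (mem_bad_iff f d i₀.1 z).mp (hz i₀)
  obtain ⟨z', rfl⟩ := hsub ⟨hz0, rfl⟩
  have h0 := hzd.trans_eq (localDim_congr_set hset _ _ ⟨⟨z', rfl⟩, rfl⟩)
  have h0' : ((d + 1 : ℕ) : WithBot ℕ∞) ≤ FlatMor.fibreDimAt (ι ≫ f) z' :=
    h0.trans_eq (fibreDimAt_comp_eq ι ι.isEmbedding f z').symm
  have h1 := h0'.trans ((fibreDimAt_le_dim_fiber (ι ≫ f) z').trans (hZ _))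
  have h2 : (d + 1 : ℕ) ≤ d := by exact_mod_cast h1
  omega

theorem succ_le_of_not_le {x : WithBot ℕ∞} {d : ℕ} (h : ¬ x ≤ (d : WithBot ℕ∞)) :
    ((d + 1 : ℕ) : WithBot ℕ∞) ≤ x := by
  induction x with
  | bot => exact absurd bot_le h
  | coe y =>
    induction y with
    | top => exact WithBot.coe_le_coe.mpr le_top
    | coe k =>
      have h1 : ¬ k ≤ d := fun hk => h (by exact_mod_cast hk)
      have h2 : d + 1 ≤ k := by omega
      exact_mod_cast h2

/-- **A closed subscheme with fibres of dimension `≤ d` is contained in a finitely presented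
closed subscheme with fibres of dimension `≤ d`.** -/
theorem main [CompactSpace X] [QuasiSeparatedSpace X] [LocallyOfFiniteType f] [QuasiCompact f]
    (hZ : ∀ s : S, topologicalKrullDim ↥((ι ≫ f).fiber s) ≤ d) :
    ∃ (Z' : Scheme.{u}) (ι' : Z' ⟶ X) (k : Z ⟶ Z'), IsClosedImmersion ι' ∧
      LocallyOfFinitePresentation ι' ∧ k ≫ ι' = ι ∧
      ∀ s : S, topologicalKrullDim ↥((ι' ≫ f).fiber s) ≤ d := by
  have hdir : Directed (· ⊇ ·) (fun i : Idx ι => bad f d i.1) := by
    intro a b
    obtain ⟨c, hac, hbc⟩ := directed_of (fun a b : Idx ι => a ≤ b) a b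
    exact ⟨c, bad_antitone f d hac, bad_antitone f d hbc⟩
  obtain ⟨i, hi⟩ := isCompact_univ.elim_directed_family_closed (fun i : Idx ι => bad f d i.1)
    (fun i => isClosed_bad f d i.1)
    (by rw [Set.univ_inter]; exact iInter_bad_eq_empty f d ι hZ) hdir
  rw [Set.univ_inter] at hi
  refine ⟨i.1.subscheme, i.1.subschemeι, toSub ι i, inferInstance,
    Groth.Agent.H20.IdealFP.locallyOfFinitePresentation_subschemeι _ (fun U => i.2.2 U),
    toSub_ι ι i, fun s => ?_⟩
  by_contra hcon
  obtain ⟨x, -, hxd⟩ := (le_dim_fiber_iff (i.1.subschemeι ≫ f) s (d + 1)).mp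
    (succ_le_of_not_le hcon)
  have : i.1.subschemeι.base x ∈ bad f d i.1 := ⟨x, hxd, rfl⟩
  rw [hi] at this
  exact this

end Main

end Groth.Agent.H46.FibreDimClosedFP
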