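import Mathlib

/-!
# Every field extension of a perfect field is formally smooth

`H¹(L_{L/k}) = 0` for an arbitrary field extension `L/k` of a perfect field `k`: an element of
`H¹` is represented by a polynomial in finitely many variables, hence comes from `H¹(L_{L₀/k})`
for a finitely generated subextension `L₀`, which vanishes.
-/

open MvPolynomial Algebra

namespace Groth.Agent.H46

universe u v

variable (k : Type u) (L : Type v) [Field k] [Field L] [Algebra k L]

set_option backward.isDefEq.respectTransparency false in
/-- The canonical map of generators `k[X_l : l ∈ L₀] → k[X_l : l ∈ L]` for a subfield. -/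
noncomputable def selfHomOfIntermediateField (L₀ : IntermediateField k L) :
    Generators.Hom (Generators.self k L₀) (Generators.self k L) where
  val l := X (l : L)
  aeval_val l := by simp [Generators.self]

set_option backward.isDefEq.respectTransparency false in
theorem subsingleton_h1Cotangent_of_perfectField [PerfectField k] :
    Subsingleton (Algebra.H1Cotangent k L) := by
  classical
  let G := Generators.self k L
  rw [Extension.subsingleton_h1Cotangent]
  rw [injective_iff_map_eq_zero]
  intro c hc
  obtain ⟨⟨f, hf⟩, rfl⟩ := Extension.Cotangent.mk_surjective c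
  -- the finitely generated subfield
  let s : Finset L := (f : MvPolynomial L k).vars
  let L₀ : IntermediateField k L := IntermediateField.adjoin k (s : Set L)
  have hfg : Algebra.EssFiniteType k L₀ := by
    have : L₀.FG := ⟨s, rfl⟩
    exact IntermediateField.essFiniteType_iff.mpr this
  have hsm : Algebra.FormallySmooth k L₀ := Algebra.FormallySmooth.of_perfectField
  let G₀ := Generators.self k L₀
  let φ := selfHomOfIntermediateField k L L₀
  obtain ⟨f₀, hf₀⟩ := exists_rename_eq_of_vars_subset_range (f : MvPolynomial L k)
    (Subtype.val : L₀ → L) Subtype.val_injective (by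
      intro l hl
      exact ⟨⟨l, IntermediateField.subset_adjoin k _ hl⟩, rfl⟩)
  have hφ : φ.toAlgHom = rename (Subtype.val : L₀ → L) := by
    apply MvPolynomial.algHom_ext
    intro l
    rw [Generators.Hom.toAlgHom_X, rename_X]
    rfl
  have hφf : φ.toAlgHom f₀ = f := by rw [hφ, hf₀]
  -- `f₀` lies in the kernel
  have h1 : aeval G.val f = algebraMap L₀ L (aeval G₀.val f₀) := by
    have := φ.algebraMap_toAlgHom f₀
    rw [hφf] at this
    exact this
  have h2 : aeval G.val f = 0 := hf
  have h3 : aeval G₀.val f₀ = 0 :=
    (algebraMap L₀ L).injective (by rw [map_zero, ← h1, h2])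
  have hf₀ker : f₀ ∈ G₀.toExtension.ker := h3
  -- the class of `f₀` is in `H¹`
  have hcc : G₀.toExtension.cotangentComplex (Extension.Cotangent.mk ⟨f₀, hf₀ker⟩) = 0 := by
    apply G₀.cotangentSpaceBasis.repr.injective
    refine Finsupp.ext fun l => ?_
    rw [Extension.cotangentComplex_mk, map_zero, Finsupp.zero_apply]
    have e1 := G₀.cotangentSpaceBasis_repr_one_tmul f₀ l
    refine e1.trans ?_
    apply (algebraMap L₀ L).injective
    rw [map_zero]
    have e2 := φ.algebraMap_toAlgHom (pderiv l f₀)
    rw [hφ, ← pderiv_rename Subtype.val_injective, hf₀] at e2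
    rw [← e2]
    have e3 := G.cotangentSpaceBasis_repr_one_tmul f (l : L)
    rw [← e3]
    rw [Extension.cotangentComplex_mk] at hc
    have e4 := congrArg (fun v => G.cotangentSpaceBasis.repr v (l : L)) hc
    simpa using e4
  have hss : Subsingleton (Algebra.H1Cotangent k L₀) := hsm.subsingleton_h1Cotangent
  let x₀ : Algebra.H1Cotangent k L₀ := ⟨Extension.Cotangent.mk ⟨f₀, hf₀ker⟩, hcc⟩
  have hx₀ : x₀ = 0 := Subsingleton.elim _ _
  have hmk₀ : Extension.Cotangent.mk (P := G₀.toExtension) ⟨f₀, hf₀ker⟩ = 0 :=
    congrArg Subtype.val hx₀
  have hmap := Extension.Cotangent.map_mk φ.toExtensionHom ⟨f₀, hf₀ker⟩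
  rw [hmk₀, map_zero] at hmap
  rw [hmap]
  congr 1
  exact Subtype.ext hφf.symm

end Groth.Agent.H46

namespace Groth.Agent.H46

universe u v

/-- Any field extension of a perfect field is formally smooth. -/
theorem formallySmooth_of_perfectField (k : Type u) (L : Type v) [Field k] [Field L] [Algebra k L]
    [PerfectField k] : Algebra.FormallySmooth k L :=
  ⟨inferInstance, subsingleton_h1Cotangent_of_perfectField k L⟩

end Groth.Agent.H46
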