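import Mathlib

/-!
# Gluing morphisms defined on an open cover given by a family of opens
-/

universe u

open AlgebraicGeometry CategoryTheory TopologicalSpace Opposite Limits

namespace Groth.Agent.H46

set_option backward.isDefEq.respectTransparency false in
theorem glue_opens {X Y : Scheme.{u}} {ι : Type*} (U : ι → X.Opens) (hU : IsOpenCover U)
    (f : ∀ i, (U i).toScheme ⟶ Y)
    (h : ∀ i j, X.homOfLE (inf_le_left : U i ⊓ U j ≤ U i) ≫ f i =
      X.homOfLE (inf_le_right : U i ⊓ U j ≤ U j) ≫ f j) :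
    ∃ g : X ⟶ Y, ∀ i, (U i).ι ≫ g = f i := by
  let 𝒰 := X.openCoverOfIsOpenCover U hU
  have hf : ∀ i j, pullback.fst (𝒰.f i) (𝒰.f j) ≫ f i = pullback.snd _ _ ≫ f j := by
    intro i j
    have hp := isPullback_opens_inf (U i) (U j)
    have e1 : hp.isoPullback.hom ≫ pullback.fst (U i).ι (U j).ι = X.homOfLE inf_le_left :=
      hp.isoPullback_hom_fst
    have e2 : hp.isoPullback.hom ≫ pullback.snd (U i).ι (U j).ι = X.homOfLE inf_le_right :=
      hp.isoPullback_hom_snd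
    rw [← cancel_epi hp.isoPullback.hom]
    change hp.isoPullback.hom ≫ pullback.fst (U i).ι (U j).ι ≫ f i =
      hp.isoPullback.hom ≫ pullback.snd (U i).ι (U j).ι ≫ f j
    rw [reassoc_of% e1, reassoc_of% e2]
    exact h i j
  exact ⟨𝒰.glueMorphisms f hf, fun i => 𝒰.ι_glueMorphisms f hf i⟩

/-- Gluing two morphisms defined on two opens covering `X`. -/
theorem glue_two {X Y : Scheme.{u}} (U₁ U₂ : X.Opens) (hcov : U₁ ⊔ U₂ = ⊤)
    (f₁ : U₁.toScheme ⟶ Y) (f₂ : U₂.toScheme ⟶ Y)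
    (h : X.homOfLE (inf_le_left : U₁ ⊓ U₂ ≤ U₁) ≫ f₁ =
      X.homOfLE (inf_le_right : U₁ ⊓ U₂ ≤ U₂) ≫ f₂) :
    ∃ g : X ⟶ Y, U₁.ι ≫ g = f₁ ∧ U₂.ι ≫ g = f₂ := by
  let U : Bool → X.Opens := fun b => cond b U₁ U₂
  have hU : IsOpenCover U := by
    change iSup U = ⊤
    rw [iSup_bool_eq]
    exact hcov
  let f : ∀ b, (U b).toScheme ⟶ Y := fun b => match b with
    | true => f₁
    | false => f₂
  have h' : X.homOfLE (inf_le_left : U₂ ⊓ U₁ ≤ U₂) ≫ f₂ =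
      X.homOfLE (inf_le_right : U₂ ⊓ U₁ ≤ U₁) ≫ f₁ := by
    have e1 : X.homOfLE (inf_le_left : U₂ ⊓ U₁ ≤ U₂) =
        X.homOfLE (le_of_eq (inf_comm _ _) : U₂ ⊓ U₁ ≤ U₁ ⊓ U₂) ≫ X.homOfLE inf_le_right := by
      rw [X.homOfLE_homOfLE]
    have e2 : X.homOfLE (inf_le_right : U₂ ⊓ U₁ ≤ U₁) =
        X.homOfLE (le_of_eq (inf_comm _ _) : U₂ ⊓ U₁ ≤ U₁ ⊓ U₂) ≫ X.homOfLE inf_le_left := by
      rw [X.homOfLE_homOfLE]
    rw [e1, e2, Category.assoc, Category.assoc, h]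
  obtain ⟨g, hg⟩ := glue_opens U hU f (by
    intro i j
    cases i <;> cases j
    · rfl
    · exact h'
    · exact h
    · rfl)
  exact ⟨g, hg true, hg false⟩

end Groth.Agent.H46
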