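import Mathlib
import Groth.Agent.H46.FieldSmooth

/-!
# Left exactness of the Jacobi–Zariski sequence for towers of fields
-/

open MvPolynomial Algebra KaehlerDifferential TensorProduct

namespace Groth.Agent.H46

universe u v

section naturality

variable (F : Type v) (K L M : Type u) [CommRing F] [CommRing K] [CommRing L] [CommRing M]
  [Algebra F K] [Algebra K L] [Algebra L M] [Algebra K M] [IsScalarTower K L M]
  [Algebra F L] [Algebra F M] [IsScalarTower F K L] [IsScalarTower F K M]

omit [Algebra F K] [Algebra F L] [Algebra F M] [IsScalarTower F K L] [IsScalarTower F K M] in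
set_option backward.isDefEq.respectTransparency false in
/-- The canonical map of generators `K[X_l : l ∈ L] → K[X_m : m ∈ M]`. -/
noncomputable def selfHom : Generators.Hom (Generators.self K L) (Generators.self K M) where
  val l := X (algebraMap L M l)
  aeval_val l := by simp [Generators.self]

omit [Algebra F K] [Algebra F L] [Algebra F M] [IsScalarTower F K L] [IsScalarTower F K M] in
set_option backward.isDefEq.respectTransparency false in
omit [IsScalarTower K L M] in
lemma selfHom_toAlgHom : (selfHom K L M).toAlgHom = rename (algebraMap L M) := by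
  apply MvPolynomial.algHom_ext
  intro l
  rw [Generators.Hom.toAlgHom_X, rename_X]
  rfl

set_option backward.isDefEq.respectTransparency false in
lemma δAux_selfHom (f : MvPolynomial L K) :
    Generators.H1Cotangent.δAux F (Generators.self K M) ((selfHom K L M).toAlgHom f) =
      TensorProduct.map (IsScalarTower.toAlgHom K L M).toLinearMap LinearMap.id
        (Generators.H1Cotangent.δAux F (Generators.self K L) f) := by
  rw [selfHom_toAlgHom]
  induction f using MvPolynomial.induction_on' with
  | monomial n r =>
    rw [rename_monomial]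
    erw [Generators.H1Cotangent.δAux_monomial, Generators.H1Cotangent.δAux_monomial]
    rw [TensorProduct.map_tmul, LinearMap.id_apply]
    congr 1
    rw [Finsupp.prod_mapDomain_index (by simp) (by intro a m n; exact pow_add _ _ _)]
    simp only [AlgHom.toLinearMap_apply, IsScalarTower.coe_toAlgHom']
    rw [Finsupp.prod, Finsupp.prod, map_prod]
    refine Finset.prod_congr rfl fun l _ => ?_
    simp [Generators.self]
  | add p q hp hq =>
    simp only [map_add, hp, hq]

set_option backward.isDefEq.respectTransparency false in
/-- Naturality of the connecting homomorphism of the Jacobi–Zariski sequence in the top ring. -/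
lemma δ_h1Cotangent_map (h : Algebra.H1Cotangent K L) :
    Algebra.H1Cotangent.δ F K M (Algebra.H1Cotangent.map K K L M h) =
      TensorProduct.map (IsScalarTower.toAlgHom K L M).toLinearMap LinearMap.id
        (Algebra.H1Cotangent.δ F K L h) := by
  obtain ⟨c, hc⟩ := h
  obtain ⟨⟨f, hf⟩, rfl⟩ := Extension.Cotangent.mk_surjective c
  have e1 : Algebra.H1Cotangent.map K K L M =
      Extension.H1Cotangent.map (selfHom K L M).toExtensionHom :=
    Extension.H1Cotangent.map_eq _ _
  rw [e1]
  have hker : (selfHom K L M).toAlgHom f ∈ (Generators.self K M).ker := by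
    rw [Generators.ker, RingHom.mem_ker]
    have h1 := (selfHom K L M).algebraMap_toAlgHom f
    have h2 : aeval (Generators.self K L).val f = 0 := hf
    rw [h2, map_zero] at h1
    exact h1
  have hy1 : (Extension.H1Cotangent.map (selfHom K L M).toExtensionHom
      ⟨Extension.Cotangent.mk ⟨f, hf⟩, hc⟩).1 =
      Extension.Cotangent.mk ⟨(selfHom K L M).toAlgHom f, hker⟩ := rfl
  have hmem : Extension.Cotangent.mk (P := (Generators.self K M).toExtension)
      ⟨(selfHom K L M).toAlgHom f, hker⟩ ∈
      LinearMap.ker (Generators.self K M).toExtension.cotangentComplex := by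
    rw [← hy1]
    exact (Extension.H1Cotangent.map (selfHom K L M).toExtensionHom
      ⟨Extension.Cotangent.mk ⟨f, hf⟩, hc⟩).2
  have e2 : Extension.H1Cotangent.map (selfHom K L M).toExtensionHom
      ⟨Extension.Cotangent.mk ⟨f, hf⟩, hc⟩ =
      ⟨Extension.Cotangent.mk ⟨(selfHom K L M).toAlgHom f, hker⟩, hmem⟩ := Subtype.ext hy1
  rw [e2]
  have e3 := Generators.H1Cotangent.δ_eq_δAux (Generators.self K M) (Generators.self F K)
    ⟨(selfHom K L M).toAlgHom f, hker⟩ hmem
  have e4 := Generators.H1Cotangent.δ_eq_δAux (Generators.self K L) (Generators.self F K)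
    ⟨f, hf⟩ hc
  refine e3.trans ?_
  refine (δAux_selfHom F K L M f).trans ?_
  exact congrArg _ e4.symm

end naturality

section fields

variable (F : Type v) (K L M : Type u) [Field F] [Field K] [Field L] [Field M] [PerfectField F]
  [Algebra F K] [Algebra K L] [Algebra L M] [Algebra K M] [IsScalarTower K L M]
  [Algebra F L] [Algebra F M] [IsScalarTower F K L] [IsScalarTower F K M]

omit [Algebra L M] [Algebra K M] [IsScalarTower K L M] [Algebra F M] [IsScalarTower F K M]
  [Field M] in
lemma δ_injective_of_perfectField : Function.Injective (Algebra.H1Cotangent.δ F K L) := by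
  rw [injective_iff_map_eq_zero]
  intro x hx
  have hex := Algebra.H1Cotangent.exact_map_δ (R := F) (S := K) (T := L)
  obtain ⟨y, rfl⟩ := (hex x).mp hx
  have : Subsingleton (Algebra.H1Cotangent F L) := subsingleton_h1Cotangent_of_perfectField F L
  rw [Subsingleton.elim y 0, map_zero]

set_option backward.isDefEq.respectTransparency false in
/-- For a tower of fields `K ⊆ L ⊆ M` (over a perfect field `F`),
`M ⊗_L H¹(L_{L/K}) → H¹(L_{M/K})` is injective. -/
theorem h1Cotangent_liftBaseChange_injective_aux (F : Type v) (K L M : Type u)
    [Field F] [Field K] [Field L] [Field M] [PerfectField F]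
    [Algebra F K] [Algebra K L] [Algebra L M] [Algebra K M] [IsScalarTower K L M]
    [Algebra F L] [Algebra F M] [IsScalarTower F K L] [IsScalarTower F K M] :
    Function.Injective ((Algebra.H1Cotangent.map K K L M).liftBaseChange M) := by
  let δL := Algebra.H1Cotangent.δ F K L
  let δM := Algebra.H1Cotangent.δ F K M
  let Φ := (Algebra.H1Cotangent.map K K L M).liftBaseChange M
  let Ψ : M ⊗[L] Algebra.H1Cotangent K L →ₗ[M] M ⊗[L] (L ⊗[K] Ω[K⁄F]) := δL.baseChange M
  have hΨ : Function.Injective Ψ := by
    have := Module.Flat.lTensor_preserves_injective_linearMap (M := M) δL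
      (δ_injective_of_perfectField F K L)
    exact this
  let c := AlgebraTensorModule.cancelBaseChange K L M M Ω[K⁄F]
  let ι : L →ₗ[K] M := (IsScalarTower.toAlgHom K L M).toLinearMap
  have hc : ∀ (m : M) (t : L ⊗[K] Ω[K⁄F]),
      c (m ⊗ₜ[L] t) = m • (TensorProduct.map ι LinearMap.id t) := by
    intro m t
    induction t using TensorProduct.induction_on with
    | zero => simp
    | tmul l ω =>
      rw [AlgebraTensorModule.cancelBaseChange_tmul, TensorProduct.map_tmul, smul_tmul',
        LinearMap.id_apply]
      congr 1
      simp [ι, Algebra.smul_def, mul_comm]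
    | add x y hx hy => rw [tmul_add, map_add, hx, hy, map_add, smul_add]
  have key : ∀ z, δM (Φ z) = c (Ψ z) := by
    intro z
    induction z using TensorProduct.induction_on with
    | zero => simp
    | tmul m h =>
      rw [LinearMap.liftBaseChange_tmul, map_smul, LinearMap.baseChange_tmul, hc,
        δ_h1Cotangent_map]
    | add x y hx hy => rw [map_add, map_add, hx, hy, map_add, map_add]
  rw [injective_iff_map_eq_zero]
  intro z hz
  have h1 : c (Ψ z) = 0 := by rw [← key, hz, map_zero]
  have h2 : Ψ z = 0 := by simpa using h1
  exact (injective_iff_map_eq_zero Ψ).mp hΨ z h2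

/-- For a tower of fields `K ⊆ L ⊆ M`, `M ⊗_L H¹(L_{L/K}) → H¹(L_{M/K})` is injective. -/
theorem h1Cotangent_liftBaseChange_injective (K L M : Type u)
    [Field K] [Field L] [Field M] [Algebra K L] [Algebra L M] [Algebra K M]
    [IsScalarTower K L M] :
    Function.Injective ((Algebra.H1Cotangent.map K K L M).liftBaseChange M) := by
  obtain ⟨p, hp⟩ := CharP.exists K
  have hpL : CharP L p := charP_of_injective_algebraMap (algebraMap K L).injective p
  have hpM : CharP M p := charP_of_injective_algebraMap (algebraMap K M).injective p
  rcases CharP.char_is_prime_or_zero K p with hpr | rfl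
  · have : Fact p.Prime := ⟨hpr⟩
    let := ZMod.algebra K p
    let := ZMod.algebra L p
    let := ZMod.algebra M p
    have t1 : IsScalarTower (ZMod p) K L := IsScalarTower.of_algebraMap_eq' (Subsingleton.elim _ _)
    have t2 : IsScalarTower (ZMod p) K M := IsScalarTower.of_algebraMap_eq' (Subsingleton.elim _ _)
    exact h1Cotangent_liftBaseChange_injective_aux (ZMod p) K L M
  · have : CharZero K := CharP.charP_to_charZero K
    have : CharZero L := CharP.charP_to_charZero L
    have : CharZero M := CharP.charP_to_charZero M
    have t1 : IsScalarTower ℚ K L := IsScalarTower.of_algebraMap_eq' (Subsingleton.elim _ _)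
    have t2 : IsScalarTower ℚ K M := IsScalarTower.of_algebraMap_eq' (Subsingleton.elim _ _)
    exact h1Cotangent_liftBaseChange_injective_aux ℚ K L M

end fields

end Groth.Agent.H46
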