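import Mathlib.RingTheory.Henselian
import Mathlib.Algebra.Category.Ring.Limits
import Mathlib.RingTheory.Ideal.Maps
import Mathlib.Algebra.Polynomial.Identities
import Mathlib.Algebra.Polynomial.Div

set_option autoImplicit false
universe u

namespace Groth.Agent.H46

open CategoryTheory Limits Polynomial

/-- Uniqueness of Hensel roots: two roots of `f` congruent modulo an ideal in the Jacobson radical,
one of which is simple modulo the ideal, are equal. -/
theorem root_unique {R : Type*} [CommRing R] {I : Ideal R} (hjac : I ≤ Ideal.jacobson ⊥)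
    (f : R[X]) (a b : R) (ha : f.IsRoot a) (hb : f.IsRoot b) (hab : b - a ∈ I)
    (hu : IsUnit (Ideal.Quotient.mk I (f.derivative.eval a))) : a = b := by
  obtain ⟨k, hk⟩ := Polynomial.binomExpansion f a (b - a)
  have := isLocalHom_of_le_jacobson_bot I hjac
  have ha' : f.eval a = 0 := ha
  have hb' : f.eval b = 0 := hb
  rw [add_sub_cancel, hb', ha'] at hk
  have h1 : IsUnit (f.derivative.eval a + k * (b - a)) := by
    apply IsUnit.of_map (Ideal.Quotient.mk I)
    have : Ideal.Quotient.mk I (f.derivative.eval a + k * (b - a)) =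
        Ideal.Quotient.mk I (f.derivative.eval a) := by
      rw [map_add, add_eq_left, Ideal.Quotient.eq_zero_iff_mem]
      exact I.mul_mem_left _ hab
    rw [this]; exact hu
  have h2 : (f.derivative.eval a + k * (b - a)) * (b - a) = 0 := by
    rw [hk]; ring
  have h3 := (h1.mul_right_eq_zero).mp h2
  exact (sub_eq_zero.mp h3).symm

section

variable {J : Type u} [Category.{u} J] (F : J ⥤ CommRingCat.{u})

theorem commRingCat_limit_ext (x y : (limit F : CommRingCat.{u}))
    (h : ∀ j, (limit.π F j).hom x = (limit.π F j).hom y) : x = y := by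
  apply Concrete.limit_ext
  exact h

theorem commRingCat_limit_exists (a : ∀ j, F.obj j)
    (h : ∀ (i j : J) (φ : i ⟶ j), (F.map φ).hom (a i) = a j) :
    ∃ x : (limit F : CommRingCat.{u}), ∀ j, (limit.π F j).hom x = a j := by
  have hl := isLimitOfPreserves (forget CommRingCat.{u}) (limit.isLimit F)
  let e := Types.isLimitEquivSections hl
  refine ⟨e.symm ⟨a, ?_⟩, ?_⟩
  · intro i j φ
    exact h i j φ
  · intro j
    exact Types.isLimitEquivSections_symm_apply hl ⟨a, _⟩ j

theorem commRingCat_limit_π_map (x : (limit F : CommRingCat.{u})) {i j : J} (φ : i ⟶ j) :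
    (F.map φ).hom ((limit.π F i).hom x) = (limit.π F j).hom x := by
  have := limit.w F φ
  exact congrArg (fun g : (limit F ⟶ F.obj j) => g.hom x) this

/-- An element of a limit of commutative rings is a unit as soon as all its projections are. -/
theorem commRingCat_limit_isUnit (x : (limit F : CommRingCat.{u}))
    (h : ∀ j, IsUnit ((limit.π F j).hom x)) : IsUnit x := by
  obtain ⟨v, hv⟩ := commRingCat_limit_exists F (fun j => ((h j).unit⁻¹ : (F.obj j)ˣ).val) (by
    intro i j φ
    have h1 : (F.map φ).hom ((limit.π F i).hom x) * (F.map φ).hom (((h i).unit⁻¹ : (F.obj i)ˣ).val)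
        = 1 := by
      rw [← map_mul]
      have : (limit.π F i).hom x * (((h i).unit⁻¹ : (F.obj i)ˣ).val) = 1 := (h i).mul_val_inv
      rw [this, map_one]
    rw [commRingCat_limit_π_map] at h1
    have h2 : (limit.π F j).hom x * (((h j).unit⁻¹ : (F.obj j)ˣ).val) = 1 := (h j).mul_val_inv
    calc (F.map φ).hom (((h i).unit⁻¹ : (F.obj i)ˣ).val)
        = ((((h j).unit⁻¹ : (F.obj j)ˣ).val) * (limit.π F j).hom x) *
            (F.map φ).hom (((h i).unit⁻¹ : (F.obj i)ˣ).val) := by
          rw [mul_comm _ ((limit.π F j).hom x), h2, one_mul]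
      _ = (((h j).unit⁻¹ : (F.obj j)ˣ).val) := by
          rw [mul_assoc, h1, mul_one])
  refine IsUnit.of_mul_eq_one v ?_
  apply commRingCat_limit_ext
  intro j
  rw [map_mul, hv, map_one]
  exact (h j).mul_val_inv

end

end Groth.Agent.H46
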