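import Mathlib

/-!
# Morphisms of schemes are determined by their restrictions to all local schemes
-/

universe u

open AlgebraicGeometry CategoryTheory TopologicalSpace Opposite Limits

namespace Groth.Agent.H46

set_option backward.isDefEq.respectTransparency false in
theorem hom_ext_of_fromSpecStalk_of_isAffine {X Y : Scheme.{u}} [IsAffine Y] (g₁ g₂ : X ⟶ Y)
    (h : ∀ y : X, X.fromSpecStalk y ≫ g₁ = X.fromSpecStalk y ≫ g₂) : g₁ = g₂ := by
  apply ext_of_isAffine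
  ext s
  apply TopCat.Presheaf.section_ext X.sheaf ⊤
  intro y hy
  have key : g₁.appTop ≫ X.presheaf.germ ⊤ y trivial = g₂.appTop ≫ X.presheaf.germ ⊤ y trivial := by
    apply Spec.map_injective
    have e : ∀ g : X ⟶ Y, Spec.map (g.appTop ≫ X.presheaf.germ ⊤ y trivial) =
        X.fromSpecStalk y ≫ g ≫ Y.toSpecΓ := by
      intro g
      rw [Scheme.toSpecΓ_naturality, Spec.map_comp, ← Scheme.fromSpecStalk_toSpecΓ_assoc]
    rw [e, e, ← Category.assoc, h y, Category.assoc]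
  exact congrArg (fun f => f.hom s) key

set_option backward.isDefEq.respectTransparency.types false in
theorem hom_ext_of_fromSpecStalk {X Y : Scheme.{u}} (g₁ g₂ : X ⟶ Y)
    (h : ∀ y : X, X.fromSpecStalk y ≫ g₁ = X.fromSpecStalk y ≫ g₂) : g₁ = g₂ := by
  apply Scheme.hom_ext_of_forall
  intro y₀
  have hpt : g₁ y₀ = g₂ y₀ := by
    simpa using congr($(h y₀) (IsLocalRing.closedPoint _))
  obtain ⟨_, ⟨T : Y.Opens, hT, rfl⟩, hyT, -⟩ :=
    Y.isBasis_affineOpens.exists_subset_of_mem_open (Set.mem_univ (g₁ y₀)) isOpen_univ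
  let P : X.Opens := g₁ ⁻¹ᵁ T ⊓ g₂ ⁻¹ᵁ T
  have hy₀P : y₀ ∈ P := ⟨hyT, by change g₂ y₀ ∈ T; rw [← hpt]; exact hyT⟩
  have hr₁ : Set.range (P.ι ≫ g₁) ⊆ Set.range T.ι := by
    rintro _ ⟨z, rfl⟩
    rw [Scheme.Opens.range_ι]
    exact z.2.1
  have hr₂ : Set.range (P.ι ≫ g₂) ⊆ Set.range T.ι := by
    rintro _ ⟨z, rfl⟩
    rw [Scheme.Opens.range_ι]
    exact z.2.2
  let h₁ : P.toScheme ⟶ T.toScheme := IsOpenImmersion.lift T.ι (P.ι ≫ g₁) hr₁
  let h₂ : P.toScheme ⟶ T.toScheme := IsOpenImmersion.lift T.ι (P.ι ≫ g₂) hr₂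
  have hh₁ : h₁ ≫ T.ι = P.ι ≫ g₁ := IsOpenImmersion.lift_fac _ _ _
  have hh₂ : h₂ ≫ T.ι = P.ι ≫ g₂ := IsOpenImmersion.lift_fac _ _ _
  have _aff : IsAffine T.toScheme := hT
  have h12 : h₁ = h₂ := by
    apply hom_ext_of_fromSpecStalk_of_isAffine
    intro z
    rw [← cancel_mono T.ι, Category.assoc, Category.assoc, hh₁, hh₂,
      ← Scheme.SpecMap_stalkMap_fromSpecStalk_assoc P.ι,
      ← Scheme.SpecMap_stalkMap_fromSpecStalk_assoc P.ι, h]
  refine ⟨P, hy₀P, ?_⟩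
  rw [← hh₁, ← hh₂, h12]

end Groth.Agent.H46
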