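import Mathlib
import Groth.Agent.H46.SpreadFP
import Groth.Agent.H46.AgreeNbhd
import Groth.Agent.H46.GlueOpens
import Groth.Agent.H46.HomExtStalk

/-!
# Glueing morphisms near a closed point (Stacks 0BPZ-type statement)
-/

universe u

open AlgebraicGeometry CategoryTheory TopologicalSpace Opposite Limits

namespace Groth.Agent.H46

theorem hom_glueing_unique {X Y : Scheme.{u}} (x : X) (U : X.Opens)
    (hU : (U : Set X) = {x}ᶜ) (g₁ g₂ : X ⟶ Y) (h1 : U.ι ≫ g₁ = U.ι ≫ g₂)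
    (h2 : X.fromSpecStalk x ≫ g₁ = X.fromSpecStalk x ≫ g₂) : g₁ = g₂ := by
  apply hom_ext_of_fromSpecStalk
  intro y
  by_cases hy : y = x
  · subst hy; exact h2
  · have hyU : y ∈ U := by
      change y ∈ (U : Set X)
      rw [hU]
      exact hy
    rw [← U.fromSpecStalkOfMem_ι y hyU, Category.assoc, Category.assoc, h1]

set_option backward.isDefEq.respectTransparency false in
theorem hom_glueing_exists {X Y S : Scheme.{u}} (p : X ⟶ S) (q : Y ⟶ S)
    [LocallyOfFinitePresentation q] (x : X) (U : X.Opens) (hU : (U : Set X) = {x}ᶜ)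
    [QuasiCompact U.ι]
    (a : (U : Scheme.{u}) ⟶ Y) (b : Spec (X.presheaf.stalk x) ⟶ Y) (ha : a ≫ q = U.ι ≫ p)
    (hb : b ≫ q = X.fromSpecStalk x ≫ p)
    (hab : ((X.fromSpecStalk x) ⁻¹ᵁ U).ι ≫ b = ((X.fromSpecStalk x) ∣_ U) ≫ a) :
    ∃ g : X ⟶ Y, g ≫ q = p ∧ U.ι ≫ g = a ∧ X.fromSpecStalk x ≫ g = b := by
  -- Step 1: spread out `b`
  obtain ⟨W₁, hxW₁, b₁, hb₁, hb₁q⟩ := spread_out_of_locallyOfFinitePresentation' p q b hb
  -- Step 2: agreement on a punctured neighbourhood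
  let N : X.Opens := U ⊓ W₁
  have hNW : N ≤ W₁ := inf_le_right
  have _qc : QuasiCompact (X.homOfLE hNW) :=
    MorphismProperty.of_isPullback (isPullback_opens_inf U W₁) ‹QuasiCompact U.ι›
  let a' : N.toScheme ⟶ Y := X.homOfLE inf_le_left ≫ a
  let b' : N.toScheme ⟶ Y := X.homOfLE hNW ≫ b₁
  have hab' : a' ≫ q = b' ≫ q := by
    simp only [a', b', Category.assoc, ha, hb₁q, X.homOfLE_ι_assoc]
  have hgen : ∀ (y : X) (hy : y ∈ N), y ⤳ x →
      N.fromSpecStalkOfMem y hy ≫ a' = N.fromSpecStalkOfMem y hy ≫ b' := by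
    intro y hy hyx
    have e1 : N.fromSpecStalkOfMem y hy ≫ X.homOfLE inf_le_left = U.fromSpecStalkOfMem y hy.1 := by
      rw [← cancel_mono U.ι, Category.assoc, X.homOfLE_ι, Scheme.Opens.fromSpecStalkOfMem_ι,
        Scheme.Opens.fromSpecStalkOfMem_ι]
    have e2 : N.fromSpecStalkOfMem y hy ≫ X.homOfLE hNW =
        Spec.map (X.presheaf.stalkSpecializes hyx) ≫ W₁.fromSpecStalkOfMem x hxW₁ := by
      rw [← cancel_mono W₁.ι, Category.assoc, X.homOfLE_ι, Scheme.Opens.fromSpecStalkOfMem_ι,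
        Category.assoc, Scheme.Opens.fromSpecStalkOfMem_ι,
        Scheme.SpecMap_stalkSpecializes_fromSpecStalk]
    -- the specialization map factors through the punctured local scheme
    let V := (X.fromSpecStalk x) ⁻¹ᵁ U
    have hrange : Set.range (Spec.map (X.presheaf.stalkSpecializes hyx)) ⊆ Set.range V.ι := by
      rintro _ ⟨t, rfl⟩
      rw [Scheme.Opens.range_ι]
      change X.fromSpecStalk x (Spec.map (X.presheaf.stalkSpecializes hyx) t) ∈ U
      rw [← Scheme.Hom.comp_apply, Scheme.SpecMap_stalkSpecializes_fromSpecStalk,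
        ← U.fromSpecStalkOfMem_ι y hy.1, Scheme.Hom.comp_apply]
      exact (U.fromSpecStalkOfMem y hy.1 t).2
    let σ := IsOpenImmersion.lift V.ι (Spec.map (X.presheaf.stalkSpecializes hyx)) hrange
    have hσ : σ ≫ V.ι = Spec.map (X.presheaf.stalkSpecializes hyx) :=
      IsOpenImmersion.lift_fac _ _ _
    have e3 : σ ≫ ((X.fromSpecStalk x) ∣_ U) = U.fromSpecStalkOfMem y hy.1 := by
      rw [← cancel_mono U.ι, Category.assoc, morphismRestrict_ι, reassoc_of% hσ,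
        Scheme.SpecMap_stalkSpecializes_fromSpecStalk, Scheme.Opens.fromSpecStalkOfMem_ι]
    calc N.fromSpecStalkOfMem y hy ≫ a' = U.fromSpecStalkOfMem y hy.1 ≫ a := by
          simp only [a']; rw [reassoc_of% e1]
      _ = σ ≫ ((X.fromSpecStalk x) ∣_ U) ≫ a := by rw [reassoc_of% e3]
      _ = σ ≫ V.ι ≫ b := by rw [hab]
      _ = Spec.map (X.presheaf.stalkSpecializes hyx) ≫ W₁.fromSpecStalkOfMem x hxW₁ ≫ b₁ := by
          rw [reassoc_of% hσ, hb₁]
      _ = N.fromSpecStalkOfMem y hy ≫ b' := by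
          simp only [b']; rw [reassoc_of% e2]
  obtain ⟨W', hxW', hW'W, hagree⟩ := exists_nbhd_agree q x hNW hxW₁ a' b' hab' hgen
  -- Step 3: glue
  let b₂ : W'.toScheme ⟶ Y := X.homOfLE hW'W ≫ b₁
  have hcov : U ⊔ W' = ⊤ := by
    ext y
    simp only [Opens.coe_sup, Opens.coe_top, Set.mem_union, Set.mem_univ, iff_true]
    by_cases hy : y = x
    · right; rw [hy]; exact hxW'
    · left
      change y ∈ (U : Set X)
      rw [hU]
      exact hy
  have hglue : X.homOfLE (inf_le_left : U ⊓ W' ≤ U) ≫ a =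
      X.homOfLE (inf_le_right : U ⊓ W' ≤ W') ≫ b₂ := by
    have hle : U ⊓ W' ≤ W' ⊓ N := fun y hy => ⟨hy.2, hy.1, hW'W hy.2⟩
    have e1 : X.homOfLE (inf_le_left : U ⊓ W' ≤ U) =
        X.homOfLE hle ≫ X.homOfLE (inf_le_right : W' ⊓ N ≤ N) ≫ X.homOfLE inf_le_left := by
      rw [X.homOfLE_homOfLE, X.homOfLE_homOfLE]
    have e2 : X.homOfLE (inf_le_right : U ⊓ W' ≤ W') ≫ X.homOfLE hW'W =
        X.homOfLE hle ≫ X.homOfLE (inf_le_right : W' ⊓ N ≤ N) ≫ X.homOfLE hNW := by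
      rw [X.homOfLE_homOfLE, X.homOfLE_homOfLE, X.homOfLE_homOfLE]
    simp only [b₂]
    rw [reassoc_of% e2, e1]
    simp only [Category.assoc]
    congr 1
  obtain ⟨g, hgU, hgW'⟩ := glue_two U W' hcov a b₂ hglue
  refine ⟨g, ?_, hgU, ?_⟩
  · apply hom_glueing_unique x U hU
    · rw [reassoc_of% hgU, ha]
    · rw [← W'.fromSpecStalkOfMem_ι x hxW', Category.assoc, Category.assoc, reassoc_of% hgW']
      simp only [b₂, Category.assoc]
      rw [hb₁q, X.homOfLE_ι_assoc]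
  · rw [← W'.fromSpecStalkOfMem_ι x hxW', Category.assoc, hgW', hb₁]
    simp only [b₂]
    have e : W'.fromSpecStalkOfMem x hxW' ≫ X.homOfLE hW'W = W₁.fromSpecStalkOfMem x hxW₁ := by
      rw [← cancel_mono W₁.ι, Category.assoc, X.homOfLE_ι, Scheme.Opens.fromSpecStalkOfMem_ι,
        Scheme.Opens.fromSpecStalkOfMem_ι]
    rw [reassoc_of% e]

end Groth.Agent.H46
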