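import Mathlib
import Groth.Prelude.Def_RegImm
import Groth.Agent.H46.ColimPoly

/-!
# Isomorphisms of finitely presented algebras descend to a stage of a weak directed colimit
-/

set_option autoImplicit false
set_option linter.unusedSectionVars false
universe u

open MvPolynomial Groth.Agent.H46.ColimPoly

namespace Groth.Agent.H46.IsoDesc

section QMap

variable {Λ Λ' : Type u} [CommRing Λ] [CommRing Λ'] (φ : Λ →+* Λ') {n c : ℕ}
  (F : Fin c → MvPolynomial (Fin n) Λ) (F' : Fin c → MvPolynomial (Fin n) Λ')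
  (h : ∀ k, map φ (F k) = F' k)

/-- The map of presented rings induced by a ring map of coefficients. -/
noncomputable def qmap : Synt.RelGCIRing Λ n c F →+* Synt.RelGCIRing Λ' n c F' :=
  Ideal.quotientMap _ (map φ) (by
    rw [Ideal.span_le]
    rintro _ ⟨k, rfl⟩
    change map φ (F k) ∈ Ideal.span (Set.range F')
    rw [h k]
    exact Ideal.subset_span ⟨k, rfl⟩)

@[simp]
theorem qmap_mk (p : MvPolynomial (Fin n) Λ) :
    qmap φ F F' h (Ideal.Quotient.mk _ p) = Ideal.Quotient.mk _ (map φ p) :=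
  Ideal.quotientMap_mk

end QMap

section OneRing

variable {Λ : Type u} [CommRing Λ] {n₁ c₁ n₂ c₂ : ℕ}
  (F₁ : Fin c₁ → MvPolynomial (Fin n₁) Λ) (F₂ : Fin c₂ → MvPolynomial (Fin n₂) Λ)
  (U : Fin n₁ → MvPolynomial (Fin n₂) Λ) (V : Fin n₂ → MvPolynomial (Fin n₁) Λ)

/-- The map of presented rings given by a substitution. -/
noncomputable def subst (hi : ∀ c, bind₁ U (F₁ c) ∈ Ideal.span (Set.range F₂)) :
    Synt.RelGCIRing Λ n₁ c₁ F₁ →ₐ[Λ] Synt.RelGCIRing Λ n₂ c₂ F₂ :=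
  Ideal.Quotient.liftₐ _ ((Ideal.Quotient.mkₐ Λ (Ideal.span (Set.range F₂))).comp (bind₁ U)) (by
    intro a ha
    have hle : Ideal.span (Set.range F₁) ≤
        RingHom.ker ((Ideal.Quotient.mkₐ Λ (Ideal.span (Set.range F₂))).comp (bind₁ U)).toRingHom := by
      rw [Ideal.span_le]
      rintro _ ⟨k, rfl⟩
      change Ideal.Quotient.mk _ (bind₁ U (F₁ k)) = 0
      exact Ideal.Quotient.eq_zero_iff_mem.mpr (hi k)
    exact hle ha)

theorem subst_mk (hi : ∀ c, bind₁ U (F₁ c) ∈ Ideal.span (Set.range F₂))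
    (p : MvPolynomial (Fin n₁) Λ) :
    subst F₁ F₂ U hi (Ideal.Quotient.mk _ p) = Ideal.Quotient.mk _ (bind₁ U p) := rfl

theorem subst_comp (hi : ∀ c, bind₁ U (F₁ c) ∈ Ideal.span (Set.range F₂))
    (hii : ∀ c, bind₁ V (F₂ c) ∈ Ideal.span (Set.range F₁))
    (hiii : ∀ k, X k - bind₁ V (U k) ∈ Ideal.span (Set.range F₁)) :
    (subst F₂ F₁ V hii).comp (subst F₁ F₂ U hi) = AlgHom.id Λ _ := by
  apply Ideal.Quotient.algHom_ext
  apply MvPolynomial.algHom_ext
  intro k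
  change subst F₂ F₁ V hii (subst F₁ F₂ U hi (Ideal.Quotient.mk _ (X k))) = Ideal.Quotient.mk _ (X k)
  rw [subst_mk, bind₁_X_right, subst_mk]
  exact (Ideal.Quotient.eq.mpr (hiii k)).symm

/-- Mutually inverse substitutions give an isomorphism of presented rings. -/
noncomputable def substEquiv (hi : ∀ c, bind₁ U (F₁ c) ∈ Ideal.span (Set.range F₂))
    (hii : ∀ c, bind₁ V (F₂ c) ∈ Ideal.span (Set.range F₁))
    (hiii : ∀ k, X k - bind₁ V (U k) ∈ Ideal.span (Set.range F₁))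
    (hiv : ∀ l, X l - bind₁ U (V l) ∈ Ideal.span (Set.range F₂)) :
    Synt.RelGCIRing Λ n₁ c₁ F₁ ≃ₐ[Λ] Synt.RelGCIRing Λ n₂ c₂ F₂ :=
  AlgEquiv.ofAlgHom (subst F₁ F₂ U hi) (subst F₂ F₁ V hii)
    (subst_comp F₂ F₁ V U hii hi hiv) (subst_comp F₁ F₂ U V hi hii hiii)

theorem substEquiv_mk (hi : ∀ c, bind₁ U (F₁ c) ∈ Ideal.span (Set.range F₂))
    (hii : ∀ c, bind₁ V (F₂ c) ∈ Ideal.span (Set.range F₁))
    (hiii : ∀ k, X k - bind₁ V (U k) ∈ Ideal.span (Set.range F₁))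
    (hiv : ∀ l, X l - bind₁ U (V l) ∈ Ideal.span (Set.range F₂))
    (p : MvPolynomial (Fin n₁) Λ) :
    substEquiv F₁ F₂ U V hi hii hiii hiv (Ideal.Quotient.mk _ p) =
      Ideal.Quotient.mk _ (bind₁ U p) := rfl

end OneRing

section Main

variable {ι : Type u}
  {A₀ : Type u} [CommRing A₀] {G : ι → Type u} [∀ i, CommRing (G i)] [∀ i, Algebra A₀ (G i)]
  {A : Type u} [CommRing A] [Algebra A₀ A] (S : RSys A₀ G A) [Nonempty ι]

/-- **Isomorphisms of presented algebras descend to a stage**, compatibly with the maps to the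
colimit. -/
theorem main (i₀ : ι) (n₁ c₁ : ℕ) (F₁ : Fin c₁ → MvPolynomial (Fin n₁) (G i₀)) (n₂ c₂ : ℕ)
    (F₂ : Fin c₂ → MvPolynomial (Fin n₂) (G i₀))
    (e : Synt.RelGCIRing A n₁ c₁ (fun k => map (S.g i₀).toRingHom (F₁ k)) ≃ₐ[A]
      Synt.RelGCIRing A n₂ c₂ (fun k => map (S.g i₀).toRingHom (F₂ k))) :
    ∃ (j : ι) (θ : G i₀ →ₐ[A₀] G j) (hθ : Reach S i₀ j θ)
      (E : Synt.RelGCIRing (G j) n₁ c₁ (fun k => map θ.toRingHom (F₁ k)) ≃ₐ[G j]
        Synt.RelGCIRing (G j) n₂ c₂ (fun k => map θ.toRingHom (F₂ k))),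
      ∀ z, qmap (S.g j).toRingHom (fun k => map θ.toRingHom (F₂ k))
          (fun k => map (S.g i₀).toRingHom (F₂ k)) (fun k => map_reach S hθ (F₂ k)) (E z) =
        e (qmap (S.g j).toRingHom (fun k => map θ.toRingHom (F₁ k))
          (fun k => map (S.g i₀).toRingHom (F₁ k)) (fun k => map_reach S hθ (F₁ k)) z) := by
  classical
  set J₁A := Ideal.span (Set.range fun k => map (S.g i₀).toRingHom (F₁ k)) with hJ₁A
  set J₂A := Ideal.span (Set.range fun k => map (S.g i₀).toRingHom (F₂ k)) with hJ₂A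
  -- lifts of the images of the variables
  choose U hU using fun k : Fin n₁ =>
    Ideal.Quotient.mk_surjective (I := J₂A) (e (Ideal.Quotient.mk J₁A (X k)))
  choose V hV using fun l : Fin n₂ =>
    Ideal.Quotient.mk_surjective (I := J₁A) (e.symm (Ideal.Quotient.mk J₂A (X l)))
  have keyU : ∀ p : MvPolynomial (Fin n₁) A,
      Ideal.Quotient.mk J₂A (bind₁ U p) = e (Ideal.Quotient.mk J₁A p) := by
    intro p
    have : (Ideal.Quotient.mkₐ A J₂A).comp (bind₁ U) =
        (e : _ →ₐ[A] _).comp (Ideal.Quotient.mkₐ A J₁A) := by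
      apply MvPolynomial.algHom_ext
      intro k
      change Ideal.Quotient.mk J₂A (bind₁ U (X k)) = e (Ideal.Quotient.mk J₁A (X k))
      rw [bind₁_X_right, hU]
    exact AlgHom.congr_fun this p
  have keyV : ∀ p : MvPolynomial (Fin n₂) A,
      Ideal.Quotient.mk J₁A (bind₁ V p) = e.symm (Ideal.Quotient.mk J₂A p) := by
    intro p
    have : (Ideal.Quotient.mkₐ A J₁A).comp (bind₁ V) =
        (e.symm : _ →ₐ[A] _).comp (Ideal.Quotient.mkₐ A J₂A) := by
      apply MvPolynomial.algHom_ext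
      intro k
      change Ideal.Quotient.mk J₁A (bind₁ V (X k)) = e.symm (Ideal.Quotient.mk J₂A (X k))
      rw [bind₁_X_right, hV]
    exact AlgHom.congr_fun this p
  -- the four conditions over `A`
  have hiA : ∀ c, bind₁ U (map (S.g i₀).toRingHom (F₁ c)) ∈ J₂A := fun c => by
    have h0 : Ideal.Quotient.mk J₁A (map (S.g i₀).toRingHom (F₁ c)) = 0 :=
      Ideal.Quotient.eq_zero_iff_mem.mpr (Ideal.subset_span ⟨c, rfl⟩)
    rw [← Ideal.Quotient.eq_zero_iff_mem, keyU, h0, map_zero]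
  have hiiA : ∀ c, bind₁ V (map (S.g i₀).toRingHom (F₂ c)) ∈ J₁A := fun c => by
    have h0 : Ideal.Quotient.mk J₂A (map (S.g i₀).toRingHom (F₂ c)) = 0 :=
      Ideal.Quotient.eq_zero_iff_mem.mpr (Ideal.subset_span ⟨c, rfl⟩)
    rw [← Ideal.Quotient.eq_zero_iff_mem, keyV, h0, map_zero]
  have hiiiA : ∀ k, X k - bind₁ V (U k) ∈ J₁A := fun k => by
    rw [← Ideal.Quotient.eq_zero_iff_mem, map_sub, keyV, hU, e.symm_apply_apply, sub_self]
  have hivA : ∀ l, X l - bind₁ U (V l) ∈ J₂A := fun l => by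
    rw [← Ideal.Quotient.eq_zero_iff_mem, map_sub, keyU, hV, e.apply_symm_apply, sub_self]
  -- descend the lifts
  obtain ⟨i₁, U₁, hU₁⟩ := exists_map_eq_family S U
  obtain ⟨i₂, V₂, hV₂⟩ := exists_map_eq_family S V
  obtain ⟨k₀, α₁, α₂, hα₁, hα₂⟩ := S.hdir i₁ i₂
  obtain ⟨k, θ₁, γ, hθ₁, hγ⟩ := S.hdir i₀ k₀
  have hθ₁ : Reach S i₀ k θ₁ := hθ₁
  have hγα₁ : Reach S i₁ k (γ.comp α₁) := Reach.trans S hα₁ hγ
  have hγα₂ : Reach S i₂ k (γ.comp α₂) := Reach.trans S hα₂ hγ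
  let U' : Fin n₁ → MvPolynomial (Fin n₂) (G k) :=
    fun a => map (γ.comp α₁).toRingHom (U₁ a)
  let V' : Fin n₂ → MvPolynomial (Fin n₁) (G k) :=
    fun a => map (γ.comp α₂).toRingHom (V₂ a)
  have hU' : ∀ a, map (S.g k).toRingHom (U' a) = U a := fun a => by
    rw [map_reach S hγα₁, hU₁]
  have hV' : ∀ a, map (S.g k).toRingHom (V' a) = V a := fun a => by
    rw [map_reach S hγα₂, hV₂]
  -- the elements whose membership has to descend
  let a₂ : Fin c₁ ⊕ Fin n₂ → MvPolynomial (Fin n₂) (G k) :=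
    Sum.elim (fun c => bind₁ U' (map θ₁.toRingHom (F₁ c))) (fun l => X l - bind₁ U' (V' l))
  let a₁ : Fin c₂ ⊕ Fin n₁ → MvPolynomial (Fin n₁) (G k) :=
    Sum.elim (fun c => bind₁ V' (map θ₁.toRingHom (F₂ c))) (fun l => X l - bind₁ V' (U' l))
  have h₂ : ∀ x, map (S.g k).toRingHom (a₂ x) ∈ Ideal.span (Set.range fun c =>
      map (S.g k).toRingHom (map θ₁.toRingHom (F₂ c))) := by
    simp only [map_reach S hθ₁]
    rintro (c | l)
    · simp only [a₂, Sum.elim_inl, map_bind₁, hU', map_reach S hθ₁]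
      exact hiA c
    · simp only [a₂, Sum.elim_inr, map_sub, map_X, map_bind₁, hU', hV']
      exact hivA l
  have h₁ : ∀ x, map (S.g k).toRingHom (a₁ x) ∈ Ideal.span (Set.range fun c =>
      map (S.g k).toRingHom (map θ₁.toRingHom (F₁ c))) := by
    simp only [map_reach S hθ₁]
    rintro (c | l)
    · simp only [a₁, Sum.elim_inl, map_bind₁, hV', map_reach S hθ₁]
      exact hiiA c
    · simp only [a₁, Sum.elim_inr, map_sub, map_X, map_bind₁, hU', hV']
      exact hiiiA l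
  obtain ⟨j, θ₂, hθ₂, hm₂, hm₁⟩ := exists_reach_mem_span_family₂ S k a₂
    (fun c => map θ₁.toRingHom (F₂ c)) h₂ a₁ (fun c => map θ₁.toRingHom (F₁ c)) h₁
  let θ : G i₀ →ₐ[A₀] G j := θ₂.comp θ₁
  have hθ : Reach S i₀ j θ := hθ₁.trans S hθ₂
  let U'' : Fin n₁ → MvPolynomial (Fin n₂) (G j) := fun a => map θ₂.toRingHom (U' a)
  let V'' : Fin n₂ → MvPolynomial (Fin n₁) (G j) := fun a => map θ₂.toRingHom (V' a)
  have hi : ∀ c, bind₁ U'' (map θ.toRingHom (F₁ c)) ∈
      Ideal.span (Set.range fun c => map θ.toRingHom (F₂ c)) := fun c => by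
    have := hm₂ (Sum.inl c)
    simp only [a₂, Sum.elim_inl, map_bind₁] at this
    simp only [θ, map_comp_apply]
    exact this
  have hii : ∀ c, bind₁ V'' (map θ.toRingHom (F₂ c)) ∈
      Ideal.span (Set.range fun c => map θ.toRingHom (F₁ c)) := fun c => by
    have := hm₁ (Sum.inl c)
    simp only [a₁, Sum.elim_inl, map_bind₁] at this
    simp only [θ, map_comp_apply]
    exact this
  have hiii : ∀ l, X l - bind₁ V'' (U'' l) ∈
      Ideal.span (Set.range fun c => map θ.toRingHom (F₁ c)) := fun l => by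
    have := hm₁ (Sum.inr l)
    simp only [a₁, Sum.elim_inr, map_sub, map_X, map_bind₁] at this
    simp only [θ, map_comp_apply]
    exact this
  have hiv : ∀ l, X l - bind₁ U'' (V'' l) ∈
      Ideal.span (Set.range fun c => map θ.toRingHom (F₂ c)) := fun l => by
    have := hm₂ (Sum.inr l)
    simp only [a₂, Sum.elim_inr, map_sub, map_X, map_bind₁] at this
    simp only [θ, map_comp_apply]
    exact this
  refine ⟨j, θ, hθ, substEquiv _ _ U'' V'' hi hii hiii hiv, ?_⟩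
  intro z
  obtain ⟨p, rfl⟩ := Ideal.Quotient.mk_surjective z
  rw [substEquiv_mk, qmap_mk, qmap_mk, ← keyU, map_bind₁]
  have : (fun a => map (S.g j).toRingHom (U'' a)) = U := by
    funext a
    simp only [U'']
    rw [map_reach S hθ₂, hU']
  rw [this]

end Main

end Groth.Agent.H46.IsoDesc
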