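import Mathlib

/-!
# If the limit is affine over `S`, then so is some stage (and all later ones)
-/

universe u

open AlgebraicGeometry CategoryTheory TopologicalSpace Opposite Limits

namespace Groth.Agent.H46

set_option backward.isDefEq.respectTransparency false in
theorem eventually_isAffineHom_of_isLimit {I : Type u} [SmallCategory I] [IsCofiltered I]
    (S : Scheme.{u}) [CompactSpace S] [QuasiSeparatedSpace S]
    (D : I ⥤ Scheme.{u}) (t : D ⟶ (Functor.const I).obj S) (c : Limits.Cone D)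
    (hc : Limits.IsLimit c)
    [∀ (i j : I) (a : i ⟶ j), IsAffineHom (D.map a)]
    [∀ i, CompactSpace (D.obj i)] [∀ i, QuasiSeparatedSpace (D.obj i)] (i₀ : I)
    [IsAffineHom (c.π.app i₀ ≫ t.app i₀)] :
    ∃ i₁ : I, ∀ (i : I) (_ : i ⟶ i₁), IsAffineHom (t.app i) := by
  classical
  have _aff : ∀ {i j : I} (f : i ⟶ j), IsAffineHom (D.map f) := fun f => inferInstance
  let 𝒰 := S.affineCover.finiteSubcover
  let Sk : 𝒰.I₀ → S.affineOpens := fun k => ⟨(𝒰.f k).opensRange, isAffineOpen_opensRange _⟩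
  have hcov : ⨆ k, (Sk k : S.Opens) = ⊤ := 𝒰.iSup_opensRange
  have hnat : ∀ {i j : I} (φ : i ⟶ j), D.map φ ≫ t.app j = t.app i := by
    intro i j φ
    have := t.naturality φ
    simp only [Functor.const_obj_obj, Functor.const_obj_map, Category.comp_id] at this
    exact this
  -- for each `k`, some stage has affine preimage of `S_k`
  have key : ∀ k : 𝒰.I₀, ∃ j : Over i₀, IsAffineOpen (t.app j.left ⁻¹ᵁ (Sk k : S.Opens)) := by
    intro k
    let Uk : (D.obj i₀).Opens := t.app i₀ ⁻¹ᵁ (Sk k : S.Opens)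
    have _qc : QuasiCompact (t.app i₀) := quasiCompact_of_compactSpace (Y := S) (t.app i₀)
    have hUk : IsCompact (Uk : Set (D.obj i₀)) :=
      QuasiCompact.isCompact_preimage (f := t.app i₀) _ (Sk k : S.Opens).2 (Sk k).2.isCompact
    have h1 (j : Over i₀) : CompactSpace ((opensDiagram D i₀ Uk).obj j) :=
      isCompact_iff_compactSpace.mp (QuasiCompact.isCompact_preimage _ Uk.2 hUk)
    have h2 (j : Over i₀) : QuasiSeparatedSpace ((opensDiagram D i₀ Uk).obj j) :=
      (isQuasiSeparated_iff_quasiSeparatedSpace _ (D.map _ ⁻¹ᵁ _).2).mp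
        (.of_quasiSeparatedSpace _)
    have h3 : IsAffine (opensCone D c i₀ Uk).pt := by
      change IsAffineOpen (c.π.app i₀ ⁻¹ᵁ (t.app i₀ ⁻¹ᵁ (Sk k : S.Opens)))
      rw [← Scheme.Hom.comp_preimage]
      exact (Sk k).2.preimage _
    obtain ⟨j, hj⟩ := Scheme.exists_isAffine_of_isLimit _ _ (isLimitOpensCone D c hc i₀ Uk)
    refine ⟨j, ?_⟩
    have e : t.app j.left ⁻¹ᵁ (Sk k : S.Opens) = D.map j.hom ⁻¹ᵁ Uk := by
      change _ = D.map j.hom ⁻¹ᵁ (t.app i₀ ⁻¹ᵁ (Sk k : S.Opens))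
      rw [← Scheme.Hom.comp_preimage, hnat j.hom]
    rw [e]
    exact hj
  choose j hj using key
  obtain ⟨i₁, fi⟩ := IsCofiltered.inf_objs_exists (Finset.univ.image fun k => (j k).left)
  replace fi : ∀ k, i₁ ⟶ (j k).left := fun k => (fi (by simp)).some
  refine ⟨i₁, fun i a => ?_⟩
  rw [HasAffineProperty.iff_of_iSup_eq_top (P := @IsAffineHom) Sk hcov]
  intro k
  change IsAffineOpen (t.app i ⁻¹ᵁ (Sk k : S.Opens))
  have e : t.app i ⁻¹ᵁ (Sk k : S.Opens) =
      D.map (a ≫ fi k) ⁻¹ᵁ (t.app (j k).left ⁻¹ᵁ (Sk k : S.Opens)) := by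
    rw [← Scheme.Hom.comp_preimage, hnat (a ≫ fi k)]
  rw [e]
  exact (hj k).preimage _

end Groth.Agent.H46
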