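import Mathlib
import Groth.Prelude.Def_Flat
import Groth.Agent.H24.LimitBaseChange
import Groth.Agent.H24.LimitTopLimit
import Groth.Agent.H24.LimitProCons
import Groth.Agent.H17.ProConsClosed
import Groth.Agent.H17.Chev.Closed
import Groth.Agent.H49.FibreDimAtBC
import Groth.Agent.H46.FibreDimClosedFP

/-!
# Bounded fibre dimension descends to a stage, for a system of morphisms
-/

set_option autoImplicit false
universe u
open CategoryTheory CategoryTheory.Limits AlgebraicGeometry TopologicalSpace Topology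

namespace Groth.Agent.H46.LimitFibreDimSys

open Groth.Agent.H46.FibreDimClosed Groth.Agent.H17.Chev Groth.Agent.H24

/-- Fibre dimension can only drop along a closed immersion into a base change. -/
theorem fibreDimAt_le_of_isClosedImmersion_lift {X' S' X S : Scheme.{u}} (g : X ⟶ S)
    [LocallyOfFiniteType g] (t : S' ⟶ S) (g' : X' ⟶ S') (a : X' ⟶ X) (comm : a ≫ g = g' ≫ t)
    [IsClosedImmersion (pullback.lift a g' comm)] (x : X') :
    FlatMor.fibreDimAt g' x ≤ FlatMor.fibreDimAt g (a.base x) := by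
  set k := pullback.lift a g' comm with hk
  have h1 : g' = k ≫ pullback.snd g t := (pullback.lift_snd _ _ _).symm
  have h2 : a = k ≫ pullback.fst g t := (pullback.lift_fst _ _ _).symm
  have e1 : FlatMor.fibreDimAt g' x = FlatMor.fibreDimAt (k ≫ pullback.snd g t) x := by
    rw [← h1]
  rw [e1, fibreDimAt_comp_eq k k.isEmbedding (pullback.snd g t) x]
  have e2 : FlatMor.fibreDimAt g (a.base x) =
      FlatMor.fibreDimAt (pullback.snd g t) (k.base x) := by
    rw [Groth.Agent.H49.FibreDimAtBC.fibreDimAt_eq_of_isPullback g t (pullback.snd g t)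
      (pullback.fst g t) (IsPullback.of_hasPullback g t) (k.base x)]
    congr 1
    rw [h2]
    rfl
  rw [e2, fibreDimAt_eq]
  exact localDim_subtype_mono Set.inter_subset_right _ _

section Sys

variable {I : Type u} [SmallCategory I]
  (DX DS : I ⥤ Scheme.{u}) (φ : DX ⟶ DS) (cX : Cone DX) (cS : Cone DS)
  (f : cX.pt ⟶ cS.pt) (hf : ∀ i, f ≫ cS.π.app i = cX.π.app i ≫ φ.app i) (i₀ : I)

/-- The map from `X_i` to the base change of `X_{i₀}` to `S_i`. -/
noncomputable def kmap (ψ : Over i₀) :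
    DX.obj ψ.left ⟶ pullback (DS.map ψ.hom) (φ.app i₀) :=
  pullback.lift (φ.app ψ.left) (DX.map ψ.hom) (φ.naturality ψ.hom).symm

@[reassoc (attr := simp)]
theorem kmap_fst (ψ : Over i₀) :
    kmap DX DS φ i₀ ψ ≫ pullback.fst (DS.map ψ.hom) (φ.app i₀) = φ.app ψ.left :=
  pullback.lift_fst _ _ _

@[reassoc (attr := simp)]
theorem kmap_snd (ψ : Over i₀) :
    kmap DX DS φ i₀ ψ ≫ pullback.snd (DS.map ψ.hom) (φ.app i₀) = DX.map ψ.hom :=
  pullback.lift_snd _ _ _

theorem kmap_eq (ψ : Over i₀) :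
    kmap DX DS φ i₀ ψ = pullback.lift (DX.map ψ.hom) (φ.app ψ.left) (φ.naturality ψ.hom) ≫
      (pullbackSymmetry _ _).hom := by
  apply pullback.hom_ext
  · rw [kmap_fst, Category.assoc, pullbackSymmetry_hom_comp_fst, pullback.lift_snd]
  · rw [kmap_snd, Category.assoc, pullbackSymmetry_hom_comp_snd, pullback.lift_fst]

theorem isClosedImmersion_kmap
    (hcl : ∀ (i j : I) (a : i ⟶ j),
      IsClosedImmersion (pullback.lift (DX.map a) (φ.app i) (φ.naturality a)))
    (ψ : Over i₀) : IsClosedImmersion (kmap DX DS φ i₀ ψ) := by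
  rw [kmap_eq]
  have := hcl ψ.left i₀ ψ.hom
  infer_instance

set_option backward.isDefEq.respectTransparency false in
theorem kmap_naturality {ψ' ψ : Over i₀} (b : ψ' ⟶ ψ) :
    DX.map b.left ≫ kmap DX DS φ i₀ ψ =
      kmap DX DS φ i₀ ψ' ≫ (pullbackDiagram DS i₀ (φ.app i₀)).map b := by
  apply pullback.hom_ext
  · rw [Category.assoc, kmap_fst, Category.assoc, pullbackDiagram_map_fst, kmap_fst_assoc]
    exact φ.naturality b.left
  · rw [Category.assoc, kmap_snd, Category.assoc, pullbackDiagram_map_snd, kmap_snd,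
      ← DX.map_comp, Over.w b]

/-- The map from the limit `X` to the base change of `X_{i₀}` to `S`. -/
noncomputable def qmap : cX.pt ⟶ pullback (cS.π.app i₀) (φ.app i₀) :=
  pullback.lift f (cX.π.app i₀) (hf i₀)

@[reassoc (attr := simp)]
theorem qmap_fst :
    qmap DX DS φ cX cS f hf i₀ ≫ pullback.fst (cS.π.app i₀) (φ.app i₀) = f :=
  pullback.lift_fst _ _ _

@[reassoc (attr := simp)]
theorem qmap_snd :
    qmap DX DS φ cX cS f hf i₀ ≫ pullback.snd (cS.π.app i₀) (φ.app i₀) = cX.π.app i₀ :=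
  pullback.lift_snd _ _ _

set_option backward.isDefEq.respectTransparency false in
theorem qmap_π (ψ : Over i₀) :
    qmap DX DS φ cX cS f hf i₀ ≫ (pullbackCone DS cS i₀ (φ.app i₀)).π.app ψ =
      cX.π.app ψ.left ≫ kmap DX DS φ i₀ ψ := by
  apply pullback.hom_ext
  · rw [Category.assoc, pullbackCone_π_fst, qmap_fst_assoc, Category.assoc, kmap_fst]
    exact hf ψ.left
  · rw [Category.assoc, pullbackCone_π_snd, qmap_snd, Category.assoc, kmap_snd]
    exact (cX.w ψ.hom).symm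

/-- The closed subset of `S ×_{S_{i₀}} X_{i₀}` of points lying in `X_i ×_{S_i} S`. -/
def Cset (ψ : Over i₀) : Set ↥(pullback (cS.π.app i₀) (φ.app i₀)) :=
  ((pullbackCone DS cS i₀ (φ.app i₀)).π.app ψ).base ⁻¹' Set.range (kmap DX DS φ i₀ ψ).base

theorem isClosed_Cset (ψ : Over i₀) [IsClosedImmersion (kmap DX DS φ i₀ ψ)] :
    IsClosed (Cset DX DS φ cS i₀ ψ) :=
  (kmap DX DS φ i₀ ψ).isClosedEmbedding.isClosed_range.preimage
    ((pullbackCone DS cS i₀ (φ.app i₀)).π.app ψ).continuous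

set_option backward.isDefEq.respectTransparency false in
theorem Cset_antitone {ψ' ψ : Over i₀} (b : ψ' ⟶ ψ) :
    Cset DX DS φ cS i₀ ψ' ⊆ Cset DX DS φ cS i₀ ψ := by
  rintro p ⟨x, hx⟩
  refine ⟨DX.map b.left x, ?_⟩
  have h1 := congrArg (fun g => g.base x) (kmap_naturality DX DS φ i₀ b)
  have h2 := congrArg (fun g => g.base p) ((pullbackCone DS cS i₀ (φ.app i₀)).w b)
  have h3 := congrArg (fun y => ((pullbackDiagram DS i₀ (φ.app i₀)).map b).base y) hx
  exact h1.trans (h3.trans h2)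

set_option backward.isDefEq.respectTransparency false in
theorem qmap_mem_Cset (ψ : Over i₀) (z : cX.pt) :
    (qmap DX DS φ cX cS f hf i₀).base z ∈ Cset DX DS φ cS i₀ ψ := by
  refine ⟨cX.π.app ψ.left z, ?_⟩
  exact (congrArg (fun g => g.base z) (qmap_π DX DS φ cX cS f hf i₀ ψ)).symm

set_option backward.isDefEq.respectTransparency false in
/-- The fibre dimension of `X_i → S_i` at the image of `z`, computed inside
`S ×_{S_{i₀}} X_{i₀}`. -/
theorem fibreDimAt_stage_eq (ψ : Over i₀) [LocallyOfFiniteType (φ.app ψ.left)]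
    [IsClosedImmersion (kmap DX DS φ i₀ ψ)] (z : cX.pt) :
    FlatMor.fibreDimAt (φ.app ψ.left) ((cX.π.app ψ.left).base z) =
      FlatMor.localDim ↥(Cset DX DS φ cS i₀ ψ ∩
        (pullback.fst (cS.π.app i₀) (φ.app i₀)).base ⁻¹'
          {(pullback.fst (cS.π.app i₀) (φ.app i₀)).base ((qmap DX DS φ cX cS f hf i₀).base z)})
        ⟨(qmap DX DS φ cX cS f hf i₀).base z, qmap_mem_Cset DX DS φ cX cS f hf i₀ ψ z, rfl⟩ := by
  let ρ := (pullbackCone DS cS i₀ (φ.app i₀)).π.app ψ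
  let k := kmap DX DS φ i₀ ψ
  let fstP := pullback.fst (cS.π.app i₀) (φ.app i₀)
  have hA : IsPullback (pullback.fst k ρ) (pullback.snd k ρ) k ρ := IsPullback.of_hasPullback k ρ
  have hB := isPullback_pullbackCone_π DS cS i₀ (φ.app i₀) ψ
  have hAB := hA.paste_vert hB
  have hk1 : k ≫ pullback.fst (DS.map ψ.hom) (φ.app i₀) = φ.app ψ.left := kmap_fst DX DS φ i₀ ψ
  rw [hk1] at hAB
  have hcomm : k.base ((cX.π.app ψ.left).base z) =
      ρ.base ((qmap DX DS φ cX cS f hf i₀).base z) :=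
    (congrArg (fun g => g.base z) (qmap_π DX DS φ cX cS f hf i₀ ψ)).symm
  obtain ⟨w, hw1, hw2⟩ := Scheme.Pullback.exists_preimage_pullback (f := k) (g := ρ) _ _ hcomm
  have e1 := Groth.Agent.H49.FibreDimAtBC.fibreDimAt_eq_of_isPullback (φ.app ψ.left)
    (cS.π.app ψ.left) (pullback.snd k ρ ≫ fstP) (pullback.fst k ρ) hAB w
  have hw1' : (pullback.fst k ρ).base w = (cX.π.app ψ.left).base z := hw1
  have hw2' : (pullback.snd k ρ).base w = (qmap DX DS φ cX cS f hf i₀).base z := hw2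
  rw [hw1'] at e1
  rw [← e1, fibreDimAt_comp_eq (pullback.snd k ρ) (pullback.snd k ρ).isEmbedding fstP w]
  have hr : Set.range (pullback.snd k ρ).base = Cset DX DS φ cS i₀ ψ :=
    Scheme.Pullback.range_snd k ρ
  have hset : Set.range (pullback.snd k ρ).base ∩
      fstP.base ⁻¹' {fstP.base ((pullback.snd k ρ).base w)} =
      Cset DX DS φ cS i₀ ψ ∩ fstP.base ⁻¹'
        {fstP.base ((qmap DX DS φ cX cS f hf i₀).base z)} := by
    rw [hr, hw2']
  have hpt : (⟨(pullback.snd k ρ).base w, ⟨w, rfl⟩, rfl⟩ :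
      ↥(Set.range (pullback.snd k ρ).base ∩
        fstP.base ⁻¹' {fstP.base ((pullback.snd k ρ).base w)})) =
      ⟨(qmap DX DS φ cX cS f hf i₀).base z, by rw [hw2'.symm]; exact ⟨⟨w, rfl⟩, rfl⟩⟩ :=
    Subtype.ext hw2'
  rw [hpt]
  exact localDim_congr_set hset _ _ _

section Lim

variable [IsCofiltered I] [∀ {i j : I} (a : i ⟶ j), IsAffineHom (DS.map a)]
  [∀ {i j : I} (a : i ⟶ j), IsAffineHom (DX.map a)]
  (hX : IsLimit cX) (hS : IsLimit cS)
  (hk : ∀ ψ : Over i₀, IsClosedImmersion (kmap DX DS φ i₀ ψ))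

omit [∀ {i j : I} (a : i ⟶ j), IsAffineHom (DX.map a)] [IsCofiltered I] in
theorem isAffineHom_pullbackDiagram_map {ψ' ψ : Over i₀} (b : ψ' ⟶ ψ) :
    IsAffineHom ((pullbackDiagram DS i₀ (φ.app i₀)).map b) :=
  MorphismProperty.of_isPullback (P := @IsAffineHom)
    (isPullback_pullbackDiagram_map DS i₀ (φ.app i₀) b).flip inferInstance

set_option backward.isDefEq.respectTransparency false in
include hX hS hk in
/-- A point of `S ×_{S_{i₀}} X_{i₀}` lying in all `X_i ×_{S_i} S` comes from `X`. -/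
theorem iInter_Cset_subset_range :
    ⋂ ψ : Over i₀, Cset DX DS φ cS i₀ ψ ⊆ Set.range (qmap DX DS φ cX cS f hf i₀).base := by
  intro p hp
  rw [Set.mem_iInter] at hp
  choose x hx using hp
  have haffP : ∀ {ψ' ψ : Over i₀} (b : ψ' ⟶ ψ),
      IsAffineHom ((pullbackDiagram DS i₀ (φ.app i₀)).map b) :=
    fun b => isAffineHom_pullbackDiagram_map DX DS φ i₀ b
  have haffX : ∀ {ψ' ψ : Over i₀} (b : ψ' ⟶ ψ), IsAffineHom ((Over.forget i₀ ⋙ DX).map b) :=
    fun b => isAffineHom_over DX i₀ b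
  have hcompat : ∀ {ψ' ψ : Over i₀} (b : ψ' ⟶ ψ),
      ((Over.forget i₀ ⋙ DX).map b).base (x ψ') = x ψ := by
    intro ψ' ψ b
    have := hk ψ
    apply (kmap DX DS φ i₀ ψ).isEmbedding.injective
    have h1 := congrArg (fun g => g.base (x ψ')) (kmap_naturality DX DS φ i₀ b)
    have h2 := congrArg (fun g => g.base p) ((pullbackCone DS cS i₀ (φ.app i₀)).w b)
    have h3 := congrArg (fun y => ((pullbackDiagram DS i₀ (φ.app i₀)).map b).base y) (hx ψ')
    exact (h1.trans (h3.trans h2)).trans (hx ψ).symm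
  obtain ⟨z, hz⟩ := exists_point_of_compatible (Over.forget i₀ ⋙ DX)
    (cX.whisker (Over.forget i₀)) (isLimitOverCone DX cX hX i₀) x hcompat
  refine ⟨z, ?_⟩
  apply ext_point (pullbackDiagram DS i₀ (φ.app i₀)) (pullbackCone DS cS i₀ (φ.app i₀))
    (isLimitPullbackCone DS cS i₀ (φ.app i₀) hS)
  intro ψ
  have h1 := congrArg (fun g => g.base z) (qmap_π DX DS φ cX cS f hf i₀ ψ)
  have h2 := congrArg (fun y => (kmap DX DS φ i₀ ψ).base y) (hz ψ)
  exact h1.trans (h2.trans (hx ψ))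

set_option backward.isDefEq.respectTransparency false in
include hX hS hk in
/-- `X → S ×_{S_{i₀}} X_{i₀}` is a topological embedding. -/
theorem isEmbedding_qmap : IsEmbedding (qmap DX DS φ cX cS f hf i₀).base := by
  have haffP : ∀ {ψ' ψ : Over i₀} (b : ψ' ⟶ ψ),
      IsAffineHom ((pullbackDiagram DS i₀ (φ.app i₀)).map b) :=
    fun b => isAffineHom_pullbackDiagram_map DX DS φ i₀ b
  have haffX : ∀ {ψ' ψ : Over i₀} (b : ψ' ⟶ ψ), IsAffineHom ((Over.forget i₀ ⋙ DX).map b) :=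
    fun b => isAffineHom_over DX i₀ b
  have hcomm : ∀ (ψ : Over i₀) (z : cX.pt),
      ((pullbackCone DS cS i₀ (φ.app i₀)).π.app ψ).base ((qmap DX DS φ cX cS f hf i₀).base z) =
        (kmap DX DS φ i₀ ψ).base ((cX.π.app ψ.left).base z) := fun ψ z =>
    congrArg (fun g => g.base z) (qmap_π DX DS φ cX cS f hf i₀ ψ)
  refine ⟨?_, ?_⟩
  · rw [Topology.isInducing_iff]
    have hXtop := topology_eq_iInf (Over.forget i₀ ⋙ DX) (cX.whisker (Over.forget i₀))
      (isLimitOverCone DX cX hX i₀)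
    have hPtop := topology_eq_iInf (pullbackDiagram DS i₀ (φ.app i₀))
      (pullbackCone DS cS i₀ (φ.app i₀)) (isLimitPullbackCone DS cS i₀ (φ.app i₀) hS)
    refine hXtop.trans ?_
    refine Eq.trans ?_ (congrArg (TopologicalSpace.induced (qmap DX DS φ cX cS f hf i₀).base)
      hPtop).symm
    rw [induced_iInf]
    congr 1
    funext ψ
    have := hk ψ
    rw [induced_compose]
    have h1 : (DX.obj ψ.left).carrier.str = TopologicalSpace.induced (kmap DX DS φ i₀ ψ).base
        ((pullbackDiagram DS i₀ (φ.app i₀)).obj ψ).carrier.str :=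
      (kmap DX DS φ i₀ ψ).isEmbedding.isInducing.eq_induced
    change TopologicalSpace.induced (cX.π.app ψ.left).base (DX.obj ψ.left).carrier.str = _
    rw [h1, induced_compose]
    congr 1
    funext z
    exact (hcomm ψ z).symm
  · intro z z' h
    apply ext_point (Over.forget i₀ ⋙ DX) (cX.whisker (Over.forget i₀))
      (isLimitOverCone DX cX hX i₀)
    intro ψ
    have := hk ψ
    apply (kmap DX DS φ i₀ ψ).isEmbedding.injective
    exact (hcomm ψ z).symm.trans ((congrArg _ h).trans (hcomm ψ z'))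

set_option backward.isDefEq.respectTransparency false in
include hf hX hS hk in
/-- **Pointwise descent**: around every point of the limit, some stage has small fibre
dimension. -/
theorem exists_stage_fibreDimAt_le [∀ i, LocallyOfFiniteType (φ.app i)] [QuasiCompact (φ.app i₀)]
    (d : ℕ) (hd : ∀ s : cS.pt, topologicalKrullDim ↥(f.fiber s) ≤ d) (z : cX.pt) :
    ∃ ψ : Over i₀, FlatMor.fibreDimAt (φ.app ψ.left) ((cX.π.app ψ.left).base z) ≤ d := by
  have := hk
  let q := qmap DX DS φ cX cS f hf i₀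
  let fstP := pullback.fst (cS.π.app i₀) (φ.app i₀)
  have hN : NoetherianSpace ↥(fstP.base ⁻¹' {fstP.base (q.base z)}) :=
    Groth.Agent.H46.FibreDimClosedFP.noetherianSpace_preimage fstP _
  let C : Over i₀ → Closeds ↥(fstP.base ⁻¹' {fstP.base (q.base z)}) := fun ψ =>
    ⟨Subtype.val ⁻¹' Cset DX DS φ cS i₀ ψ,
      (isClosed_Cset DX DS φ cS i₀ ψ).preimage continuous_subtype_val⟩
  have hwf : WellFoundedLT (Closeds ↥(fstP.base ⁻¹' {fstP.base (q.base z)})) := inferInstance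
  obtain ⟨_, ⟨ψ₀, rfl⟩, hmin⟩ := hwf.wf.has_min (Set.range C) ⟨_, ⟨Over.mk (𝟙 i₀), rfl⟩⟩
  have hle : ∀ ψ, C ψ₀ ≤ C ψ := by
    intro ψ
    let ψ' := IsCofiltered.min ψ ψ₀
    have h1 : C ψ' ≤ C ψ := fun x hx =>
      Cset_antitone DX DS φ cS i₀ (IsCofiltered.minToLeft ψ ψ₀) hx
    have h0 : C ψ' ≤ C ψ₀ := fun x hx =>
      Cset_antitone DX DS φ cS i₀ (IsCofiltered.minToRight ψ ψ₀) hx
    have : C ψ' = C ψ₀ := by
      by_contra hne
      exact hmin (C ψ') ⟨ψ', rfl⟩ (lt_of_le_of_ne h0 hne)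
    rw [← this]
    exact h1
  have hsub : Cset DX DS φ cS i₀ ψ₀ ∩ fstP.base ⁻¹' {fstP.base (q.base z)} ⊆
      Set.range q.base ∩ fstP.base ⁻¹' {fstP.base (q.base z)} := by
    rintro x ⟨hx0, hxs⟩
    refine ⟨iInter_Cset_subset_range DX DS φ cX cS f hf i₀ hX hS hk ?_, hxs⟩
    rw [Set.mem_iInter]
    intro ψ
    exact hle ψ (show (⟨x, hxs⟩ : ↥(fstP.base ⁻¹' {fstP.base (q.base z)})) ∈ C ψ₀ from hx0)
  refine ⟨ψ₀, ?_⟩
  rw [fibreDimAt_stage_eq DX DS φ cX cS f hf i₀ ψ₀ z]
  refine (localDim_subtype_mono hsub _ _).trans ?_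
  have hemb := isEmbedding_qmap DX DS φ cX cS f hf i₀ hX hS hk
  have e1 := fibreDimAt_comp_eq q hemb fstP z
  have hqf : q ≫ fstP = f := qmap_fst DX DS φ cX cS f hf i₀
  rw [hqf] at e1
  rw [← e1]
  exact (fibreDimAt_le_dim_fiber f z).trans (hd _)

end Lim

end Sys

set_option backward.isDefEq.respectTransparency false in
/-- **Bounded fibre dimension descends to a stage**, for a system of morphisms of finite type
whose transition maps to the base changes are closed immersions. -/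
theorem main {I : Type u} [SmallCategory I] [IsCofiltered I]
    (DX DS : I ⥤ Scheme.{u}) (φ : DX ⟶ DS) (cX : Cone DX) (cS : Cone DS)
    (hX : IsLimit cX) (hS : IsLimit cS)
    [∀ (i j : I) (a : i ⟶ j), IsAffineHom (DS.map a)] [∀ i, CompactSpace (DS.obj i)]
    [∀ i, LocallyOfFiniteType (φ.app i)] [∀ i, QuasiCompact (φ.app i)]
    (hcl : ∀ (i j : I) (a : i ⟶ j),
      IsClosedImmersion (pullback.lift (DX.map a) (φ.app i) (φ.naturality a)))
    (f : cX.pt ⟶ cS.pt) (hf : ∀ i, f ≫ cS.π.app i = cX.π.app i ≫ φ.app i) (d : ℕ)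
    (hd : ∀ s : cS.pt, topologicalKrullDim ↥(f.fiber s) ≤ d) :
    ∃ i : I, ∀ s : DS.obj i, topologicalKrullDim ↥((φ.app i).fiber s) ≤ d := by
  have haffS : ∀ {i j : I} (a : i ⟶ j), IsAffineHom (DS.map a) := fun a => inferInstance
  have haffX : ∀ {i j : I} (a : i ⟶ j), IsAffineHom (DX.map a) := by
    intro i j a
    have := hcl i j a
    have h1 : IsAffineHom (pullback.fst (φ.app j) (DS.map a)) :=
      MorphismProperty.pullback_fst (P := @IsAffineHom) _ _ inferInstance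
    have h2 : IsAffineHom (pullback.lift (DX.map a) (φ.app i) (φ.naturality a)) := inferInstance
    rw [← pullback.lift_fst (DX.map a) (φ.app i) (φ.naturality a)]
    infer_instance
  have hcompX : ∀ i, CompactSpace (DX.obj i) := fun i =>
    QuasiCompact.compactSpace_of_compactSpace (φ.app i)
  have hcomp : CompactSpace cX.pt := Scheme.compactSpace_of_isLimit DX cX hX
  let bad : ∀ i, Set (DX.obj i) := fun i =>
    {x | ((d + 1 : ℕ) : WithBot ℕ∞) ≤ FlatMor.fibreDimAt (φ.app i) x}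
  have hbadc : ∀ i, IsClosed (bad i) := fun i => isClosed_setOf_le_fibreDimAt (φ.app i) (d + 1)
  have hmono : ∀ {i j : I} (a : i ⟶ j) (x : DX.obj i), x ∈ bad i → (DX.map a).base x ∈ bad j := by
    intro i j a x hx
    have := hcl i j a
    exact le_trans hx (fibreDimAt_le_of_isClosedImmersion_lift (φ.app j) (DS.map a) (φ.app i)
      (DX.map a) (φ.naturality a) x)
  obtain ⟨i₀⟩ := IsCofiltered.nonempty (C := I)
  have hk : ∀ ψ : Over i₀, IsClosedImmersion (kmap DX DS φ i₀ ψ) :=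
    isClosedImmersion_kmap DX DS φ i₀ hcl
  let T : Over i₀ → Set cX.pt := fun ψ => (cX.π.app ψ.left).base ⁻¹' bad ψ.left
  have hTc : ∀ ψ, IsClosed (T ψ) := fun ψ => (hbadc ψ.left).preimage (cX.π.app ψ.left).continuous
  have hTmono : ∀ {ψ' ψ : Over i₀} (b : ψ' ⟶ ψ), T ψ' ⊆ T ψ := by
    intro ψ' ψ b z hz
    have h1 : (DX.map b.left).base ((cX.π.app ψ'.left).base z) = (cX.π.app ψ.left).base z :=
      congrArg (fun g => g.base z) (cX.w b.left)
    change (cX.π.app ψ.left).base z ∈ bad ψ.left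
    rw [← h1]
    exact hmono b.left _ hz
  have hTdir : Directed (· ⊇ ·) T := fun ψ₁ ψ₂ =>
    ⟨IsCofiltered.min ψ₁ ψ₂, hTmono (IsCofiltered.minToLeft ψ₁ ψ₂),
      hTmono (IsCofiltered.minToRight ψ₁ ψ₂)⟩
  have hTempty : ⋂ ψ, T ψ = ∅ := by
    rw [Set.eq_empty_iff_forall_notMem]
    intro z hz
    rw [Set.mem_iInter] at hz
    obtain ⟨ψ, hψ⟩ := exists_stage_fibreDimAt_le DX DS φ cX cS f hf i₀ hX hS hk d hd z
    have h1 : ((d + 1 : ℕ) : WithBot ℕ∞) ≤ d := le_trans (hz ψ) hψ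
    have h2 : (d + 1 : ℕ) ≤ d := by exact_mod_cast h1
    omega
  have : Nonempty (Over i₀) := ⟨Over.mk (𝟙 i₀)⟩
  obtain ⟨ψ₁, hψ₁⟩ := isCompact_univ.elim_directed_family_closed T hTc
    (by rw [Set.univ_inter]; exact hTempty) hTdir
  rw [Set.univ_inter] at hψ₁
  have hpc : ProCons.IsProConstructible (bad ψ₁.left) :=
    Groth.Agent.H17.isProConstructible_of_isClosed (hbadc ψ₁.left)
  obtain ⟨j, a, ha⟩ := eventuallyEmpty_of_isProConstructible DX cX hX hpc hψ₁
  refine ⟨j, fun s => ?_⟩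
  by_contra hcon
  obtain ⟨x, -, hxd⟩ := (le_dim_fiber_iff (φ.app j) s (d + 1)).mp
    (Groth.Agent.H46.FibreDimClosedFP.succ_le_of_not_le hcon)
  have : x ∈ (DX.map a).base ⁻¹' bad ψ₁.left := hmono a x hxd
  rw [ha] at this
  exact this

end Groth.Agent.H46.LimitFibreDimSys
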