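import Mathlib
import Groth.Agent.H24.LimitLocus
import Groth.Agent.H24.LimitLocusIff

/-!
# Pointwise descent of source-local properties to a stage of a cofiltered limit, for properties
which are only known to be stable under postcomposition with open immersions

Variants of `Groth.Agent.H24.exists_stage_of_mem`, `exists_stageMap_of_core` and
`iff_exists_stage_of_core` (helper24), in which stability under composition is replaced by
`P.Respects @IsOpenImmersion`.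
-/

set_option autoImplicit false
universe u
open CategoryTheory CategoryTheory.Limits AlgebraicGeometry Groth.Agent.H24

namespace Groth.Agent.H46.LimitLocusResp

section Pointwise

variable {I : Type u} [Category.{u} I] [IsCofiltered I] (D : I ⥤ Scheme.{u}) (c : Cone D)
  [∀ {i j} (f : i ⟶ j), IsAffineHom (D.map f)] (i₀ : I)
  {X₀ Y₀ : Scheme.{u}} (f₀ : X₀ ⟶ Y₀) (g₀ : Y₀ ⟶ D.obj i₀)

set_option backward.isDefEq.respectTransparency false in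
/-- **Pointwise descent.** If the limit map has `P` on an open neighbourhood `U` of `x`, then some
stage map has `P` on an open neighbourhood of the image of `x`. -/
theorem exists_stage_of_mem' (P : MorphismProperty Scheme.{u})
    [P.IsStableUnderBaseChange] [IsZariskiLocalAtSource P]
    (hOI : P.Respects @IsOpenImmersion)
    (hcore : CoreDescent P) (hc : IsLimit c) [LocallyOfFinitePresentation f₀]
    (U : (pullbackCone D c i₀ (f₀ ≫ g₀)).pt.Opens) (hU : P (U.ι ≫ limMap D c i₀ f₀ g₀))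
    (x : (pullbackCone D c i₀ (f₀ ≫ g₀)).pt) (hx : x ∈ U) :
    ∃ (ψ : Over i₀) (W : ((pullbackDiagram D i₀ (f₀ ≫ g₀)).obj ψ).Opens),
      (pullbackCone D c i₀ (f₀ ≫ g₀)).π.app ψ x ∈ W ∧ P (W.ι ≫ stageMap D i₀ f₀ g₀ ψ) := by
  let FY := pullbackDiagram D i₀ g₀
  let cY := pullbackCone D c i₀ g₀
  have hcY : IsLimit cY := isLimitPullbackCone D c i₀ g₀ hc
  let FX := pullbackDiagram D i₀ (f₀ ≫ g₀)
  let cX := pullbackCone D c i₀ (f₀ ≫ g₀)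
  have hcX : IsLimit cX := isLimitPullbackCone D c i₀ (f₀ ≫ g₀) hc
  have hFYaff : ∀ {φ ψ : Over i₀} (f : φ ⟶ ψ), IsAffineHom (FY.map f) := fun f =>
    MorphismProperty.of_isPullback (P := @IsAffineHom)
      (isPullback_pullbackDiagram_map D i₀ g₀ f).flip inferInstance
  have hFXaff : ∀ {φ ψ : Over i₀} (f : φ ⟶ ψ), IsAffineHom (FX.map f) := fun f =>
    MorphismProperty.of_isPullback (P := @IsAffineHom)
      (isPullback_pullbackDiagram_map D i₀ (f₀ ≫ g₀) f).flip inferInstance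
  obtain ⟨_, ⟨_, ⟨ψ₁, U₁, hU₁, rfl⟩, rfl⟩, hxU₁, hU₁U⟩ :=
    (isBasis_preimage_isAffineOpen FX cX hcX).exists_subset_of_mem_open hx U.2
  let x₁ : FX.obj ψ₁ := cX.π.app ψ₁ x
  obtain ⟨_, ⟨V₁, hV₁, rfl⟩, hyV₁, -⟩ :=
    (FY.obj ψ₁).isBasis_affineOpens.exists_subset_of_mem_open
      (Set.mem_univ (stageMap D i₀ f₀ g₀ ψ₁ x₁)) isOpen_univ
  have hx₁ : x₁ ∈ U₁ ⊓ stageMap D i₀ f₀ g₀ ψ₁ ⁻¹ᵁ rbV D i₀ g₀ ψ₁ V₁ := by
    refine ⟨hxU₁, ?_⟩
    rw [rbV_eq]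
    exact hyV₁
  obtain ⟨_, ⟨U₂, hU₂, rfl⟩, hxU₂, hU₂sub⟩ :=
    (FX.obj ψ₁).isBasis_affineOpens.exists_subset_of_mem_open hx₁
      (U₁ ⊓ stageMap D i₀ f₀ g₀ ψ₁ ⁻¹ᵁ rbV D i₀ g₀ ψ₁ V₁).2
  have hUV : U₂ ≤ stageMap D i₀ f₀ g₀ ψ₁ ⁻¹ᵁ rbV D i₀ g₀ ψ₁ V₁ := fun z hz => (hU₂sub hz).2
  have hU₂U₁ : U₂ ≤ U₁ := fun z hz => (hU₂sub hz).1
  -- the rebased all-affine problem
  have hAff : ∀ χ, IsAffine ((rbD D i₀ g₀ ψ₁ V₁).obj χ) := fun χ => hV₁.preimage _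
  have hU₂aff : IsAffine (U₂ : Scheme.{u}) := hU₂
  have hfp1 : LocallyOfFinitePresentation (stageMap D i₀ f₀ g₀ ψ₁) :=
    MorphismProperty.of_isPullback (P := @LocallyOfFinitePresentation)
      (isPullback_stageMap D i₀ f₀ g₀ ψ₁) inferInstance
  have hfp : LocallyOfFinitePresentation (rbG D i₀ f₀ g₀ ψ₁ V₁ U₂ hUV) := by
    unfold rbG
    infer_instance
  have hlim : P (limMap (rbD D i₀ g₀ ψ₁ V₁) (rbC D c i₀ g₀ ψ₁ V₁) (rbI i₀ ψ₁)
      (rbG D i₀ f₀ g₀ ψ₁ V₁ U₂ hUV) (𝟙 _)) := by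
    refine (rebase_limMap_resLE_iff D c i₀ f₀ g₀ ψ₁ V₁ U₂ hUV P).mpr ?_
    have hle : cX.π.app ψ₁ ⁻¹ᵁ U₂ ≤ U := fun z hz => hU₁U (hU₂U₁ hz)
    have h1 : P ((cX.π.app ψ₁ ⁻¹ᵁ U₂).ι ≫ limMap D c i₀ f₀ g₀) := by
      rw [← Scheme.homOfLE_ι _ hle, Category.assoc]
      exact IsZariskiLocalAtSource.comp hU _
    rw [← Scheme.Hom.resLE_comp_ι _ (preimage_le_preimage_cone D c i₀ f₀ g₀ ψ₁ V₁ U₂ hUV)] at h1
    exact P.of_postcomp (W' := @IsOpenImmersion) _ _ inferInstance h1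
  obtain ⟨χ, hχ⟩ := hcore (rbD D i₀ g₀ ψ₁ V₁) (rbC D c i₀ g₀ ψ₁ V₁)
    (isLimitOpensCone FY cY hcY ψ₁ V₁) (rbI i₀ ψ₁) (rbG D i₀ f₀ g₀ ψ₁ V₁ U₂ hUV) hlim
  replace hχ := (rebase_stageMap_resLE_iff D i₀ f₀ g₀ ψ₁ V₁ U₂ hUV P χ).mp hχ
  refine ⟨χ.left.left, FX.map χ.left.hom ⁻¹ᵁ U₂, ?_, ?_⟩
  · change FX.map χ.left.hom (cX.π.app χ.left.left x) ∈ U₂
    rw [← Scheme.Hom.comp_apply, cX.w]
    exact hxU₂
  · rw [← Scheme.Hom.resLE_comp_ι _ (preimage_le_preimage D i₀ f₀ g₀ ψ₁ V₁ U₂ hUV χ.left.hom)]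
    exact hOI.postcomp _ inferInstance _ hχ

set_option backward.isDefEq.respectTransparency false in
/-- **Global descent** for quasi-compact `X₀`. -/
theorem exists_stageMap_of_core' (P : MorphismProperty Scheme.{u})
    [P.IsStableUnderBaseChange] [IsZariskiLocalAtSource P]
    (hOI : P.Respects @IsOpenImmersion)
    (hcore : CoreDescent P) (hc : IsLimit c) [LocallyOfFinitePresentation f₀] [CompactSpace X₀]
    (h : P (limMap D c i₀ f₀ g₀)) : ∃ ψ : Over i₀, P (stageMap D i₀ f₀ g₀ ψ) := by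
  classical
  let FX := pullbackDiagram D i₀ (f₀ ≫ g₀)
  let cX := pullbackCone D c i₀ (f₀ ≫ g₀)
  have hcX : IsLimit cX := isLimitPullbackCone D c i₀ (f₀ ≫ g₀) hc
  have hFXaff : ∀ {φ ψ : Over i₀} (f : φ ⟶ ψ), IsAffineHom (FX.map f) := fun f =>
    MorphismProperty.of_isPullback (P := @IsAffineHom)
      (isPullback_pullbackDiagram_map D i₀ (f₀ ≫ g₀) f).flip inferInstance
  have hXc : ∀ ψ, CompactSpace (FX.obj ψ) := fun ψ => by
    have : IsAffineHom (pullback.snd (D.map ψ.hom) (f₀ ≫ g₀)) :=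
      MorphismProperty.pullback_snd (P := @IsAffineHom) _ _ inferInstance
    exact QuasiCompact.compactSpace_of_compactSpace (pullback.snd (D.map ψ.hom) (f₀ ≫ g₀))
  have hcomp : CompactSpace cX.pt := Scheme.compactSpace_of_isLimit FX cX hcX
  have key : ∀ x : cX.pt, ∃ (ψ : Over i₀) (W : (FX.obj ψ).Opens),
      cX.π.app ψ x ∈ W ∧ P (W.ι ≫ stageMap D i₀ f₀ g₀ ψ) := fun x =>
    exists_stage_of_mem' D c i₀ f₀ g₀ P hOI hcore hc ⊤ (IsZariskiLocalAtSource.comp h _) x trivial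
  choose ψ W hxW hW using key
  obtain ⟨t, ht⟩ := isCompact_univ.elim_finite_subcover
    (fun x : cX.pt => ((cX.π.app (ψ x) ⁻¹ᵁ W x : cX.pt.Opens) : Set cX.pt))
    (fun x => (cX.π.app (ψ x) ⁻¹ᵁ W x).2) (fun x _ => Set.mem_iUnion.mpr ⟨x, hxW x⟩)
  obtain ⟨ψ₂, T⟩ := IsCofiltered.inf_objs_exists (t.image ψ)
  have b : ∀ x : t, ψ₂ ⟶ ψ x.1 := fun x => (T (Finset.mem_image_of_mem ψ x.2)).some
  let W₂ : (FX.obj ψ₂).Opens := ⨆ x : t, FX.map (b x) ⁻¹ᵁ W x.1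
  have hW₂ : cX.π.app ψ₂ ⁻¹ᵁ W₂ = ⊤ := by
    rw [eq_top_iff]
    intro z _
    obtain ⟨x, hx⟩ := Set.mem_iUnion.mp (ht (Set.mem_univ z))
    obtain ⟨hxt, hzx⟩ := Set.mem_iUnion.mp hx
    change cX.π.app ψ₂ z ∈ W₂
    refine TopologicalSpace.Opens.mem_iSup.mpr ⟨⟨x, hxt⟩, ?_⟩
    change FX.map (b ⟨x, hxt⟩) (cX.π.app ψ₂ z) ∈ W x
    rw [← Scheme.Hom.comp_apply, cX.w]
    exact hzx
  obtain ⟨ψ₃, b₃, hb₃⟩ := exists_map_eq_top FX cX hcX W₂ hW₂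
  refine ⟨ψ₃, IsZariskiLocalAtSource.of_iSup_eq_top
    (fun x : t => FX.map (b₃ ≫ b x) ⁻¹ᵁ W x.1) ?_ fun x => ?_⟩
  · rw [← hb₃, Scheme.Hom.preimage_iSup]
    congr 1
    funext x
    rw [FX.map_comp, Scheme.Hom.comp_preimage]
  · exact prop_preimage_ι_comp_stageMap D i₀ f₀ g₀ P (b₃ ≫ b x) (W x.1) (hW x.1)

end Pointwise

section Iff

variable {I : Type u} [Category.{u} I] (D : I ⥤ Scheme.{u}) (c : Cone D) (i₀ : I)
  {X₀ Y₀ : Scheme.{u}} (f₀ : X₀ ⟶ Y₀) (g₀ : Y₀ ⟶ D.obj i₀)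
  [IsCofiltered I] [∀ {i j} (f : i ⟶ j), IsAffineHom (D.map f)]

set_option backward.isDefEq.respectTransparency false in
/-- Global descent to a stage for a source-local property with an all-affine core descent. -/
theorem exists_stage_of_core' (P : MorphismProperty Scheme.{u})
    [P.IsStableUnderBaseChange] [IsZariskiLocalAtSource P]
    (hOI : P.Respects @IsOpenImmersion)
    (hcore : CoreDescent P) (hc : IsLimit c) [LocallyOfFinitePresentation f₀] [CompactSpace X₀]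
    {X Y : Scheme.{u}} (f : X ⟶ Y) (g : Y ⟶ c.pt) (qY : Y ⟶ Y₀) (qX : X ⟶ X₀)
    (hY : IsPullback qY g g₀ (c.π.app i₀)) (hX : IsPullback qX f f₀ qY) (hf : P f) :
      ∃ (j : I) (φ : j ⟶ i₀) (Xj Yj : Scheme.{u}) (fj : Xj ⟶ Yj) (gj : Yj ⟶ D.obj j)
        (pY : Yj ⟶ Y₀) (pX : Xj ⟶ X₀),
        IsPullback pY gj g₀ (D.map φ) ∧ IsPullback pX fj f₀ pY ∧ P fj := by
  obtain ⟨e₁, e₂, he, -, -, -⟩ := exists_iso_limMap' D c i₀ f₀ g₀ f g qY qX hY hX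
  have hlim : P (limMap D c i₀ f₀ g₀) := by
    rw [he, P.cancel_left_of_respectsIso, P.cancel_right_of_respectsIso]
    exact hf
  obtain ⟨ψ, hψ⟩ := exists_stageMap_of_core' D c i₀ f₀ g₀ P hOI hcore hc hlim
  exact ⟨ψ.left, ψ.hom, pullback (D.map ψ.hom) (f₀ ≫ g₀), pullback (D.map ψ.hom) g₀,
    stageMap D i₀ f₀ g₀ ψ, pullback.fst (D.map ψ.hom) g₀,
    pullback.snd (D.map ψ.hom) g₀, pullback.snd (D.map ψ.hom) (f₀ ≫ g₀),
    (IsPullback.of_hasPullback (D.map ψ.hom) g₀).flip,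
    isPullback_stageMap D i₀ f₀ g₀ ψ, hψ⟩

end Iff

end Groth.Agent.H46.LimitLocusResp
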