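import Mathlib

/-!
# Local subrings essentially of finite type

For a local ring `S` and a subring `B`, the subring `S₀ = {a / b : a, b ∈ B, b ∈ Sˣ}` is local,
the inclusion `S₀ → S` is local and `B → S₀` is a localisation.
-/

namespace Groth.Agent.H46

theorem RingHom.EssFiniteType.comp' {R S T : Type*} [CommRing R] [CommRing S] [CommRing T]
    {f : R →+* S} {g : S →+* T} (hf : f.EssFiniteType) (hg : g.EssFiniteType) :
    (g.comp f).EssFiniteType := by
  algebraize [f, g, g.comp f]
  exact Algebra.EssFiniteType.comp R S T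

variable {S : Type*} [CommRing S]

/-- The subring of fractions `a / b` with `a, b ∈ B` and `b` a unit of `S`. -/
def fracSubring (B : Subring S) : Subring S where
  carrier := {z | ∃ a ∈ B, ∃ b ∈ B, IsUnit b ∧ z * b = a}
  mul_mem' := by
    rintro z z' ⟨a, ha, b, hb, hbu, h⟩ ⟨a', ha', b', hb', hbu', h'⟩
    exact ⟨a * a', B.mul_mem ha ha', b * b', B.mul_mem hb hb', hbu.mul hbu', by
      rw [← h, ← h']; ring⟩
  one_mem' := ⟨1, B.one_mem, 1, B.one_mem, isUnit_one, by simp⟩
  add_mem' := by
    rintro z z' ⟨a, ha, b, hb, hbu, h⟩ ⟨a', ha', b', hb', hbu', h'⟩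
    exact ⟨a * b' + a' * b, B.add_mem (B.mul_mem ha hb') (B.mul_mem ha' hb), b * b',
      B.mul_mem hb hb', hbu.mul hbu', by rw [← h, ← h']; ring⟩
  zero_mem' := ⟨0, B.zero_mem, 1, B.one_mem, isUnit_one, by simp⟩
  neg_mem' := by
    rintro z ⟨a, ha, b, hb, hbu, h⟩
    exact ⟨-a, B.neg_mem ha, b, hb, hbu, by rw [← h]; ring⟩

theorem le_fracSubring (B : Subring S) : B ≤ fracSubring B :=
  fun a ha => ⟨a, ha, 1, B.one_mem, isUnit_one, by simp⟩

theorem isUnit_fracSubring_iff (B : Subring S) (z : fracSubring B) :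
    IsUnit z ↔ IsUnit (z : S) := by
  constructor
  · intro h
    exact h.map (fracSubring B).subtype
  · intro hz
    obtain ⟨a, ha, b, hb, hbu, h⟩ := z.2
    have hau : IsUnit a := by rw [← h]; exact hz.mul hbu
    obtain ⟨u, hu⟩ := hz
    have hmem : (↑u⁻¹ : S) ∈ fracSubring B := by
      refine ⟨b, hb, a, ha, hau, ?_⟩
      rw [← h, ← hu, ← mul_assoc, Units.inv_mul, one_mul]
    refine isUnit_iff_exists_inv.mpr ⟨⟨_, hmem⟩, ?_⟩
    apply Subtype.ext
    change (z : S) * ↑u⁻¹ = 1
    rw [← hu, Units.mul_inv]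

theorem isLocalHom_fracSubring_subtype (B : Subring S) : IsLocalHom (fracSubring B).subtype :=
  ⟨fun z hz => (isUnit_fracSubring_iff B z).mpr hz⟩

theorem isLocalRing_fracSubring [IsLocalRing S] (B : Subring S) : IsLocalRing (fracSubring B) := by
  apply IsLocalRing.of_isUnit_or_isUnit_one_sub_self
  intro z
  rcases IsLocalRing.isUnit_or_isUnit_one_sub_self (z : S) with h | h
  · exact Or.inl ((isUnit_fracSubring_iff B z).mpr h)
  · exact Or.inr ((isUnit_fracSubring_iff B (1 - z)).mpr h)

theorem essFiniteType_inclusion_fracSubring (B : Subring S) :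
    (Subring.inclusion (le_fracSubring B)).EssFiniteType := by
  let _alg : Algebra B (fracSubring B) := (Subring.inclusion (le_fracSubring B)).toAlgebra
  change Algebra.EssFiniteType B (fracSubring B)
  let M : Submonoid B := (IsUnit.submonoid S).comap B.subtype
  have hloc : IsLocalization M (fracSubring B) := by
    refine ⟨?_, ?_, ?_⟩
    · rintro ⟨b, hb⟩
      apply (isUnit_fracSubring_iff B _).mpr
      exact hb
    · rintro ⟨z, a, ha, b, hb, hbu, h⟩
      refine ⟨(⟨a, ha⟩, ⟨⟨b, hb⟩, hbu⟩), ?_⟩
      apply Subtype.ext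
      exact h
    · intro x y hxy
      refine ⟨1, ?_⟩
      have : (x : S) = y := congrArg (fun w : fracSubring B => (w : S)) hxy
      simp [Subtype.ext this]
  exact Algebra.EssFiniteType.of_isLocalization (fracSubring B) M

/-- For a ring hom `φ : A → S` and a finite `F ⊆ S`, the corestriction of `φ` to the subring of
fractions of `A[F]` is essentially of finite type. -/
theorem essFiniteType_codRestrict_fracSubring {A : Type*} [CommRing A] (φ : A →+* S)
    (F : Finset S) :
    ∃ (B : Subring S), (∀ a, φ a ∈ B) ∧ (F : Set S) ⊆ B ∧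
      ∀ (h : ∀ a, φ a ∈ fracSubring B), (φ.codRestrict (fracSubring B) h).EssFiniteType := by
  let _alg : Algebra A S := φ.toAlgebra
  let B' : Subalgebra A S := Algebra.adjoin A (F : Set S)
  refine ⟨B'.toSubring, fun a => B'.algebraMap_mem a, fun x hx => Algebra.subset_adjoin hx, ?_⟩
  intro h
  have h1 : (algebraMap A B').FiniteType :=
    RingHom.finiteType_algebraMap.mpr (Algebra.FiniteType.adjoin_of_finite F.finite_toSet)
  let ι₁ : A →+* B'.toSubring := algebraMap A B'
  have h1' : ι₁.FiniteType := h1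
  have h2 := essFiniteType_inclusion_fracSubring B'.toSubring
  have h3 := RingHom.EssFiniteType.comp' h1'.essFiniteType h2
  have e : φ.codRestrict (fracSubring B'.toSubring) h =
      (Subring.inclusion (le_fracSubring B'.toSubring)).comp ι₁ := by
    ext a
    rfl
  rw [e]
  exact h3

end Groth.Agent.H46
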