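import Groth.Prelude.Def_CAlgX
import Mathlib.LinearAlgebra.Matrix.Adjugate
import Mathlib.LinearAlgebra.Matrix.ToLin

set_option autoImplicit false
universe u

namespace Groth.Agent.H46

open Matrix

variable {R : Type u} [CommRing R] {m n : ℕ}

theorem det_submatrix_mem_minorIdeal (M : Matrix (Fin n) (Fin m) R) (r : ℕ)
    (f : Fin r → Fin n) (g : Fin r → Fin m) :
    det (M.submatrix f g) ∈ CAlgX.minorIdeal M r :=
  Ideal.subset_span ⟨(f, g), rfl⟩

theorem minorIdeal_zero (M : Matrix (Fin n) (Fin m) R) : CAlgX.minorIdeal M 0 = ⊤ := by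
  rw [Ideal.eq_top_iff_one]
  have := det_submatrix_mem_minorIdeal M 0 Fin.elim0 Fin.elim0
  rwa [det_fin_zero] at this

theorem det_submatrix_eq_zero_of_not_injective (M : Matrix (Fin n) (Fin m) R) (r : ℕ)
    (f : Fin r → Fin n) (g : Fin r → Fin m) (hg : ¬ Function.Injective g) :
    det (M.submatrix f g) = 0 := by
  rw [Function.Injective] at hg
  push Not at hg
  obtain ⟨i, j, hij, hne⟩ := hg
  refine det_zero_of_column_eq hne ?_
  intro k
  simp only [submatrix_apply, hij]

theorem minorIdeal_eq_bot_of_lt (M : Matrix (Fin n) (Fin m) R) (r : ℕ) (hr : m < r) :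
    CAlgX.minorIdeal M r = ⊥ := by
  rw [CAlgX.minorIdeal, Ideal.span_eq_bot]
  rintro _ ⟨⟨f, g⟩, rfl⟩
  apply det_submatrix_eq_zero_of_not_injective
  intro hg
  have := Fintype.card_le_of_injective g hg
  simp only [Fintype.card_fin] at this
  omega

/-- Cramer: the easy direction of McCoy's theorem. -/
theorem injective_of_annihilator_minorIdeal_eq_bot (M : Matrix (Fin n) (Fin m) R)
    (h : (CAlgX.minorIdeal M m).annihilator = ⊥) : Function.Injective (Matrix.mulVecLin M) := by
  rw [injective_iff_map_eq_zero]
  intro x hx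
  rw [Matrix.mulVecLin_apply] at hx
  funext k
  have hk : x k ∈ (CAlgX.minorIdeal M m).annihilator := by
    unfold CAlgX.minorIdeal
    rw [Ideal.span, Submodule.mem_annihilator_span]
    rintro ⟨_, ⟨⟨f, g⟩, rfl⟩⟩
    simp only [smul_eq_mul]
    by_cases hg : Function.Injective g
    · have hgb : Function.Bijective g := Finite.injective_iff_bijective.mp hg
      let e : Fin m ≃ Fin m := Equiv.ofBijective g hgb
      set N := M.submatrix f g with hN
      have h1 : N *ᵥ (x ∘ g) = 0 := by
        funext i
        have := congrFun hx (f i)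
        simp only [mulVec, dotProduct, Pi.zero_apply] at this ⊢
        rw [← this]
        exact Equiv.sum_comp e (fun k => M (f i) k * x k)
      have h2 : det N • (x ∘ g) = 0 := by
        have : (adjugate N * N) *ᵥ (x ∘ g) = 0 := by
          rw [← mulVec_mulVec, h1, mulVec_zero]
        rw [adjugate_mul, smul_mulVec, one_mulVec] at this
        exact this
      obtain ⟨j, rfl⟩ := hgb.2 k
      have := congrFun h2 j
      simpa [mul_comm] using this
    · rw [det_submatrix_eq_zero_of_not_injective M m f g hg, mul_zero]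
  rw [h] at hk
  exact hk

/-- The hard direction of McCoy's theorem. -/
theorem annihilator_minorIdeal_eq_bot_of_injective (M : Matrix (Fin n) (Fin m) R)
    (h : Function.Injective (Matrix.mulVecLin M)) : (CAlgX.minorIdeal M m).annihilator = ⊥ := by
  classical
  rw [eq_bot_iff]
  intro a ha
  rw [Submodule.mem_bot]
  by_contra ha0
  have hP : ∃ k : ℕ, ∀ (f : Fin k → Fin n) (g : Fin k → Fin m), a * det (M.submatrix f g) = 0 := by
    refine ⟨m, fun f g => ?_⟩
    rw [Submodule.mem_annihilator] at ha
    exact ha _ (det_submatrix_mem_minorIdeal M m f g)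
  have hk0 : Nat.find hP ≠ 0 := by
    intro h0
    have := Nat.find_spec hP
    rw [h0] at this
    have h1 := this Fin.elim0 Fin.elim0
    rw [det_fin_zero, mul_one] at h1
    exact ha0 h1
  obtain ⟨r, hr⟩ := Nat.exists_eq_succ_of_ne_zero hk0
  have hPr : ∀ (f : Fin (r + 1) → Fin n) (g : Fin (r + 1) → Fin m),
      a * det (M.submatrix f g) = 0 := by
    have := Nat.find_spec hP
    rw [hr] at this
    exact this
  have hnPr : ¬ ∀ (f : Fin r → Fin n) (g : Fin r → Fin m), a * det (M.submatrix f g) = 0 := by
    apply Nat.find_min hP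
    omega
  have hrm : r + 1 ≤ m := by
    rw [← Nat.succ_eq_add_one, ← hr]
    apply Nat.find_min' hP
    intro f g
    rw [Submodule.mem_annihilator] at ha
    exact ha _ (det_submatrix_mem_minorIdeal M m f g)
  push Not at hnPr
  obtain ⟨f, g, hfg⟩ := hnPr
  -- a column index outside the range of g
  have hns : ¬ Function.Surjective g := by
    intro hs
    have := Fintype.card_le_of_surjective g hs
    simp only [Fintype.card_fin] at this
    omega
  rw [Function.Surjective] at hns
  push Not at hns
  obtain ⟨j₀, hj₀⟩ := hns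
  let g' : Fin (r + 1) → Fin m := Fin.cons j₀ g
  let c : Fin (r + 1) → R := fun j =>
    a * ((-1) ^ (j : ℕ) * det (M.submatrix f (g' ∘ j.succAbove)))
  let x : Fin m → R := fun l => ∑ j, if g' j = l then c j else 0
  have hMx : M *ᵥ x = 0 := by
    funext i
    simp only [mulVec, dotProduct, Pi.zero_apply, x]
    have h1 : ∑ l, M i l * ∑ j, (if g' j = l then c j else 0) = ∑ j, M i (g' j) * c j := by
      simp_rw [Finset.mul_sum]
      rw [Finset.sum_comm]
      refine Finset.sum_congr rfl fun j _ => ?_
      simp [mul_ite]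
    rw [h1]
    have h2 : ∑ j, M i (g' j) * c j = a * det (M.submatrix (Fin.cons i f : Fin (r + 1) → Fin n) g') := by
      rw [det_succ_row_zero, Finset.mul_sum]
      refine Finset.sum_congr rfl fun j _ => ?_
      simp only [c, submatrix_apply, Fin.cons_zero, submatrix_submatrix]
      have : ((Fin.cons i f : Fin (r + 1) → Fin n) ∘ Fin.succ) = f := by
        funext l
        simp
      rw [this]
      ring
    rw [h2, hPr]
  have hx0 : x = 0 := by
    apply h
    rw [Matrix.mulVecLin_apply, hMx, map_zero]
  have hxj : x j₀ = a * det (M.submatrix f g) := by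
    simp only [x]
    rw [Fin.sum_univ_succ]
    have h1 : g' 0 = j₀ := by simp [g']
    have h2 : ∀ l : Fin r, g' l.succ ≠ j₀ := by
      intro l
      simp only [g', Fin.cons_succ]
      exact hj₀ l
    simp only [h1, if_true, h2, if_false, Finset.sum_const_zero, add_zero, c]
    have h3 : g' ∘ (0 : Fin (r + 1)).succAbove = g := by
      funext l
      simp [g']
    rw [h3]
    simp
  apply hfg
  rw [← hxj, hx0, Pi.zero_apply]

theorem matrixRank_eq_of_minorIdeal_ne_bot (M : Matrix (Fin n) (Fin m) R)
    (h : CAlgX.minorIdeal M m ≠ ⊥) : CAlgX.matrixRank M = m := by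
  unfold CAlgX.matrixRank
  apply IsGreatest.csSup_eq
  refine ⟨h, ?_⟩
  intro r hr
  by_contra hlt
  push Not at hlt
  exact hr (minorIdeal_eq_bot_of_lt M r hlt)

/-- McCoy's theorem in the form used by the milestones. -/
theorem mulVecLin_injective_iff [Nontrivial R] (M : Matrix (Fin n) (Fin m) R) :
    Function.Injective (Matrix.mulVecLin M) ↔
      CAlgX.matrixRank M = m ∧ (CAlgX.detIdeal M).annihilator = ⊥ := by
  constructor
  · intro h
    have h1 := annihilator_minorIdeal_eq_bot_of_injective M h
    have h2 : CAlgX.minorIdeal M m ≠ ⊥ := by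
      intro h0
      rw [h0, Submodule.annihilator_bot] at h1
      exact top_ne_bot h1
    have h3 := matrixRank_eq_of_minorIdeal_ne_bot M h2
    refine ⟨h3, ?_⟩
    unfold CAlgX.detIdeal
    rw [h3]
    exact h1
  · rintro ⟨h1, h2⟩
    unfold CAlgX.detIdeal at h2
    rw [h1] at h2
    exact injective_of_annihilator_minorIdeal_eq_bot M h2

end Groth.Agent.H46
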