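import Mathlib

/-!
# Quasi-isomorphisms of two-term complexes of modules and the cone splitting
-/

set_option autoImplicit false

namespace Groth.Agent.H46.TwoTerm

variable {R : Type*} [CommRing R]
variable {M₁ F₁ M₂ F₂ M₃ F₃ : Type*}
  [AddCommGroup M₁] [Module R M₁] [AddCommGroup F₁] [Module R F₁]
  [AddCommGroup M₂] [Module R M₂] [AddCommGroup F₂] [Module R F₂]
  [AddCommGroup M₃] [Module R M₃] [AddCommGroup F₃] [Module R F₃]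

/-- An elementwise formulation of "the chain map `(φ₁, φ₀)` between the two-term complexes
`d₁ : M₁ → F₁` and `d₂ : M₂ → F₂` is a quasi-isomorphism". -/
structure QIso (d₁ : M₁ →ₗ[R] F₁) (d₂ : M₂ →ₗ[R] F₂) (φ₁ : M₁ →ₗ[R] M₂) (φ₀ : F₁ →ₗ[R] F₂) :
    Prop where
  comm : ∀ a, d₂ (φ₁ a) = φ₀ (d₁ a)
  h1_inj : ∀ a, d₁ a = 0 → φ₁ a = 0 → a = 0
  h1_surj : ∀ b, d₂ b = 0 → ∃ a, d₁ a = 0 ∧ φ₁ a = b
  h0_inj : ∀ c b, φ₀ c = d₂ b → ∃ a, d₁ a = c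
  h0_surj : ∀ e, ∃ c b, e = φ₀ c + d₂ b

variable {d₁ : M₁ →ₗ[R] F₁} {d₂ : M₂ →ₗ[R] F₂} {d₃ : M₃ →ₗ[R] F₃}

theorem QIso.comp {φ₁ : M₁ →ₗ[R] M₂} {φ₀ : F₁ →ₗ[R] F₂} {ψ₁ : M₂ →ₗ[R] M₃} {ψ₀ : F₂ →ₗ[R] F₃}
    (h : QIso d₁ d₂ φ₁ φ₀) (h' : QIso d₂ d₃ ψ₁ ψ₀) : QIso d₁ d₃ (ψ₁ ∘ₗ φ₁) (ψ₀ ∘ₗ φ₀) where
  comm a := by
    simp only [LinearMap.comp_apply]
    rw [h'.comm, h.comm]
  h1_inj a ha hφ := by
    simp only [LinearMap.comp_apply] at hφ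
    refine h.h1_inj a ha (h'.h1_inj _ ?_ hφ)
    rw [h.comm, ha, map_zero]
  h1_surj b hb := by
    obtain ⟨a₂, ha₂, rfl⟩ := h'.h1_surj b hb
    obtain ⟨a₁, ha₁, rfl⟩ := h.h1_surj a₂ ha₂
    exact ⟨a₁, ha₁, rfl⟩
  h0_inj c b hcb := by
    simp only [LinearMap.comp_apply] at hcb
    obtain ⟨a₂, ha₂⟩ := h'.h0_inj (φ₀ c) b hcb
    exact h.h0_inj c a₂ ha₂.symm
  h0_surj e := by
    obtain ⟨c₂, b₃, rfl⟩ := h'.h0_surj e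
    obtain ⟨c₁, b₂, rfl⟩ := h.h0_surj c₂
    refine ⟨c₁, ψ₁ b₂ + b₃, ?_⟩
    simp only [LinearMap.comp_apply, map_add, h'.comm]
    abel

/-- A homotopy equivalence is a quasi-isomorphism. -/
theorem QIso.of_homotopy (φ₁ : M₁ →ₗ[R] M₂) (φ₀ : F₁ →ₗ[R] F₂) (ψ₁ : M₂ →ₗ[R] M₁)
    (ψ₀ : F₂ →ₗ[R] F₁) (hφ : ∀ a, d₂ (φ₁ a) = φ₀ (d₁ a)) (hψ : ∀ b, d₁ (ψ₁ b) = ψ₀ (d₂ b))
    (h : F₁ →ₗ[R] M₁) (hh₁ : ∀ a, a - ψ₁ (φ₁ a) = h (d₁ a)) (hh₀ : ∀ c, c - ψ₀ (φ₀ c) = d₁ (h c))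
    (h' : F₂ →ₗ[R] M₂) (hh'₁ : ∀ b, b - φ₁ (ψ₁ b) = h' (d₂ b))
    (hh'₀ : ∀ e, e - φ₀ (ψ₀ e) = d₂ (h' e)) : QIso d₁ d₂ φ₁ φ₀ where
  comm := hφ
  h1_inj a ha hφa := by
    have := hh₁ a
    rw [ha, hφa, map_zero, map_zero, sub_zero] at this
    exact this
  h1_surj b hb := by
    refine ⟨ψ₁ b, by rw [hψ, hb, map_zero], ?_⟩
    have := hh'₁ b
    rw [hb, map_zero, sub_eq_zero] at this
    exact this.symm
  h0_inj c b hcb := by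
    refine ⟨ψ₁ b + h c, ?_⟩
    rw [map_add, hψ, ← hcb, ← hh₀ c]
    abel
  h0_surj e := ⟨ψ₀ e, h' e, by rw [← hh'₀ e]; abel⟩

/-- A degreewise short exact sequence of two-term complexes with acyclic cokernel: the inclusion
is a quasi-isomorphism. -/
theorem QIso.of_exact_acyclic (u₁ : M₁ →ₗ[R] M₂) (u₀ : F₁ →ₗ[R] F₂) (v₁ : M₂ →ₗ[R] M₃)
    (v₀ : F₂ →ₗ[R] F₃) (hu : ∀ a, d₂ (u₁ a) = u₀ (d₁ a)) (hv : ∀ b, d₃ (v₁ b) = v₀ (d₂ b))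
    (hu₁ : Function.Injective u₁) (he₁ : Function.Exact u₁ v₁) (hv₁ : Function.Surjective v₁)
    (hu₀ : Function.Injective u₀) (he₀ : Function.Exact u₀ v₀)
    (hd₃ : Function.Bijective d₃) : QIso d₁ d₂ u₁ u₀ where
  comm := hu
  h1_inj a _ ha := hu₁ (by rw [ha, map_zero])
  h1_surj b hb := by
    have h1 : v₁ b = 0 := hd₃.1 (by rw [hv, hb, map_zero, map_zero])
    obtain ⟨a, rfl⟩ := (he₁ b).mp h1
    refine ⟨a, hu₀ ?_, rfl⟩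
    rw [← hu, hb, map_zero]
  h0_inj c b hcb := by
    have h1 : v₁ b = 0 := hd₃.1 (by
      rw [hv, ← hcb, map_zero]
      exact (he₀ (u₀ c)).mpr ⟨c, rfl⟩)
    obtain ⟨a, rfl⟩ := (he₁ b).mp h1
    refine ⟨a, hu₀ ?_⟩
    rw [← hu, hcb]
  h0_surj e := by
    obtain ⟨k, hk⟩ := hd₃.2 (v₀ e)
    obtain ⟨b, rfl⟩ := hv₁ k
    have h1 : v₀ (e - d₂ b) = 0 := by rw [map_sub, ← hv, hk, sub_self]
    obtain ⟨c, hc⟩ := (he₀ _).mp h1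
    exact ⟨c, b, by rw [hc]; abel⟩

/-- The cone of a quasi-isomorphism onto a complex with projective degree-zero term splits. -/
theorem QIso.nonempty_equiv {φ₁ : M₁ →ₗ[R] M₂} {φ₀ : F₁ →ₗ[R] F₂} (h : QIso d₁ d₂ φ₁ φ₀)
    [Module.Projective R F₂] : Nonempty ((M₁ × F₂) ≃ₗ[R] (M₂ × F₁)) := by
  let σ : M₂ × F₁ →ₗ[R] F₂ := d₂.coprod (-φ₀)
  let ι : M₁ →ₗ[R] M₂ × F₁ := φ₁.prod d₁
  have hσ : ∀ b c, σ (b, c) = d₂ b - φ₀ c := by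
    intro b c
    simp [σ, sub_eq_add_neg]
  have hι : ∀ a, ι a = (φ₁ a, d₁ a) := fun a => rfl
  have hsurj : Function.Surjective σ := by
    intro e
    obtain ⟨c, b, rfl⟩ := h.h0_surj e
    exact ⟨(b, -c), by rw [hσ, map_neg]; abel⟩
  have hinj : Function.Injective ι := by
    rw [injective_iff_map_eq_zero]
    intro a ha
    rw [hι, Prod.mk_eq_zero] at ha
    exact h.h1_inj a ha.2 ha.1
  have hex : Function.Exact ι σ := by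
    rintro ⟨b, c⟩
    constructor
    · intro hbc
      rw [hσ, sub_eq_zero] at hbc
      obtain ⟨a₀, ha₀⟩ := h.h0_inj c b hbc.symm
      have h2 : d₂ (b - φ₁ a₀) = 0 := by
        rw [map_sub, h.comm, ha₀, hbc, sub_self]
      obtain ⟨a₁, ha₁, ha₁'⟩ := h.h1_surj _ h2
      refine ⟨a₀ + a₁, ?_⟩
      rw [hι, map_add, map_add, ha₁, ha₁', ha₀]
      ext
      · simp
      · simp
    · rintro ⟨a, ha⟩
      rw [hι] at ha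
      rw [← ha, hσ, h.comm, sub_self]
  obtain ⟨s, hs⟩ := Module.projective_lifting_property σ LinearMap.id hsurj
  exact ⟨((hex.splitSurjectiveEquiv hinj ⟨s, hs⟩).1).symm⟩

end Groth.Agent.H46.TwoTerm
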