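import Mathlib
import Groth.Agent.H46.TwoTermQIso

/-!
# The naive cotangent complex and localization away from an element (sharp Schanuel form)
-/

set_option autoImplicit false
universe u

open MvPolynomial TensorProduct

namespace Groth.Agent.H46.NLLoc

open Groth.Agent.H46.TwoTerm Algebra

/-- generators from a surjection, with `toExtension` definitionally `Extension.ofSurjective` -/
noncomputable def gensOf {R S : Type u} [CommRing R] [CommRing S] [Algebra R S] {ι : Type*}
    (α : MvPolynomial ι R →ₐ[R] S) (hα : Function.Surjective α) : Algebra.Generators R S ι where
  val := fun i => α (X i)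
  σ' := fun x => (hα x).choose
  aeval_val_σ' := fun s => by
    have : (aeval fun i => α (X i) : MvPolynomial ι R →ₐ[R] S) = α := by
      apply MvPolynomial.algHom_ext; intro i; simp
    rw [this]; exact (hα s).choose_spec
  algebra := α.toAlgebra
  algebraMap_eq := by
    have : (aeval fun i => α (X i) : MvPolynomial ι R →ₐ[R] S) = α := by
      apply MvPolynomial.algHom_ext; intro i; simp
    rw [this]; rfl

theorem gensOf_toExtension {R S : Type u} [CommRing R] [CommRing S] [Algebra R S] {ι : Type*}
    (α : MvPolynomial ι R →ₐ[R] S) (hα : Function.Surjective α) :
    (gensOf α hα).toExtension = Algebra.Extension.ofSurjective α hα := rfl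

section

variable {R S T : Type u} [CommRing R] [CommRing S] [CommRing T] [Algebra R S] [Algebra S T]
  [Algebra R T] [IsScalarTower R S T] (g : S) [IsLocalization.Away g T]
  {ι τ : Type} (P : Generators R S ι) (W : Generators R T τ)

attribute [local instance] SMulCommClass.of_commMonoid

/-- the cotangent complex of the canonical presentation of a localization is bijective -/
theorem cotangentComplex_localizationAway_bijective :
    Function.Bijective (Generators.localizationAway T g).toExtension.cotangentComplex := by
  constructor
  · exact (SubmersivePresentation.localizationAway T g).cotangentComplex_injective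
  · intro e
    have : Algebra.FormallyUnramified S T := Algebra.FormallyUnramified.of_isLocalization
      (Submonoid.powers g)
    have hsub : Subsingleton (Ω[T⁄S]) := inferInstance
    exact ((Generators.localizationAway T g).toExtension.exact_cotangentComplex_toKaehler e).mp
      (Subsingleton.elim _ _)

/-- `NL(P) ⊗ T → NL(Q.comp P)` is a quasi-isomorphism for `Q` the canonical presentation of the
localization `T = S_g`. -/
theorem qiso_toComp :
    QIso (P.toExtension.cotangentComplex.baseChange T)
      ((Generators.localizationAway T g).comp P).toExtension.cotangentComplex
      ((Extension.Cotangent.map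
        ((Generators.localizationAway T g).toComp P).toExtensionHom).liftBaseChange T)
      ((Extension.CotangentSpace.map
        ((Generators.localizationAway T g).toComp P).toExtensionHom).liftBaseChange T) := by
  refine QIso.of_exact_acyclic (d₃ := (Generators.localizationAway T g).toExtension.cotangentComplex)
    _ _
    (Extension.Cotangent.map ((Generators.localizationAway T g).ofComp P).toExtensionHom)
    (Extension.CotangentSpace.map ((Generators.localizationAway T g).ofComp P).toExtensionHom)
    ?_ ?_
    (Generators.liftBaseChange_injective_of_isLocalizationAway g P)
    (Generators.Cotangent.exact (Generators.localizationAway T g) P)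
    (Generators.Cotangent.surjective_map_ofComp (Generators.localizationAway T g) P)
    (Generators.CotangentSpace.map_toComp_injective (Generators.localizationAway T g) P)
    (Generators.CotangentSpace.exact (Generators.localizationAway T g) P)
    (cotangentComplex_localizationAway_bijective g)
  · intro a
    induction a using TensorProduct.induction_on with
    | zero => simp
    | tmul t x =>
      simp only [LinearMap.liftBaseChange_tmul, LinearMap.baseChange_tmul, map_smul]
      rw [Extension.CotangentSpace.map_cotangentComplex]
    | add a b ha hb => simp only [map_add, ha, hb]
  · intro b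
    exact (Extension.CotangentSpace.map_cotangentComplex _ b).symm

end

section

variable {R T : Type u} [CommRing R] [CommRing T] [Algebra R T]
  {σ τ : Type} (P' : Generators R T σ) (W : Generators R T τ)

/-- two families of generators of the same algebra: the comparison map is a quasi-isomorphism -/
theorem qiso_of_generators :
    QIso P'.toExtension.cotangentComplex W.toExtension.cotangentComplex
      (Extension.Cotangent.map (P'.defaultHom W).toExtensionHom)
      (Extension.CotangentSpace.map (P'.defaultHom W).toExtensionHom) := by
  set f := (P'.defaultHom W).toExtensionHom with hf
  set g := (W.defaultHom P').toExtensionHom with hg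
  refine QIso.of_homotopy _ _ (Extension.Cotangent.map g) (Extension.CotangentSpace.map g) ?_ ?_
    ((Extension.Hom.id _).sub (g.comp f)) ?_ ?_ ((Extension.Hom.id _).sub (f.comp g)) ?_ ?_
  · intro a
    exact (Extension.CotangentSpace.map_cotangentComplex f a).symm
  · intro b
    exact (Extension.CotangentSpace.map_cotangentComplex g b).symm
  · intro a
    have := Extension.Cotangent.map_sub_map (Extension.Hom.id P'.toExtension) (g.comp f)
    rw [Extension.Cotangent.map_id, Extension.Cotangent.map_comp] at this
    exact LinearMap.congr_fun this a
  · intro c
    have := Extension.CotangentSpace.map_sub_map (Extension.Hom.id P'.toExtension) (g.comp f)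
    rw [Extension.CotangentSpace.map_id, Extension.CotangentSpace.map_comp] at this
    exact LinearMap.congr_fun this c
  · intro b
    have := Extension.Cotangent.map_sub_map (Extension.Hom.id W.toExtension) (f.comp g)
    rw [Extension.Cotangent.map_id, Extension.Cotangent.map_comp] at this
    exact LinearMap.congr_fun this b
  · intro e
    have := Extension.CotangentSpace.map_sub_map (Extension.Hom.id W.toExtension) (f.comp g)
    rw [Extension.CotangentSpace.map_id, Extension.CotangentSpace.map_comp] at this
    exact LinearMap.congr_fun this e

end

section

variable {R S T : Type u} [CommRing R] [CommRing S] [CommRing T] [Algebra R S] [Algebra S T]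
  [Algebra R T] [IsScalarTower R S T] (g : S) [IsLocalization.Away g T]
  {ι τ : Type} (P : Generators R S ι) (W : Generators R T τ)

include g in
theorem nonempty_equiv_gens :
    Nonempty ((T ⊗[S] P.toExtension.Cotangent × W.toExtension.CotangentSpace) ≃ₗ[T]
      (W.toExtension.Cotangent × T ⊗[S] P.toExtension.CotangentSpace)) :=
  ((qiso_toComp g P).comp (qiso_of_generators _ W)).nonempty_equiv

end

theorem main (R S : Type u) [CommRing R] [CommRing S] [Algebra R S]
    (g : S) (n m : ℕ) (α : MvPolynomial (Fin n) R →ₐ[R] S) (hα : Function.Surjective α)
    (β : MvPolynomial (Fin m) R →ₐ[R] Localization.Away g) (hβ : Function.Surjective β) :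
    Nonempty ((LocalizedModule (Submonoid.powers g)
        (Algebra.Extension.ofSurjective α hα).Cotangent ×
        (Fin m → Localization.Away g)) ≃ₗ[Localization.Away g]
      ((Algebra.Extension.ofSurjective β hβ).Cotangent × (Fin n → Localization.Away g))) := by
  obtain ⟨e⟩ := nonempty_equiv_gens (T := Localization.Away g) g (gensOf α hα) (gensOf β hβ)
  let e₁ := LocalizedModule.equivTensorProduct (Submonoid.powers g)
    (Algebra.Extension.ofSurjective α hα).Cotangent
  let bW := (gensOf β hβ).cotangentSpaceBasis
  let bP := (gensOf α hα).cotangentSpaceBasis.baseChange (Localization.Away g)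
  exact ⟨(e₁.prodCongr bW.equivFun.symm).trans
    (e.trans ((LinearEquiv.refl _ _).prodCongr bP.equivFun))⟩

end Groth.Agent.H46.NLLoc
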