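import Mathlib.RingTheory.Ideal.Maps
import Mathlib.RingTheory.Noetherian.Nilpotent
import Mathlib.RingTheory.Finiteness.Basic
import Mathlib.RingTheory.Ideal.Quotient.Operations

set_option autoImplicit false
universe u v

namespace Groth.Agent.H46

/-- Nakayama for powers: if `N + I M = M` then `N + I^k M = M`. -/
theorem sup_pow_smul_top_eq_top {R : Type u} {M : Type v} [CommRing R] [AddCommGroup M] [Module R M]
    (N : Submodule R M) (I : Ideal R) (h : N ⊔ I • (⊤ : Submodule R M) = ⊤) (k : ℕ) :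
    N ⊔ (I ^ k) • (⊤ : Submodule R M) = ⊤ := by
  induction k with
  | zero => rw [pow_zero, Ideal.one_eq_top, Submodule.top_smul, sup_top_eq]
  | succ k ih =>
    have h1 : I • (⊤ : Submodule R M) = I • N ⊔ (I ^ (k + 1)) • (⊤ : Submodule R M) := by
      have : I • (⊤ : Submodule R M) = I • (N ⊔ (I ^ k) • (⊤ : Submodule R M)) := by rw [ih]
      rw [this, Submodule.smul_sup, ← Submodule.mul_smul, ← pow_succ']
    have h2 : (⊤ : Submodule R M) ≤ N ⊔ (I • N ⊔ (I ^ (k + 1)) • (⊤ : Submodule R M)) := by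
      rw [← h1, h]
    refine eq_top_iff.mpr (h2.trans ?_)
    refine sup_le le_sup_left (sup_le ?_ le_sup_right)
    exact le_trans Submodule.smul_le_right le_sup_left

/-- Nilpotent Nakayama. -/
theorem eq_top_of_sup_smul_top_eq_top_of_pow_eq_bot {R : Type u} {M : Type v} [CommRing R]
    [AddCommGroup M] [Module R M]
    (N : Submodule R M) (I : Ideal R) (h : N ⊔ I • (⊤ : Submodule R M) = ⊤) (k : ℕ)
    (hk : I ^ k = ⊥) : N = ⊤ := by
  have := sup_pow_smul_top_eq_top N I h k
  rwa [hk, Submodule.bot_smul, sup_bot_eq] at this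

/-- An element of an extended ideal lies in the extension of a finitely generated subideal. -/
theorem exists_fg_le_mem_map {R : Type u} {S : Type v} [CommRing R] [CommRing S] (φ : R →+* S)
    (I : Ideal R) (y : S) (hy : y ∈ I.map φ) :
    ∃ I₀ : Ideal R, I₀.FG ∧ I₀ ≤ I ∧ y ∈ I₀.map φ := by
  unfold Ideal.map at hy
  induction hy using Submodule.span_induction with
  | mem x hx =>
    obtain ⟨a, ha, rfl⟩ := hx
    refine ⟨Ideal.span {a}, ⟨{a}, by simp⟩, ?_, ?_⟩
    · rw [Ideal.span_le]; simpa using ha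
    · exact Ideal.mem_map_of_mem φ (Ideal.subset_span rfl)
  | zero => exact ⟨⊥, Submodule.fg_bot, bot_le, Ideal.zero_mem _⟩
  | add x y _ _ hx hy =>
    obtain ⟨I₁, h1, h1', h1''⟩ := hx
    obtain ⟨I₂, h2, h2', h2''⟩ := hy
    refine ⟨I₁ ⊔ I₂, Submodule.FG.sup h1 h2, sup_le h1' h2', ?_⟩
    exact Ideal.add_mem _ (Ideal.map_mono le_sup_left h1'') (Ideal.map_mono le_sup_right h2'')
  | smul c x _ hx =>
    obtain ⟨I₁, h1, h1', h1''⟩ := hx
    exact ⟨I₁, h1, h1', Ideal.mul_mem_left _ c h1''⟩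

end Groth.Agent.H46
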