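import Mathlib

/-!
# The polynomial `∏ σ, (T - σ x)` for `x ∈ J R`
-/

open Polynomial

namespace Groth.Agent.H46

variable {A R : Type*} (G : Type*) [CommRing A] [CommRing R] [Algebra A R] [Group G] [Fintype G]
  [MulSemiringAction G R]

/-- The polynomial `∏ σ, (T - σ x)`. -/
noncomputable def normPoly (x : R) : R[X] := ∏ σ : G, (X - C (σ • x))

theorem normPoly_monic (x : R) : (normPoly G x).Monic :=
  monic_prod_of_monic _ _ fun σ _ => monic_X_sub_C (σ • x)

theorem normPoly_natDegree_le (x : R) : (normPoly G x).natDegree ≤ Fintype.card G := by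
  unfold normPoly
  have h1 : (∏ σ : G, (X - C (σ • x))).natDegree ≤ ∑ σ : G, (X - C (σ • x)).natDegree :=
    natDegree_prod_le (Finset.univ : Finset G) (fun σ : G => (X - C (σ • x) : R[X]))
  have h2 : ∑ σ : G, (X - C (σ • x) : R[X]).natDegree ≤ ∑ _σ : G, 1 :=
    Finset.sum_le_sum fun σ _ => natDegree_X_sub_C_le (σ • x)
  have h3 : ∑ _σ : G, 1 = Fintype.card G := by simp
  omega

theorem normPoly_natDegree [Nontrivial R] (x : R) :
    (normPoly G x).natDegree = Fintype.card G := by
  unfold normPoly
  rw [natDegree_prod_of_monic _ _ fun σ _ => monic_X_sub_C (σ • x)]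
  simp

theorem normPoly_smul (τ : G) (x : R) :
    (normPoly G x).map (MulSemiringAction.toRingHom G R τ) = normPoly G x := by
  unfold normPoly
  rw [Polynomial.map_prod]
  refine Fintype.prod_equiv (Equiv.mulLeft τ) _ _ fun σ => ?_
  simp [mul_smul]

theorem normPoly_coeff_invariant (τ : G) (x : R) (i : ℕ) :
    τ • (normPoly G x).coeff i = (normPoly G x).coeff i := by
  have := congrArg (fun p => p.coeff i) (normPoly_smul G τ x)
  simpa [coeff_map] using this

theorem normPoly_map {R' : Type*} [CommRing R'] [MulSemiringAction G R'] (f : R →+* R')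
    (hf : ∀ (σ : G) (y : R), f (σ • y) = σ • f y) (x : R) :
    (normPoly G x).map f = normPoly G (f x) := by
  unfold normPoly
  rw [Polynomial.map_prod]
  refine Finset.prod_congr rfl fun σ _ => ?_
  simp [hf]

variable [SMulCommClass G A R] [Algebra.IsInvariant A R G]

/-- All coefficients of `normPoly x` below degree `|G|` lie in the image of `J`. -/
def LowCoeffsIn (J : Ideal A) (x : R) : Prop :=
  ∀ i < Fintype.card G, (normPoly G x).coeff i ∈ Submodule.map (Algebra.linearMap A R) J

theorem lowCoeffsIn_zero (J : Ideal A) : LowCoeffsIn G J (0 : R) := by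
  intro i hi
  have : normPoly G (0 : R) = X ^ Fintype.card G := by
    unfold normPoly
    simp
  rw [this, coeff_X_pow, if_neg hi.ne]
  exact Submodule.zero_mem _

theorem lowCoeffsIn_add_mul (J : Ideal A) (y : R) (hy : LowCoeffsIn G J y) (a₀ : A)
    (ha : a₀ ∈ J) (r : R) : LowCoeffsIn G J (y + r * algebraMap A R a₀) := by
  set a' := algebraMap A R a₀ with ha'
  have ha'inv : ∀ σ : G, σ • a' = a' := fun σ => smul_algebraMap σ a₀
  -- the generic element over `R[Y]`
  let Xel : R[X] := C y + X * C r
  let F : R[X][X] := normPoly G Xel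
  have hev : ∀ (b : R) (_ : ∀ σ : G, σ • b = b), F.map (evalRingHom b) = normPoly G (y + r * b) := by
    intro b hb
    have h1 := normPoly_map G (evalRingHom b) (fun σ p => by
      change (σ • p).eval b = σ • p.eval b
      conv_lhs => rw [← hb σ]
      exact smul_eval_smul R σ p b) Xel
    rw [h1]
    congr 1
    change (C y + X * C r : R[X]).eval b = y + r * b
    rw [eval_add, eval_C, eval_mul, eval_X, eval_C, mul_comm]
  intro i hi
  have hcoeff : (normPoly G (y + r * a')).coeff i = (F.coeff i).eval a' := by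
    rw [← hev a' ha'inv, coeff_map]
    rfl
  have hcoeff0 : (normPoly G y).coeff i = (F.coeff i).coeff 0 := by
    have := hev 0 (fun σ => smul_zero σ)
    rw [mul_zero, add_zero] at this
    rw [← this, coeff_map, coeff_zero_eq_eval_zero]
    rfl
  -- the coefficients of `F.coeff i` are invariant
  have hinv : ∀ (j : ℕ) (τ : G), τ • (F.coeff i).coeff j = (F.coeff i).coeff j := by
    intro j τ
    have h1 := normPoly_coeff_invariant G τ Xel i
    have h2 := congrArg (fun p : R[X] => p.coeff j) h1
    simpa [F] using h2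
  rw [hcoeff, eval_eq_sum_range]
  refine Submodule.sum_mem _ fun j _ => ?_
  rcases Nat.eq_zero_or_pos j with rfl | hj
  · rw [pow_zero, mul_one, ← hcoeff0]
    exact hy i hi
  · obtain ⟨b, hb⟩ := Algebra.IsInvariant.isInvariant (A := A) (G := G) _ (hinv j)
    refine ⟨b * a₀ ^ j, J.mul_mem_left _ (J.pow_mem_of_mem ha j hj), ?_⟩
    simp [hb, ha']

theorem lowCoeffsIn_of_mem_map (J : Ideal A) (x : R) (hx : x ∈ Ideal.map (algebraMap A R) J) :
    LowCoeffsIn G J x := by
  suffices h : ∀ y, LowCoeffsIn G J y → LowCoeffsIn G J (y + x) by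
    simpa using h 0 (lowCoeffsIn_zero G J)
  unfold Ideal.map Ideal.span at hx
  induction hx using Submodule.closure_induction with
  | zero => intro y hy; simpa using hy
  | add x₁ x₂ _ _ h₁ h₂ =>
    intro y hy
    rw [← add_assoc]
    exact h₂ _ (h₁ y hy)
  | smul_mem r x hx =>
    obtain ⟨a₀, ha₀, rfl⟩ := hx
    intro y hy
    exact lowCoeffsIn_add_mul G J y hy a₀ ha₀ r

/-- The final statement: `normPoly x` lifts to a monic polynomial over `A` with low coefficients
in `J`. -/
theorem exists_monic_lift_normPoly (J : Ideal A) (x : R)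
    (hx : x ∈ Ideal.map (algebraMap A R) J) :
    ∃ P : Polynomial A, P.Monic ∧ P.natDegree ≤ Fintype.card G ∧
      (∀ i : ℕ, i < Fintype.card G → P.coeff i ∈ J) ∧
      Polynomial.map (algebraMap A R) P = ∏ σ : G, (Polynomial.X - Polynomial.C (σ • x)) := by
  classical
  set n := Fintype.card G with hn
  have hlow := lowCoeffsIn_of_mem_map G J x hx
  have hex : ∀ i : ℕ, ∃ a : A, a ∈ J ∧ (i < n → algebraMap A R a = (normPoly G x).coeff i) := by
    intro i
    by_cases hi : i < n
    · obtain ⟨a, ha, hax⟩ := hlow i hi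
      exact ⟨a, ha, fun _ => hax⟩
    · exact ⟨0, J.zero_mem, fun h => absurd h hi⟩
  choose p hpJ hp using hex
  set Q : A[X] := ∑ i ∈ Finset.range n, C (p i) * X ^ i with hQ
  have hQdeg : Q.degree < n := by
    refine (degree_sum_le _ _).trans_lt ?_
    refine (Finset.sup_lt_iff (WithBot.bot_lt_coe n)).2 ?_
    intro i hi
    refine (degree_C_mul_X_pow_le i (p i)).trans_lt ?_
    exact WithBot.coe_lt_coe.2 (Finset.mem_range.mp hi)
  have hQcoeff : ∀ i, i < n → Q.coeff i = p i := by
    intro i hi
    rw [hQ, finsetSum_coeff]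
    simp only [coeff_C_mul_X_pow]
    rw [Finset.sum_eq_single i]
    · simp
    · intro j _ hj
      rw [if_neg (Ne.symm hj)]
    · intro h
      exact absurd (Finset.mem_range.mpr hi) h
  have hQcoeff' : ∀ i, n ≤ i → Q.coeff i = 0 := by
    intro i hi
    exact coeff_eq_zero_of_degree_lt (hQdeg.trans_le (by exact_mod_cast hi))
  refine ⟨X ^ n + Q, monic_X_pow_add hQdeg, ?_, ?_, ?_⟩
  · refine natDegree_add_le_of_degree_le (natDegree_X_pow_le n) ?_
    exact natDegree_le_of_degree_le hQdeg.le
  · intro i hi
    rw [coeff_add, coeff_X_pow, if_neg hi.ne, zero_add, hQcoeff i hi]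
    exact hpJ i
  · change _ = normPoly G x
    rcases subsingleton_or_nontrivial R with hR | hR
    · exact Subsingleton.elim _ _
    ext i
    rw [coeff_map, coeff_add, coeff_X_pow]
    rcases lt_trichotomy i n with hi | hi | hi
    · rw [if_neg hi.ne, zero_add, hQcoeff i hi, hp i hi]
    · subst hi
      rw [if_pos rfl, hQcoeff' _ le_rfl, add_zero, map_one]
      have h1 : (normPoly G x).natDegree = n := normPoly_natDegree G x
      have h2 := (normPoly_monic G x).coeff_natDegree
      rw [h1] at h2
      exact h2.symm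
    · rw [if_neg hi.ne', zero_add, hQcoeff' i hi.le, map_zero]
      exact (coeff_eq_zero_of_natDegree_lt ((normPoly_natDegree_le G x).trans_lt hi)).symm

end Groth.Agent.H46
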