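import Mathlib
import Groth.Agent.H46.NormPoly

/-!
# Norm polynomials for `A ⊗_{R^G} R`
-/

open Polynomial TensorProduct

namespace Groth.Agent.H46

namespace NormTensor

universe u
set_option linter.unusedSectionVars false

variable (R G A : Type u) [CommRing R] [Group G] [Fintype G] [MulSemiringAction G R] [CommRing A]
  [Algebra (FixedPoints.subring R G) A]

theorem toRingHom_mul (σ τ : G) : MulSemiringAction.toRingHom G R (σ * τ) =
    (MulSemiringAction.toRingHom G R σ).comp (MulSemiringAction.toRingHom G R τ) := by
  ext r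
  simp [mul_smul]

theorem toRingHom_one : MulSemiringAction.toRingHom G R 1 = RingHom.id R := by
  ext r
  simp

@[reducible] noncomputable def mvAction : MulSemiringAction G (MvPolynomial A R) where
  smul σ p := MvPolynomial.map (MulSemiringAction.toRingHom G R σ) p
  one_smul p := by
    change MvPolynomial.map (MulSemiringAction.toRingHom G R 1) p = p
    rw [toRingHom_one, MvPolynomial.map_id]
  mul_smul σ τ p := by
    change MvPolynomial.map _ p = MvPolynomial.map _ (MvPolynomial.map _ p)
    rw [MvPolynomial.map_map, toRingHom_mul]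
  smul_zero σ := map_zero _
  smul_add σ p q := map_add _ p q
  smul_one σ := map_one _
  smul_mul σ p q := map_mul _ p q

@[reducible] noncomputable def mvAlgebra :
    Algebra (MvPolynomial A (FixedPoints.subring R G)) (MvPolynomial A R) :=
  (MvPolynomial.map (FixedPoints.subring R G).subtype).toAlgebra

attribute [local instance] mvAction mvAlgebra

theorem smul_def' (σ : G) (p : MvPolynomial A R) :
    σ • p = MvPolynomial.map (MulSemiringAction.toRingHom G R σ) p := rfl

theorem algMap_def (q : MvPolynomial A (FixedPoints.subring R G)) :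
    algebraMap (MvPolynomial A (FixedPoints.subring R G)) (MvPolynomial A R) q =
      MvPolynomial.map (FixedPoints.subring R G).subtype q := rfl

theorem smul_algebraMap' (σ : G) (q : MvPolynomial A (FixedPoints.subring R G)) :
    σ • algebraMap (MvPolynomial A (FixedPoints.subring R G)) (MvPolynomial A R) q =
      algebraMap (MvPolynomial A (FixedPoints.subring R G)) (MvPolynomial A R) q := by
  rw [smul_def', algMap_def, MvPolynomial.map_map]
  have : (MulSemiringAction.toRingHom G R σ).comp (FixedPoints.subring R G).subtype =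
      (FixedPoints.subring R G).subtype := by
    ext b
    exact b.2 σ
  rw [this]

instance smulComm : SMulCommClass G (MvPolynomial A (FixedPoints.subring R G)) (MvPolynomial A R) where
  smul_comm σ q p := by
    rw [Algebra.smul_def, Algebra.smul_def, smul_def', smul_def', map_mul, ← smul_def',
      smul_algebraMap']

instance isInv : Algebra.IsInvariant (MvPolynomial A (FixedPoints.subring R G)) (MvPolynomial A R) G where
  isInvariant p hp := by
    have : p ∈ Set.range (MvPolynomial.map (FixedPoints.subring R G).subtype) := by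
      rw [MvPolynomial.mem_range_map_iff_coeffs_subset]
      intro c hc
      classical
      rw [Finset.mem_coe, MvPolynomial.mem_coeffs_iff] at hc
      obtain ⟨m, -, rfl⟩ := hc
      refine ⟨⟨p.coeff m, fun σ => ?_⟩, rfl⟩
      have := congrArg (MvPolynomial.coeff m) (hp σ)
      change MvPolynomial.coeff m (MvPolynomial.map (MulSemiringAction.toRingHom G R σ) p) = _
        at this
      rw [MvPolynomial.coeff_map] at this
      exact this
    exact this

theorem exists_monic_lift' (J : Ideal (MvPolynomial A (FixedPoints.subring R G)))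
    (x : MvPolynomial A R)
    (hx : x ∈ Ideal.map (algebraMap (MvPolynomial A (FixedPoints.subring R G)) (MvPolynomial A R)) J) :
    ∃ P : Polynomial (MvPolynomial A (FixedPoints.subring R G)), P.Monic ∧
      P.natDegree ≤ Fintype.card G ∧ (∀ i : ℕ, i < Fintype.card G → P.coeff i ∈ J) ∧
      Polynomial.map (algebraMap (MvPolynomial A (FixedPoints.subring R G)) (MvPolynomial A R)) P =
        ∏ σ : G, (Polynomial.X - Polynomial.C (σ • x)) :=
  @exists_monic_lift_normPoly (MvPolynomial A (FixedPoints.subring R G)) (MvPolynomial A R) G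
    _ _ _ _ _ _ (smulComm R G A) (isInv R G A) J x hx

theorem lowCoeffs' (J : Ideal (MvPolynomial A (FixedPoints.subring R G)))
    (x : MvPolynomial A R)
    (hx : x ∈ Ideal.map (algebraMap (MvPolynomial A (FixedPoints.subring R G)) (MvPolynomial A R)) J)
    (i : ℕ) (hi : i < Fintype.card G) :
    (∏ σ : G, (Polynomial.X - Polynomial.C (σ • x))).coeff i ∈
      Submodule.map (Algebra.linearMap (MvPolynomial A (FixedPoints.subring R G)) (MvPolynomial A R))
        J :=
  @lowCoeffsIn_of_mem_map (MvPolynomial A (FixedPoints.subring R G)) (MvPolynomial A R) G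
    _ _ _ _ _ _ (smulComm R G A) (isInv R G A) J x hx i hi

theorem algebraMap_injective' :
    Function.Injective
      (algebraMap (MvPolynomial A (FixedPoints.subring R G)) (MvPolynomial A R)) :=
  MvPolynomial.map_injective _ Subtype.val_injective

/-- The surjection `R[x_a] → A ⊗ R`. -/
noncomputable def π : MvPolynomial A R →+* A ⊗[FixedPoints.subring R G] R :=
  MvPolynomial.eval₂Hom (Algebra.TensorProduct.includeRight :
    R →ₐ[FixedPoints.subring R G] A ⊗[FixedPoints.subring R G] R).toRingHom
    (fun a => a ⊗ₜ[FixedPoints.subring R G] (1 : R))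

@[simp] theorem π_C (r : R) : π R G A (MvPolynomial.C r) = (1 : A) ⊗ₜ r := by
  simp [π]

@[simp] theorem π_X (a : A) : π R G A (MvPolynomial.X a) = a ⊗ₜ (1 : R) := by
  simp [π]

theorem π_surjective : Function.Surjective (π R G A) := by
  intro t
  induction t using TensorProduct.induction_on with
  | zero => exact ⟨0, map_zero _⟩
  | tmul a r =>
    refine ⟨MvPolynomial.X a * MvPolynomial.C r, ?_⟩
    rw [map_mul, π_C, π_X, Algebra.TensorProduct.tmul_mul_tmul, mul_one, one_mul]
  | add x y hx hy =>
    obtain ⟨p, rfl⟩ := hx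
    obtain ⟨q, rfl⟩ := hy
    exact ⟨p + q, map_add _ _ _⟩

theorem π_smul (σ : G) (p : MvPolynomial A R) :
    π R G A (σ • p) = Algebra.TensorProduct.map (AlgHom.id (FixedPoints.subring R G) A)
        (MulSemiringAction.toAlgHom (FixedPoints.subring R G) R σ) (π R G A p) := by
  rw [smul_def']
  have : (π R G A).comp (MvPolynomial.map (MulSemiringAction.toRingHom G R σ)) =
      (Algebra.TensorProduct.map (AlgHom.id (FixedPoints.subring R G) A)
        (MulSemiringAction.toAlgHom (FixedPoints.subring R G) R σ)).toRingHom.comp (π R G A) := by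
    apply MvPolynomial.ringHom_ext
    · intro r
      simp
    · intro a
      simp
  exact congrArg (fun f => f p) this

/-- The surjection `R^G[x_a] → A`. -/
noncomputable def φ : MvPolynomial A (FixedPoints.subring R G) →ₐ[FixedPoints.subring R G] A :=
  MvPolynomial.aeval id

theorem φ_X (a : A) : φ R G A (MvPolynomial.X a) = a := by simp [φ]

theorem φ_surjective : Function.Surjective (φ R G A) := fun a => ⟨MvPolynomial.X a, φ_X R G A a⟩

theorem π_algebraMap (q : MvPolynomial A (FixedPoints.subring R G)) :
    π R G A (algebraMap _ _ q) =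
      algebraMap A (A ⊗[FixedPoints.subring R G] R) (φ R G A q) := by
  have : (π R G A).comp (algebraMap (MvPolynomial A (FixedPoints.subring R G)) (MvPolynomial A R)) =
      (algebraMap A (A ⊗[FixedPoints.subring R G] R)).comp (φ R G A).toRingHom := by
    apply MvPolynomial.ringHom_ext
    · intro b
      have h1 : π R G A (algebraMap (MvPolynomial A (FixedPoints.subring R G)) (MvPolynomial A R)
          (MvPolynomial.C b)) = (1 : A) ⊗ₜ (b : R) := by
        rw [algMap_def, MvPolynomial.map_C, π_C]
        rfl
      have h2 : φ R G A (MvPolynomial.C b) = algebraMap _ A b := by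
        simp [φ]
      have h3 : (algebraMap (FixedPoints.subring R G) A b) ⊗ₜ[FixedPoints.subring R G] (1 : R) =
          (1 : A) ⊗ₜ (b : R) := by
        rw [Algebra.algebraMap_eq_smul_one, TensorProduct.smul_tmul]
        congr 1
        rw [Subring.smul_def, smul_eq_mul, mul_one]
      change π R G A (algebraMap (MvPolynomial A (FixedPoints.subring R G)) (MvPolynomial A R)
          (MvPolynomial.C b)) =
        algebraMap A (A ⊗[FixedPoints.subring R G] R) (φ R G A (MvPolynomial.C b))
      rw [h1, h2, Algebra.TensorProduct.algebraMap_apply, Algebra.algebraMap_self,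
        RingHom.id_apply, h3]
    · intro a
      simp [algMap_def, φ_X]
  exact congrArg (fun f => f q) this

/-- Part (1). -/
theorem part1 (b : A ⊗[FixedPoints.subring R G] R)
    (hb : ∀ σ : G, Algebra.TensorProduct.map (AlgHom.id (FixedPoints.subring R G) A)
        (MulSemiringAction.toAlgHom (FixedPoints.subring R G) R σ) b = b) :
    ∃ P : Polynomial A, P.Monic ∧
      Polynomial.map (algebraMap A (A ⊗[FixedPoints.subring R G] R)) P =
        (Polynomial.X - Polynomial.C b) ^ Fintype.card G := by
  obtain ⟨b', rfl⟩ := π_surjective R G A b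
  obtain ⟨Q, hQm, -, -, hQ⟩ := exists_monic_lift' R G A ⊤ b' (by
      rw [Ideal.map_top]; trivial)
  refine ⟨Q.map (φ R G A).toRingHom, hQm.map _, ?_⟩
  rw [Polynomial.map_map]
  have h1 : (algebraMap A (A ⊗[FixedPoints.subring R G] R)).comp (φ R G A).toRingHom =
      (π R G A).comp (algebraMap (MvPolynomial A (FixedPoints.subring R G)) (MvPolynomial A R)) := by
    refine RingHom.ext fun q => ?_
    exact (π_algebraMap R G A q).symm
  rw [h1, ← Polynomial.map_map, hQ, Polynomial.map_prod]
  have h2 : ∀ σ : G, (Polynomial.X - Polynomial.C (σ • b')).map (π R G A) =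
      Polynomial.X - Polynomial.C (π R G A b') := by
    intro σ
    rw [Polynomial.map_sub, Polynomial.map_X, Polynomial.map_C, π_smul, hb σ]
  rw [Finset.prod_congr rfl (fun σ _ => h2 σ), Finset.prod_const, Finset.card_univ]

/-- The map `A ⊗ R → R[x] / K R[x]`. -/
theorem mem_map_ker_of_tmul_eq_zero (a : A)
    (ha : algebraMap A (A ⊗[FixedPoints.subring R G] R) a = 0) :
    (MvPolynomial.X a : MvPolynomial A R) ∈ Ideal.map
      (algebraMap (MvPolynomial A (FixedPoints.subring R G)) (MvPolynomial A R))
      (RingHom.ker (φ R G A).toRingHom) := by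
  set K := RingHom.ker (φ R G A).toRingHom with hK
  set KR := Ideal.map
      (algebraMap (MvPolynomial A (FixedPoints.subring R G)) (MvPolynomial A R)) K with hKR
  -- `A → R[x]/KR[x]`
  let g₀ : MvPolynomial A (FixedPoints.subring R G) →ₐ[FixedPoints.subring R G]
      MvPolynomial A R ⧸ KR :=
    (Ideal.Quotient.mkₐ (FixedPoints.subring R G) KR).comp
      (MvPolynomial.mapAlgHom (Algebra.ofId (FixedPoints.subring R G) R))
  have hg₀ : ∀ q, g₀ q = Ideal.Quotient.mk KR (algebraMap _ _ q) := by
    intro q
    rfl
  have hg₀K : ∀ q, φ R G A q = 0 → g₀ q = 0 := by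
    intro q hq
    rw [hg₀, Ideal.Quotient.eq_zero_iff_mem]
    exact Ideal.mem_map_of_mem _ (RingHom.mem_ker.2 hq)
  let f₁ : A →ₐ[FixedPoints.subring R G] MvPolynomial A R ⧸ KR :=
    AlgHom.liftOfSurjective (φ R G A) (φ_surjective R G A) g₀ (fun q hq => hg₀K q hq)
  have hf₁ : ∀ q, f₁ (φ R G A q) = g₀ q := by
    intro q
    exact AlgHom.liftOfSurjective_apply _ _ _ _ q
  let f₂ : R →ₐ[FixedPoints.subring R G] MvPolynomial A R ⧸ KR :=
    (Ideal.Quotient.mkₐ (FixedPoints.subring R G) KR).comp
      (IsScalarTower.toAlgHom (FixedPoints.subring R G) R (MvPolynomial A R))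
  let ψ : A ⊗[FixedPoints.subring R G] R →ₐ[FixedPoints.subring R G] MvPolynomial A R ⧸ KR :=
    Algebra.TensorProduct.lift f₁ f₂ (fun _ _ => Commute.all _ _)
  have h1 : ψ (a ⊗ₜ 1) = Ideal.Quotient.mk KR (MvPolynomial.X a) := by
    rw [Algebra.TensorProduct.lift_tmul, map_one, mul_one]
    conv_lhs => rw [← φ_X R G A a]
    rw [hf₁, hg₀, algMap_def, MvPolynomial.map_X]
  rw [Algebra.TensorProduct.algebraMap_apply, Algebra.algebraMap_self, RingHom.id_apply] at ha
  rw [ha, map_zero] at h1
  exact Ideal.Quotient.eq_zero_iff_mem.1 h1.symm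

/-- Part (2). -/
theorem part2 (a : A) (ha : algebraMap A (A ⊗[FixedPoints.subring R G] R) a = 0) (i : ℕ)
    (hi : i < Fintype.card G) :
    ((Polynomial.X - Polynomial.C a) ^ Fintype.card G).coeff i = 0 := by
  have hmem := mem_map_ker_of_tmul_eq_zero R G A a ha
  have hlow := lowCoeffs' R G A _ _ hmem i hi
  have hnorm : ∏ σ : G, (Polynomial.X - Polynomial.C (σ • (MvPolynomial.X a : MvPolynomial A R))) =
      ((Polynomial.X - Polynomial.C (MvPolynomial.X a)) ^ Fintype.card G :
        Polynomial (MvPolynomial A (FixedPoints.subring R G))).map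
        (algebraMap (MvPolynomial A (FixedPoints.subring R G)) (MvPolynomial A R)) := by
    have : ∀ σ : G, σ • (MvPolynomial.X a : MvPolynomial A R) = MvPolynomial.X a := by
      intro σ
      rw [smul_def', MvPolynomial.map_X]
    simp only [this, Finset.prod_const, Finset.card_univ, Polynomial.map_pow, Polynomial.map_sub,
      Polynomial.map_X, Polynomial.map_C, algMap_def, MvPolynomial.map_X]
  rw [hnorm, Polynomial.coeff_map] at hlow
  obtain ⟨k, hk, hkeq⟩ := hlow
  have hk' := algebraMap_injective' R G A hkeq
  have hk0 : φ R G A k = 0 := RingHom.mem_ker.1 hk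
  have : ((Polynomial.X - Polynomial.C a) ^ Fintype.card G : Polynomial A) =
      ((Polynomial.X - Polynomial.C (MvPolynomial.X a)) ^ Fintype.card G :
        Polynomial (MvPolynomial A (FixedPoints.subring R G))).map (φ R G A).toRingHom := by
    simp only [Polynomial.map_pow, Polynomial.map_sub, Polynomial.map_X, Polynomial.map_C,
      AlgHom.toRingHom_eq_coe, RingHom.coe_coe, φ_X]
  rw [this, Polynomial.coeff_map, ← hk']
  exact hk0

end NormTensor

end Groth.Agent.H46
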