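import Groth.Agent.H46.McCoy
import Mathlib.LinearAlgebra.Matrix.ToLin
import Mathlib.LinearAlgebra.FreeModule.Finite.Basic
import Mathlib.Algebra.Module.Projective
import Mathlib.RingTheory.TensorProduct.Finite
import Mathlib.LinearAlgebra.Finsupp.Supported

set_option autoImplicit false
universe u v w

namespace Groth.Agent.H46

open Matrix

section Matrix

variable {R : Type u} [CommRing R] {m n : ℕ}

theorem minorIdeal_fg (A : Matrix (Fin n) (Fin m) R) (r : ℕ) : (CAlgX.minorIdeal A r).FG := by
  unfold CAlgX.minorIdeal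
  exact Submodule.fg_span (Set.finite_range _)

/-- For each pair `(f, g)` there is a matrix `V` with `V * A = det (A.submatrix f g) • 1`. -/
theorem exists_mul_eq_det_smul_one (A : Matrix (Fin n) (Fin m) R) (f : Fin m → Fin n)
    (g : Fin m → Fin m) : ∃ V : Matrix (Fin m) (Fin n) R, V * A = det (A.submatrix f g) • 1 := by
  by_cases hg : Function.Injective g
  · have hgb : Function.Bijective g := Finite.injective_iff_bijective.mp hg
    let e : Equiv.Perm (Fin m) := Equiv.ofBijective g hgb
    set N := A.submatrix f id with hN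
    have h1 : ((1 : Matrix (Fin n) (Fin n) R).submatrix f id) * A = N := by
      have := submatrix_mul (1 : Matrix (Fin n) (Fin n) R) A f id id Function.bijective_id
      rw [Matrix.one_mul, Matrix.submatrix_id_id] at this
      exact this.symm
    have h2 : det (A.submatrix f g) = (Equiv.Perm.sign e : ℤ) * det N := by
      have := det_permute' e N
      rw [hN, submatrix_submatrix] at this
      have he : (⇑e : Fin m → Fin m) = g := rfl
      simpa [he] using this
    refine ⟨((Equiv.Perm.sign e : ℤ) : R) • (adjugate N * (1 : Matrix (Fin n) (Fin n) R).submatrix f id), ?_⟩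
    rw [Matrix.smul_mul, Matrix.mul_assoc, h1, adjugate_mul, h2, smul_smul]
  · refine ⟨0, ?_⟩
    rw [det_submatrix_eq_zero_of_not_injective A m f g hg, zero_smul, Matrix.zero_mul]

theorem exists_left_inverse_of_minorIdeal_eq_top (A : Matrix (Fin n) (Fin m) R)
    (h : CAlgX.minorIdeal A m = ⊤) : ∃ V : Matrix (Fin m) (Fin n) R, V * A = 1 := by
  have h1 : (1 : R) ∈ CAlgX.minorIdeal A m := by rw [h]; exact Submodule.mem_top
  unfold CAlgX.minorIdeal at h1
  rw [Ideal.mem_span_range_iff_exists_fun] at h1
  obtain ⟨c, hc⟩ := h1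
  choose V hV using fun fg : (Fin m → Fin n) × (Fin m → Fin m) =>
    exists_mul_eq_det_smul_one A fg.1 fg.2
  refine ⟨∑ fg, c fg • V fg, ?_⟩
  rw [Matrix.sum_mul]
  simp_rw [Matrix.smul_mul, hV, smul_smul]
  rw [← Finset.sum_smul, hc, one_smul]

end Matrix

section Modules

variable {R : Type u} [CommRing R]
  (hP : ∀ I : Ideal R, I.FG → I ≠ ⊤ → I.annihilator ≠ ⊥)

include hP in
theorem exists_left_inverse_of_injective {m n : ℕ} (A : Matrix (Fin n) (Fin m) R)
    (hA : Function.Injective (Matrix.mulVecLin A)) : ∃ V : Matrix (Fin m) (Fin n) R, V * A = 1 := by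
  apply exists_left_inverse_of_minorIdeal_eq_top
  by_contra hne
  exact hP _ (minorIdeal_fg A m) hne (annihilator_minorIdeal_eq_bot_of_injective A hA)

include hP in
theorem exists_retraction_of_basis {F₁ : Type v} {F₂ : Type w} [AddCommGroup F₁] [Module R F₁]
    [AddCommGroup F₂] [Module R F₂] {m n : ℕ} (b₁ : Module.Basis (Fin m) R F₁)
    (b₂ : Module.Basis (Fin n) R F₂) (w : F₁ →ₗ[R] F₂) (hw : Function.Injective w) :
    ∃ v : F₂ →ₗ[R] F₁, v ∘ₗ w = LinearMap.id := by
  set A := LinearMap.toMatrix b₁ b₂ w with hA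
  have hinj : Function.Injective (Matrix.mulVecLin A) := by
    rw [injective_iff_map_eq_zero]
    intro y hy
    rw [Matrix.mulVecLin_apply] at hy
    have h1 := LinearMap.toMatrix_mulVec_repr b₁ b₂ w (b₁.equivFun.symm y)
    have h2 : (b₁.repr (b₁.equivFun.symm y) : Fin m → R) = y := by
      have := b₁.equivFun.apply_symm_apply y
      rwa [Module.Basis.equivFun_apply] at this
    rw [h2, ← hA, hy] at h1
    have h3 : b₂.repr (w (b₁.equivFun.symm y)) = 0 := by
      ext i
      exact (congrFun h1 i).symm
    have h4 : w (b₁.equivFun.symm y) = 0 := by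
      rwa [LinearEquiv.map_eq_zero_iff] at h3
    have h5 := hw (h4.trans (map_zero w).symm)
    rwa [LinearEquiv.map_eq_zero_iff] at h5
  obtain ⟨V, hV⟩ := exists_left_inverse_of_injective hP A hinj
  refine ⟨Matrix.toLin b₂ b₁ V, ?_⟩
  have hw' : w = Matrix.toLin b₁ b₂ A := (Matrix.toLin_toMatrix b₁ b₂ w).symm
  rw [hw', ← Matrix.toLin_mul, hV, Matrix.toLin_one]

include hP in
theorem exists_retraction_of_finite_free {F₁ : Type v} {F₂ : Type w} [AddCommGroup F₁]
    [Module R F₁] [AddCommGroup F₂] [Module R F₂] [Module.Free R F₁] [Module.Finite R F₁]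
    [Module.Free R F₂] [Module.Finite R F₂] (w : F₁ →ₗ[R] F₂) (hw : Function.Injective w) :
    ∃ v : F₂ →ₗ[R] F₁, v ∘ₗ w = LinearMap.id := by
  rcases subsingleton_or_nontrivial R with hR | hR
  · haveI : Subsingleton F₁ := Module.subsingleton R F₁
    exact ⟨0, LinearMap.ext fun x => Subsingleton.elim _ _⟩
  · let c₁ := Module.Free.chooseBasis R F₁
    let c₂ := Module.Free.chooseBasis R F₂
    haveI : Finite (Module.Free.ChooseBasisIndex R F₁) := Module.Finite.finite_basis c₁
    haveI : Finite (Module.Free.ChooseBasisIndex R F₂) := Module.Finite.finite_basis c₂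
    letI := Fintype.ofFinite (Module.Free.ChooseBasisIndex R F₁)
    letI := Fintype.ofFinite (Module.Free.ChooseBasisIndex R F₂)
    exact exists_retraction_of_basis hP (c₁.reindex (Fintype.equivFin _))
      (c₂.reindex (Fintype.equivFin _)) w hw

include hP in
theorem exists_retraction_of_finite_free_of_projective {F : Type v} {M : Type w} [AddCommGroup F]
    [Module R F] [AddCommGroup M] [Module R M] [Module.Free R F] [Module.Finite R F]
    [Module.Projective R M] (w : F →ₗ[R] M) (hw : Function.Injective w) :
    ∃ v : M →ₗ[R] F, v ∘ₗ w = LinearMap.id := by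
  classical
  obtain ⟨i, hi⟩ := (Module.projective_def' (R := R) (P := M)).mp inferInstance
  have hiinj : Function.Injective i := by
    intro x y hxy
    have := congrArg (Finsupp.linearCombination R id) hxy
    rwa [← LinearMap.comp_apply, ← LinearMap.comp_apply, hi] at this
  obtain ⟨S, hS⟩ := (Module.Finite.fg_top : (⊤ : Submodule R F).FG)
  let t : Finset M := S.biUnion fun x => (i (w x)).support
  have ht : ∀ x : F, i (w x) ∈ Finsupp.supported R R (t : Set M) := by
    intro x
    have hx : x ∈ Submodule.span R (S : Set F) := by rw [hS]; exact Submodule.mem_top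
    have hle : Submodule.span R (S : Set F) ≤
        (Finsupp.supported R R (t : Set M)).comap (i ∘ₗ w) := by
      rw [Submodule.span_le]
      intro y hy
      rw [SetLike.mem_coe, Submodule.mem_comap, LinearMap.comp_apply, Finsupp.mem_supported]
      intro a ha
      simp only [t, Finset.coe_biUnion, Set.mem_iUnion]
      exact ⟨y, hy, ha⟩
    exact hle hx
  let w' : F →ₗ[R] Finsupp.supported R R (t : Set M) := (i ∘ₗ w).codRestrict _ ht
  have hw' : Function.Injective w' := by
    intro x y hxy
    have := congrArg Subtype.val hxy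
    exact hw (hiinj this)
  let e := Finsupp.supportedEquivFinsupp (M := R) (R := R) (t : Set M)
  haveI : Module.Free R (Finsupp.supported R R (t : Set M)) := Module.Free.of_equiv e.symm
  haveI : Module.Finite R (Finsupp.supported R R (t : Set M)) := Module.Finite.equiv e.symm
  obtain ⟨v', hv'⟩ := exists_retraction_of_finite_free hP (F₁ := F)
    (F₂ := ↥(Finsupp.supported R R (t : Set M))) w' hw'
  refine ⟨v' ∘ₗ Finsupp.restrictDom R R (t : Set M) ∘ₗ i, ?_⟩
  have h1 : i ∘ₗ w = (Finsupp.supported R R (t : Set M)).subtype ∘ₗ w' := by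
    ext x : 1
    rfl
  rw [LinearMap.comp_assoc, LinearMap.comp_assoc, h1]
  have h2 : Finsupp.restrictDom R R (t : Set M) ∘ₗ (Finsupp.supported R R (t : Set M)).subtype ∘ₗ w'
      = w' := by
    rw [← LinearMap.comp_assoc, Finsupp.restrictDom_comp_subtype, LinearMap.id_comp]
  rw [h2, hv']

include hP in
/-- Over a ring with property (P), an injective map of projective modules has a retraction
on any finitely generated submodule of the source. -/
theorem exists_retraction_on_fg {N : Type v} {M : Type w} [AddCommGroup N] [Module R N]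
    [AddCommGroup M] [Module R M] [Module.Projective R N] [Module.Projective R M]
    (u : N →ₗ[R] M) (hu : Function.Injective u) (J : Submodule R N) (hJ : J.FG) :
    ∃ r : M →ₗ[R] N, ∀ x ∈ J, r (u x) = x := by
  classical
  obtain ⟨i, hi⟩ := (Module.projective_def' (R := R) (P := N)).mp inferInstance
  set p : (N →₀ R) →ₗ[R] N := Finsupp.linearCombination R id with hp
  have hpi : ∀ x, p (i x) = x := fun x => LinearMap.congr_fun hi x
  obtain ⟨S, hS⟩ := hJ
  let s : Finset N := S.biUnion fun x => (i x).support
  have hs : ∀ x ∈ J, i x ∈ Finsupp.supported R R (s : Set N) := by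
    intro x hx
    rw [← hS] at hx
    have hle : Submodule.span R (S : Set N) ≤ (Finsupp.supported R R (s : Set N)).comap i := by
      rw [Submodule.span_le]
      intro y hy
      rw [SetLike.mem_coe, Submodule.mem_comap, Finsupp.mem_supported]
      intro a ha
      simp only [s, Finset.coe_biUnion, Set.mem_iUnion]
      exact ⟨y, hy, ha⟩
    exact hle hx
  let Fs := Finsupp.supported R R (s : Set N)
  let e := Finsupp.supportedEquivFinsupp (M := R) (R := R) (s : Set N)
  haveI : Module.Free R Fs := Module.Free.of_equiv e.symm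
  haveI : Module.Finite R Fs := Module.Finite.equiv e.symm
  let w : Fs →ₗ[R] M × (N →₀ R) :=
    (u ∘ₗ p ∘ₗ Fs.subtype).prod (Fs.subtype - i ∘ₗ p ∘ₗ Fs.subtype)
  have hw : Function.Injective w := by
    rw [injective_iff_map_eq_zero]
    intro y hy
    have h1 : u (p (y : N →₀ R)) = 0 := congrArg Prod.fst hy
    have h2 : (y : N →₀ R) - i (p (y : N →₀ R)) = 0 := congrArg Prod.snd hy
    have h3 : p (y : N →₀ R) = 0 := hu (h1.trans (map_zero u).symm)
    rw [h3, map_zero, sub_zero] at h2
    exact Subtype.ext h2
  obtain ⟨ρ, hρ⟩ := exists_retraction_of_finite_free_of_projective hP (F := Fs)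
    (M := M × (N →₀ R)) w hw
  refine ⟨p ∘ₗ Fs.subtype ∘ₗ ρ ∘ₗ LinearMap.inl R M (N →₀ R), ?_⟩
  intro x hx
  let y : Fs := ⟨i x, hs x hx⟩
  have hwy : w y = (u x, 0) := by
    ext1
    · change u (p (i x)) = u x
      rw [hpi]
    · change i x - i (p (i x)) = 0
      rw [hpi, sub_self]
  have hρy : ρ (u x, 0) = y := by
    rw [← hwy]
    exact LinearMap.congr_fun hρ y
  change p ((ρ (u x, 0) : Fs) : N →₀ R) = x
  rw [hρy]
  exact hpi x

end Modules

end Groth.Agent.H46
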