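import Mathlib
import Groth.Prelude.Def_CAlg
import Groth.Prelude.Def_Flat
import Groth.Agent.H72.Miracle
import Groth.Agent.H72.FlatCM
import Groth.Agent.H11.FtDim
import Groth.Agent.H46.CIField

/-!
# Flatness over a polynomial ring of a quasi-finite algebra: Cohen–Macaulay + dimension
-/

set_option autoImplicit false
set_option linter.unusedSectionVars false

open IsLocalRing

universe u

namespace Groth.Agent.H46.QFFlatCM

section General

variable {A S : Type u} [CommRing A] [CommRing S] [Algebra A S] (q : Ideal S) [q.IsPrime]

/-- The algebra structure of `S_q` over `A_p`, `p = q ∩ A`. -/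
noncomputable abbrev locAlg :
    Algebra (Localization.AtPrime (q.under A)) (Localization.AtPrime q) :=
  (Localization.localRingHom (q.under A) q (algebraMap A S) rfl).toAlgebra

attribute [local instance] locAlg

theorem locAlg_apply (x : Localization.AtPrime (q.under A)) :
    algebraMap (Localization.AtPrime (q.under A)) (Localization.AtPrime q) x =
      Localization.localRingHom (q.under A) q (algebraMap A S) rfl x := rfl

instance : IsScalarTower A (Localization.AtPrime (q.under A)) (Localization.AtPrime q) :=
  IsScalarTower.of_algebraMap_eq fun r => by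
    rw [locAlg_apply, Localization.localRingHom_to_map,
      IsScalarTower.algebraMap_apply A S (Localization.AtPrime q)]

instance : IsLocalHom (algebraMap (Localization.AtPrime (q.under A)) (Localization.AtPrime q)) :=
  Localization.isLocalHom_localRingHom _ _ _ rfl

/-- For a quasi-finite algebra the closed fibre of `A_p → S_q` has dimension zero. -/
theorem ringKrullDim_fibre_eq_zero [Algebra.QuasiFinite A S] :
    ringKrullDim (Localization.AtPrime q ⧸
      (maximalIdeal (Localization.AtPrime (q.under A))).map
        (algebraMap (Localization.AtPrime (q.under A)) (Localization.AtPrime q))) = 0 := by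
  set I := (maximalIdeal (Localization.AtPrime (q.under A))).map
    (algebraMap (Localization.AtPrime (q.under A)) (Localization.AtPrime q)) with hI
  have hIle : I ≤ maximalIdeal (Localization.AtPrime q) :=
    ((IsLocalRing.local_hom_TFAE (algebraMap (Localization.AtPrime (q.under A))
      (Localization.AtPrime q))).out 0 2).mp
      (inferInstance : IsLocalHom (algebraMap (Localization.AtPrime (q.under A))
        (Localization.AtPrime q)))
  have hcm : (maximalIdeal (Localization.AtPrime q)).comap
      (algebraMap S (Localization.AtPrime q)) = q :=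
    IsLocalization.AtPrime.under_maximalIdeal _ q
  haveI : Nontrivial (Localization.AtPrime q ⧸ I) :=
    Ideal.Quotient.nontrivial_iff.mpr fun h =>
      (maximalIdeal.isMaximal (Localization.AtPrime q)).ne_top (top_le_iff.mp (h ▸ hIle))
  have key : ∀ P : Ideal (Localization.AtPrime q), P.IsPrime → I ≤ P →
      P = maximalIdeal (Localization.AtPrime q) := by
    intro P hP hIP
    have hPle : P ≤ maximalIdeal (Localization.AtPrime q) := le_maximalIdeal hP.ne_top
    let q₁ : Ideal S := P.comap (algebraMap S (Localization.AtPrime q))
    haveI : q₁.IsPrime := Ideal.comap_isPrime _ _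
    have hq₁q : q₁ ≤ q := by
      have := Ideal.comap_mono (f := algebraMap S (Localization.AtPrime q)) hPle
      rwa [hcm] at this
    have hunder : q₁.under A = q.under A := by
      apply le_antisymm (Ideal.comap_mono hq₁q)
      intro a ha
      change algebraMap S (Localization.AtPrime q) (algebraMap A S a) ∈ P
      rw [← IsScalarTower.algebraMap_apply, IsScalarTower.algebraMap_apply A
        (Localization.AtPrime (q.under A)) (Localization.AtPrime q)]
      apply hIP
      apply Ideal.mem_map_of_mem
      rw [← Localization.AtPrime.map_eq_maximalIdeal]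
      exact Ideal.mem_map_of_mem _ ha
    have hq₁ : q₁ = q := Algebra.QuasiFinite.eq_of_le_of_under_eq (R := A) q₁ q hq₁q hunder
    have h2 : P.comap (algebraMap S (Localization.AtPrime q)) =
        (maximalIdeal (Localization.AtPrime q)).comap (algebraMap S (Localization.AtPrime q)) := by
      rw [hcm]; exact hq₁
    have h3 := congrArg (Ideal.map (algebraMap S (Localization.AtPrime q))) h2
    rwa [IsLocalization.map_comap q.primeCompl, IsLocalization.map_comap q.primeCompl] at h3
  haveI : Ring.KrullDimLE 0 (Localization.AtPrime q ⧸ I) := by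
    rw [Ring.krullDimLE_zero_iff]
    intro J hJ
    have h1 : J.comap (Ideal.Quotient.mk I) = maximalIdeal (Localization.AtPrime q) := by
      apply key _ (Ideal.comap_isPrime _ _)
      intro x hx
      rw [Ideal.mem_comap, Ideal.Quotient.eq_zero_iff_mem.mpr hx]
      exact J.zero_mem
    have h2 : J = (maximalIdeal (Localization.AtPrime q)).map (Ideal.Quotient.mk I) := by
      rw [← h1, Ideal.map_comap_of_surjective _ Ideal.Quotient.mk_surjective]
    rw [h2]
    rcases Ideal.map_eq_top_or_isMaximal_of_surjective (Ideal.Quotient.mk I)
      Ideal.Quotient.mk_surjective (maximalIdeal.isMaximal (Localization.AtPrime q)) with h | h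
    · exact absurd (h2 ▸ h) hJ.ne_top
    · exact h
  exact ringKrullDimZero_iff_ringKrullDim_eq_zero.mp inferInstance

end General

section Main

variable {k S : Type u} [Field k] [CommRing S] [Algebra k S] [Algebra.FiniteType k S] (d : ℕ)
  [Algebra (MvPolynomial (Fin d) k) S] [IsScalarTower k (MvPolynomial (Fin d) k) S]
  [Algebra.QuasiFinite (MvPolynomial (Fin d) k) S] (q : Ideal S) [q.IsPrime]

attribute [local instance] locAlg

instance : Localization.AtPrime.IsLiesOverAlgebra (q.under (MvPolynomial (Fin d) k)) q := ⟨rfl⟩

/-- The local dimension of affine space at any point is `d`. -/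
theorem localDim_mvPolynomial (p : Ideal (MvPolynomial (Fin d) k)) [p.IsPrime] :
    FlatMor.localDim (PrimeSpectrum (MvPolynomial (Fin d) k)) ⟨p, inferInstance⟩ =
      (d : WithBot ℕ∞) := by
  rw [Groth.Agent.H11.FtDim.localDim_eq_height_add_coheight (k := k),
    Groth.Agent.H11.FtDim.height_add_coheight_eq k,
    Groth.Agent.H54.ringKrullDim_mvPolynomial_fin_field]

/-- The residue fields at `q` and at `q ∩ k[y]` have the same transcendence degree. -/
theorem exists_trdeg_eq :
    ∃ r : ℕ, Algebra.trdeg k q.ResidueField = r ∧
      Algebra.trdeg k (q.under (MvPolynomial (Fin d) k)).ResidueField = r := by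
  obtain ⟨r, hr, -, -⟩ := Groth.Agent.H14.ringKrullDim_eq_trdeg_of_finiteType_domain k
    (MvPolynomial (Fin d) k ⧸ q.under (MvPolynomial (Fin d) k))
  have h1 : Algebra.trdeg k (FractionRing (MvPolynomial (Fin d) k ⧸ q.under (MvPolynomial (Fin d) k)))
      = Algebra.trdeg k (q.under (MvPolynomial (Fin d) k)).ResidueField :=
    ((FractionRing.algEquiv (MvPolynomial (Fin d) k ⧸ q.under (MvPolynomial (Fin d) k))
      (q.under (MvPolynomial (Fin d) k)).ResidueField).restrictScalars k).trdeg_eq
  rw [h1] at hr
  refine ⟨r, ?_, hr⟩
  haveI : Module.Finite (q.under (MvPolynomial (Fin d) k)).ResidueField q.ResidueField :=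
    inferInstance
  haveI : Algebra.IsAlgebraic (q.under (MvPolynomial (Fin d) k)).ResidueField q.ResidueField :=
    inferInstance
  have h0 : Algebra.trdeg (q.under (MvPolynomial (Fin d) k)).ResidueField q.ResidueField = 0 :=
    trdeg_eq_zero
  have := trdeg_add_eq k (q.under (MvPolynomial (Fin d) k)).ResidueField
    (A := q.ResidueField)
  rw [h0, hr, add_zero] at this
  exact this.symm

/-- The two local dimensions in terms of the dimensions of the local rings. -/
theorem localDim_eq_iff :
    FlatMor.localDim (PrimeSpectrum S) ⟨q, inferInstance⟩ = (d : WithBot ℕ∞) ↔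
      ringKrullDim (Localization.AtPrime q) =
        ringKrullDim (Localization.AtPrime (q.under (MvPolynomial (Fin d) k))) := by
  haveI : IsNoetherianRing S := Algebra.FiniteType.isNoetherianRing k S
  obtain ⟨r, hrq, hrp⟩ := exists_trdeg_eq (k := k) d q
  have h1 := Groth.Agent.H11.FtDim.localDim_eq_dim_add_trdeg (k := k) q r hrq
  have h2 := Groth.Agent.H11.FtDim.localDim_eq_dim_add_trdeg (k := k)
    (q.under (MvPolynomial (Fin d) k)) r hrp
  rw [localDim_mvPolynomial] at h2
  rw [h1, h2]
  obtain ⟨a, ha⟩ := Groth.Agent.H72.FlatCM.exists_ringKrullDim_eq_natCast (Localization.AtPrime q)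
  obtain ⟨b, hb⟩ := Groth.Agent.H72.FlatCM.exists_ringKrullDim_eq_natCast
    (Localization.AtPrime (q.under (MvPolynomial (Fin d) k)))
  rw [ha, hb]
  constructor
  · intro h
    have : a + r = b + r := by exact_mod_cast h
    have : a = b := by omega
    rw [this]
  · intro h
    have : a = b := by exact_mod_cast h
    rw [this]

/-- Main theorem. -/
theorem main :
    Module.Flat (MvPolynomial (Fin d) k) (Localization.AtPrime q) ↔
      (LocCoh.IsCohenMacaulayLocalRing (Localization.AtPrime q) ∧
        FlatMor.localDim (PrimeSpectrum S) ⟨q, inferInstance⟩ = (d : WithBot ℕ∞)) := by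
  haveI : IsNoetherianRing S := Algebra.FiniteType.isNoetherianRing k S
  have hfib := ringKrullDim_fibre_eq_zero (A := MvPolynomial (Fin d) k) q
  have hCMA : LocCoh.IsCohenMacaulayLocalRing
      (Localization.AtPrime (q.under (MvPolynomial (Fin d) k))) :=
    Groth.Agent.H46.CIField.isCM_of_isRegularLocalRing _
  rw [localDim_eq_iff (k := k) d q,
    ← Module.flat_iff_of_isLocalization (Localization.AtPrime (q.under (MvPolynomial (Fin d) k)))
      (q.under (MvPolynomial (Fin d) k)).primeCompl (Localization.AtPrime q)]
  constructor
  · intro hflat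
    refine ⟨(Groth.Agent.H72.FlatCM.isCohenMacaulayLocalRing_iff_of_flat
      (A := Localization.AtPrime (q.under (MvPolynomial (Fin d) k)))
      (B := Localization.AtPrime q)).mpr ⟨hCMA,
        Groth.Agent.H72.FlatCM.isCohenMacaulayLocalRing_of_ringKrullDim_eq_zero _ hfib⟩, ?_⟩
    rw [Groth.Agent.H72.FlatCM.ringKrullDim_eq_add_of_flat
      (A := Localization.AtPrime (q.under (MvPolynomial (Fin d) k)))
      (B := Localization.AtPrime q), hfib, add_zero]
  · rintro ⟨hCM, hdim⟩
    apply Groth.Agent.H72.Miracle.flat_of_isCohenMacaulay
      (Localization.AtPrime (q.under (MvPolynomial (Fin d) k))) (Localization.AtPrime q)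
      (Localization.AtPrime q) hCM.supportDim_eq_depth
    rw [Module.supportDim_self_eq_ringKrullDim, smul_eq_mul, Ideal.mul_top,
      Module.supportDim_quotient_eq_ringKrullDim, hfib, add_zero, hdim]

end Main

end Groth.Agent.H46.QFFlatCM
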