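import Mathlib
import Groth.Prelude.Def_CAlgX
import Groth.Agent.S9272
import Groth.Agent.S5803
import Groth.Agent.H94.H1QuasiFlat
import Groth.Agent.H70.RegFibre.Global

/-!
# Lifting quasi-regular sequences with flat quotient along a locally nilpotent thickening
-/

set_option autoImplicit false
set_option linter.style.haveILetI false
universe u

open TensorProduct

namespace Groth.Agent.H46.QRNilFlat

section Fibre

variable {A' B' : Type u} [CommRing A'] [CommRing B'] [Algebra A' B']
  (I : Ideal A') (p : Ideal A') [p.IsPrime] (hIp : I ≤ p)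
  {r : ℕ} (f' : Fin r → B')

include hIp in
/-- The images of `f'` in the fibre ring `B' ⊗ κ(p)` form a quasi-regular sequence. -/
theorem isQuasiRegular_fibre
    (hq : CAlgX.IsQuasiRegular
      (fun i => Ideal.Quotient.mk (Ideal.map (algebraMap A' B') I) (f' i)))
    (hflat : Module.Flat (A' ⧸ I)
      ((B' ⧸ Ideal.map (algebraMap A' B') I) ⧸
        Ideal.span (Set.range (fun i => Ideal.Quotient.mk (Ideal.map (algebraMap A' B') I) (f' i))))) :
    CAlgX.IsQuasiRegular
      (fun i => (f' i ⊗ₜ[A'] (1 : p.ResidueField) : B' ⊗[A'] p.ResidueField)) := by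
  letI : Algebra (A' ⧸ I) p.ResidueField :=
    (Ideal.Quotient.lift I (algebraMap A' p.ResidueField) (fun a ha =>
      (Ideal.algebraMap_residueField_eq_zero).mpr (hIp ha))).toAlgebra
  haveI : IsScalarTower A' (A' ⧸ I) p.ResidueField :=
    IsScalarTower.of_algebraMap_eq (fun a => rfl)
  have h1 := Groth.Agent.S9272.result (A' ⧸ I) (B' ⧸ Ideal.map (algebraMap A' B') I)
    p.ResidueField r _ hflat hq
  let e1 := Algebra.TensorProduct.quotIdealMapEquivQuotTensor B' I
  let e2 : p.ResidueField ⊗[A' ⧸ I] (B' ⧸ Ideal.map (algebraMap A' B') I) ≃ₐ[A' ⧸ I]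
      p.ResidueField ⊗[A' ⧸ I] ((A' ⧸ I) ⊗[A'] B') :=
    Algebra.TensorProduct.congr AlgEquiv.refl e1
  let e3 := Algebra.TensorProduct.cancelBaseChange A' (A' ⧸ I) (A' ⧸ I) p.ResidueField B'
  let e4 := Algebra.TensorProduct.comm A' p.ResidueField B'
  let Ψ : p.ResidueField ⊗[A' ⧸ I] (B' ⧸ Ideal.map (algebraMap A' B') I) ≃+*
      B' ⊗[A'] p.ResidueField :=
    (e2.toRingEquiv.trans e3.toRingEquiv).trans e4.toRingEquiv
  have h2 := Groth.Agent.H94.H1QuasiFlat.isQuasiRegular_map_of_flat Ψ.toRingHom
    (RingHom.Flat.of_bijective Ψ.bijective) _ h1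
  convert h2 using 2
  rename_i i
  change _ = e4 (e3 (e2 (1 ⊗ₜ[A' ⧸ I] (Ideal.Quotient.mk (Ideal.map (algebraMap A' B') I)) (f' i))))
  have h3 : e2 (1 ⊗ₜ[A' ⧸ I] (Ideal.Quotient.mk (Ideal.map (algebraMap A' B') I)) (f' i)) =
      (1 : p.ResidueField) ⊗ₜ[A' ⧸ I] ((1 : A' ⧸ I) ⊗ₜ[A'] f' i) := by
    simp only [e2, Algebra.TensorProduct.congr_apply, Algebra.TensorProduct.map_tmul]
    rfl
  rw [h3]
  simp only [e3, e4, Algebra.TensorProduct.cancelBaseChange_tmul, one_smul,
    Algebra.TensorProduct.comm_tmul]

end Fibre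

section Core

variable {A' B' : Type u} [CommRing A'] [CommRing B'] [Algebra A' B'] [Algebra.FiniteType A' B']
  (p : Ideal A') [p.IsPrime] (q : Ideal B') [q.IsPrime] [q.LiesOver p]
  {r : ℕ} (f' : Fin r → B')

/-- A quasi-regular sequence in the fibre ring, contained in the prime `q`, is weakly regular on the
localization of the fibre at `q`. -/
theorem isWeaklyRegular_localizedModule_fibre (hf'q : ∀ i, f' i ∈ q)
    (hq2 : CAlgX.IsQuasiRegular
      (fun i => (f' i ⊗ₜ[A'] (1 : p.ResidueField) : B' ⊗[A'] p.ResidueField))) :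
    RingTheory.Sequence.IsWeaklyRegular
      (LocalizedModule q.primeCompl (B' ⊗[A'] p.ResidueField)) (List.ofFn f') := by
  obtain ⟨M, hM⟩ : ∃ M : Submonoid (B' ⊗[A'] p.ResidueField),
      M = Algebra.algebraMapSubmonoid (B' ⊗[A'] p.ResidueField) q.primeCompl := ⟨_, rfl⟩
  haveI hloc : IsLocalization (Algebra.algebraMapSubmonoid (B' ⊗[A'] p.ResidueField) q.primeCompl)
      (Localization M) := by
    rw [← hM]
    infer_instance
  -- quasi-regularity in the localization
  have hq3 := Groth.Agent.H94.H1QuasiFlat.isQuasiRegular_map_of_flat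
    (algebraMap (B' ⊗[A'] p.ResidueField) (Localization M))
    (RingHom.flat_algebraMap_iff.mpr (IsLocalization.flat (Localization M) M)) _ hq2
  -- Noetherian
  haveI hN1 : IsNoetherianRing (p.ResidueField ⊗[A'] B') :=
    Algebra.FiniteType.isNoetherianRing p.ResidueField _
  haveI hN2 : IsNoetherianRing (B' ⊗[A'] p.ResidueField) :=
    isNoetherianRing_of_ringEquiv _ (Algebra.TensorProduct.comm A' p.ResidueField B').toRingEquiv
  haveI hN3 : IsNoetherianRing (Localization M) := IsLocalization.isNoetherianRing M _ hN2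
  -- the surjection from the local ring of `B'` at `q`
  have hunit : ∀ y : q.primeCompl, IsUnit (algebraMap B' (Localization M) y) := by
    intro y
    rw [IsScalarTower.algebraMap_apply B' (B' ⊗[A'] p.ResidueField) (Localization M)]
    exact IsLocalization.map_units (Localization M)
      (⟨algebraMap B' (B' ⊗[A'] p.ResidueField) y, by rw [hM]; exact ⟨y, y.2, rfl⟩⟩ : M)
  obtain ⟨π, hπ⟩ : ∃ π : Localization.AtPrime q →+* Localization M,
      π = IsLocalization.lift (M := q.primeCompl) hunit := ⟨_, rfl⟩
  have hπ_alg : ∀ b : B', π (algebraMap B' _ b) = algebraMap B' (Localization M) b := fun b => by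
    rw [hπ]
    exact IsLocalization.lift_eq _ _
  have htmul : ∀ b : B', algebraMap B' (Localization M) b =
      algebraMap (B' ⊗[A'] p.ResidueField) (Localization M) (b ⊗ₜ[A'] 1) := fun b => by
    rw [IsScalarTower.algebraMap_apply B' (B' ⊗[A'] p.ResidueField) (Localization M),
      Algebra.TensorProduct.algebraMap_apply, Algebra.algebraMap_self, RingHom.id_apply]
  have hπ_surj : Function.Surjective π := by
    intro y
    obtain ⟨⟨t, ⟨s', hs'⟩⟩, rfl⟩ := IsLocalization.mk'_surjective M y
    obtain ⟨s, hs, hss'⟩ : ∃ s ∈ q.primeCompl,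
        algebraMap B' (B' ⊗[A'] p.ResidueField) s = s' := by
      have := hs'
      rw [hM] at this
      exact this
    obtain ⟨a, ha, b, hab⟩ := Ideal.ResidueField.exists_smul_eq_tmul_one p t
    have ha' : algebraMap A' B' a ∈ q.primeCompl := by
      intro h
      apply ha
      rw [Ideal.LiesOver.over (p := p) (P := q)]
      exact h
    refine ⟨IsLocalization.mk' (Localization.AtPrime q) b
      ⟨algebraMap A' B' a * s, q.primeCompl.mul_mem ha' hs⟩, ?_⟩
    have h1 : π (IsLocalization.mk' (Localization.AtPrime q) b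
        ⟨algebraMap A' B' a * s, q.primeCompl.mul_mem ha' hs⟩) *
        algebraMap B' (Localization M) (algebraMap A' B' a * s) =
        algebraMap B' (Localization M) b := by
      rw [← hπ_alg, ← hπ_alg, ← map_mul]
      congr 1
      exact IsLocalization.mk'_spec _ _ _
    have h2 : algebraMap B' (Localization M) b = algebraMap B' (Localization M) (algebraMap A' B' a) *
        algebraMap (B' ⊗[A'] p.ResidueField) (Localization M) t := by
      rw [htmul b, ← hab, Algebra.smul_def, map_mul,
        ← IsScalarTower.algebraMap_apply A' (B' ⊗[A'] p.ResidueField) (Localization M),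
        IsScalarTower.algebraMap_apply A' B' (Localization M)]
    have hu : IsUnit (algebraMap B' (Localization M) (algebraMap A' B' a)) :=
      hunit ⟨_, ha'⟩
    rw [IsLocalization.eq_mk'_iff_mul_eq]
    apply hu.mul_left_cancel
    rw [← h2, ← h1, map_mul,
      IsScalarTower.algebraMap_apply B' (B' ⊗[A'] p.ResidueField) (Localization M) s, hss']
    ring
  -- Jacobson radical
  have hjac : ∀ i, algebraMap (B' ⊗[A'] p.ResidueField) (Localization M)
      (f' i ⊗ₜ[A'] (1 : p.ResidueField)) ∈ Ring.jacobson (Localization M) := by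
    intro i
    rw [← Ideal.jacobson_bot, Ideal.mem_jacobson_bot]
    intro y
    obtain ⟨σ, rfl⟩ := hπ_surj y
    rw [← htmul, ← hπ_alg, ← map_mul, ← map_one π, ← map_add]
    apply IsUnit.map
    have hm : algebraMap B' (Localization.AtPrime q) (f' i) ∈
        IsLocalRing.maximalIdeal (Localization.AtPrime q) :=
      (IsLocalization.AtPrime.to_map_mem_maximal_iff _ q _).mpr (hf'q i)
    have hj : algebraMap B' (Localization.AtPrime q) (f' i) ∈
        Ideal.jacobson (⊥ : Ideal (Localization.AtPrime q)) := by
      rw [IsLocalRing.jacobson_eq_maximalIdeal ⊥ bot_ne_top]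
      exact hm
    exact Ideal.mem_jacobson_bot.mp hj σ
  have h5 := Groth.Agent.S5803.result (Localization M) r _ hjac hq3
  have h6 : List.ofFn (fun i => algebraMap (B' ⊗[A'] p.ResidueField) (Localization M)
      (f' i ⊗ₜ[A'] (1 : p.ResidueField))) =
      (List.ofFn f').map (algebraMap B' (Localization M)) := by
    rw [List.map_ofFn]
    exact congrArg List.ofFn (funext fun i => (htmul (f' i)).symm)
  rw [h6, RingTheory.Sequence.isWeaklyRegular_map_algebraMap_iff] at h5
  have e := IsLocalizedModule.iso q.primeCompl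
    (IsScalarTower.toAlgHom B' (B' ⊗[A'] p.ResidueField) (Localization M)).toLinearMap
  exact (e.isWeaklyRegular_congr _).mpr h5

end Core

section FlatQuot

open RingTheory.Sequence Groth.Agent.H70.RegFibre in
/-- Variant of helper70's `isRegular_and_flat_quotients` with weak regularity only. -/
theorem flat_quotients_of_weaklyRegular {A B : Type u} [CommRing A] [CommRing B] [Algebra A B]
    [Algebra.FinitePresentation A B]
    (M : Type u) [AddCommGroup M] [Module B M] [Module A M] [IsScalarTower A B M]
    [Module.FinitePresentation B M] (p : Ideal A) [p.IsPrime] (q : Ideal B) [q.IsPrime]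
    [q.LiesOver p] (g : List B)
    (hflat : Module.Flat A (LocalizedModule q.primeCompl M))
    (hreg : IsWeaklyRegular (LocalizedModule q.primeCompl (M ⊗[A] p.ResidueField)) g) :
    ∀ i ≤ g.length, Module.Flat A
      (LocalizedModule q.primeCompl (M ⧸ (Ideal.ofList (g.take i) • (⊤ : Submodule B M)))) := by
  let R := Localization.AtPrime p
  let S := Localization.AtPrime q
  letI : Algebra R S := Localization.AtPrime.algebraOfLiesOver p q
  let N' := LocalizedModule q.primeCompl M
  letI : Module R N' := Module.compHom N' (algebraMap R S)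
  haveI : IsScalarTower R S N' := ⟨fun r s n => by
    change (r • s) • n = (algebraMap R S r) • (s • n)
    rw [Algebra.smul_def, mul_smul]⟩
  haveI : IsScalarTower A R N' := ⟨fun a r n => by
    change (algebraMap R S (a • r)) • n = a • ((algebraMap R S r) • n)
    rw [← smul_assoc]
    congr 1
    rw [Algebra.smul_def, map_mul, ← IsScalarTower.algebraMap_apply A R S, Algebra.smul_def]⟩
  have hS := isEssFinitePresentation_atPrime p q
  haveI : Module.Flat R N' := (Module.flat_iff_of_isLocalization R p.primeCompl N').mpr hflat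
  obtain ⟨e5⟩ := exists_fibreEquiv M p q
  set m : Ideal S := (IsLocalRing.maximalIdeal R).map (algebraMap R S) with hm
  have hfib : IsWeaklyRegular (N' ⧸ (m • ⊤ : Submodule S N')) (g.map (algebraMap B S)) := by
    rw [isWeaklyRegular_map_algebraMap_iff]
    exact (e5.isWeaklyRegular_congr g).mp hreg
  obtain ⟨h1, h2⟩ := isWeaklyRegular_and_flat_of_fibre hS (g.map (algebraMap B S)) N' hfib
  intro i hi
  have hfl := h2 i (by simpa using hi)
  rw [← List.map_take, ← Ideal.map_ofList] at hfl
  haveI : Module.Flat A (N' ⧸ ((Ideal.ofList (g.take i)).map (algebraMap B S) • ⊤ :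
      Submodule S N')) := Module.Flat.trans A R _
  exact Module.Flat.of_linearEquiv
    ((locQuotSMulEquiv M q.primeCompl (Ideal.ofList (g.take i))).symm.restrictScalars A)

end FlatQuot

section Main

variable (A' B' : Type u) [CommRing A'] [CommRing B'] [Algebra A' B'] [Module.Flat A' B']
  [Algebra.FinitePresentation A' B']
  (I : Ideal A') (hI : ∀ x ∈ I, IsNilpotent x) (r : ℕ) (f' : Fin r → B')

include hI in
/-- Stacks-style lifting of flatness of a quasi-regular quotient along a locally nilpotent
thickening of the base. -/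
theorem main
    (hq : CAlgX.IsQuasiRegular
      (fun i => Ideal.Quotient.mk (Ideal.map (algebraMap A' B') I) (f' i)))
    (hflat : Module.Flat (A' ⧸ I)
      ((B' ⧸ Ideal.map (algebraMap A' B') I) ⧸
        Ideal.span (Set.range (fun i => Ideal.Quotient.mk (Ideal.map (algebraMap A' B') I) (f' i))))) :
    Module.Flat A' (B' ⧸ Ideal.span (Set.range f')) := by
  apply Module.flat_of_isLocalized_maximal B' (B' ⧸ Ideal.span (Set.range f'))
    (fun P _ => LocalizedModule P.primeCompl (B' ⧸ Ideal.span (Set.range f')))
    (fun P _ => LocalizedModule.mkLinearMap P.primeCompl (B' ⧸ Ideal.span (Set.range f')))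
  intro P hP
  haveI : P.IsPrime := hP.isPrime
  by_cases hfP : ∀ i, f' i ∈ P
  · obtain ⟨p, hp⟩ : ∃ p : Ideal A', p = P.under A' := ⟨_, rfl⟩
    haveI : p.IsPrime := by
      rw [hp]
      infer_instance
    haveI : P.LiesOver p := ⟨hp⟩
    have hIp : I ≤ p := by
      intro x hx
      obtain ⟨k, hk⟩ := hI x hx
      exact Ideal.IsPrime.mem_of_pow_mem inferInstance k (by rw [hk]; exact zero_mem _)
    have hq2 := isQuasiRegular_fibre I p hIp f' hq hflat
    have hreg := isWeaklyRegular_localizedModule_fibre p P f' hfP hq2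
    have hflatB : Module.Flat A' (LocalizedModule P.primeCompl B') := by
      have e := IsLocalizedModule.iso P.primeCompl (Algebra.linearMap B' (Localization.AtPrime P))
      exact Module.Flat.of_linearEquiv (e.restrictScalars A')
    have h := flat_quotients_of_weaklyRegular B' p P (List.ofFn f') hflatB hreg r (by simp)
    rw [List.take_of_length_le (by simp)] at h
    have hJ : (Ideal.ofList (List.ofFn f') • (⊤ : Submodule B' B')) =
        Ideal.span (Set.range f') := by
      rw [Ideal.smul_top_eq_map, Algebra.algebraMap_self, Ideal.map_id]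
      rw [Submodule.restrictScalars_self]
      unfold Ideal.ofList
      congr 1
      ext x
      simp [List.mem_ofFn]
    rw [hJ] at h
    exact h
  · push Not at hfP
    obtain ⟨i, hi⟩ := hfP
    haveI : Subsingleton (LocalizedModule P.primeCompl (B' ⧸ Ideal.span (Set.range f'))) := by
      rw [LocalizedModule.subsingleton_iff]
      intro m
      refine ⟨f' i, hi, ?_⟩
      obtain ⟨b, rfl⟩ := Ideal.Quotient.mk_surjective m
      change Ideal.Quotient.mk _ (f' i * b) = 0
      rw [Ideal.Quotient.eq_zero_iff_mem]
      exact Ideal.mul_mem_right _ _ (Ideal.subset_span ⟨i, rfl⟩)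
    infer_instance

end Main

end Groth.Agent.H46.QRNilFlat
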