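import Mathlib
import Groth.Agent.H46.QRNilFlat
import Groth.Agent.H25.FibreSmooth

/-!
# Lifting smoothness of a quasi-regular quotient along a locally nilpotent thickening
-/

set_option autoImplicit false
set_option linter.style.haveILetI false
universe u

open TensorProduct

namespace Groth.Agent.H46.QRNilSmooth

attribute [local instance] Algebra.TensorProduct.rightAlgebra

section Iso

variable {A' B' : Type u} [CommRing A'] [CommRing B'] [Algebra A' B']
  (I : Ideal A') {r : ℕ} (f' : Fin r → B')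

/-- `(B'/IB')/(f̄) ≃ (A'/I) ⊗ (B'/(f'))`. -/
noncomputable def redEquiv :
    ((B' ⧸ Ideal.map (algebraMap A' B') I) ⧸
        Ideal.span (Set.range (fun i => Ideal.Quotient.mk (Ideal.map (algebraMap A' B') I) (f' i))))
      ≃ₐ[A' ⧸ I] (A' ⧸ I) ⊗[A'] (B' ⧸ Ideal.span (Set.range f')) :=
  (Ideal.quotientEquivAlg _ ((Ideal.span (Set.range f')).map
      (Algebra.TensorProduct.includeRight (R := A') (A := A' ⧸ I) (B := B')))
    (Algebra.TensorProduct.quotIdealMapEquivQuotTensor B' I) (by
      rw [Ideal.map_span, Ideal.map_span]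
      congr 1
      ext x
      simp only [Set.mem_image, Set.mem_range, exists_exists_eq_and]
      rfl)).trans
    (Algebra.TensorProduct.tensorQuotientEquiv (R := A') (A' ⧸ I) B' (A' ⧸ I)
      (Ideal.span (Set.range f'))).symm

end Iso

section Main

variable (A' B' : Type u) [CommRing A'] [CommRing B'] [Algebra A' B'] [Module.Flat A' B']
  [Algebra.FinitePresentation A' B']
  (I : Ideal A') (hI : ∀ x ∈ I, IsNilpotent x) (r : ℕ) (f' : Fin r → B')

include hI in
theorem main
    (hq : CAlgX.IsQuasiRegular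
      (fun i => Ideal.Quotient.mk (Ideal.map (algebraMap A' B') I) (f' i)))
    (hsm : Algebra.Smooth (A' ⧸ I)
      ((B' ⧸ Ideal.map (algebraMap A' B') I) ⧸
        Ideal.span (Set.range (fun i => Ideal.Quotient.mk (Ideal.map (algebraMap A' B') I) (f' i))))) :
    Algebra.Smooth A' (B' ⧸ Ideal.span (Set.range f')) := by
  haveI hflat : Module.Flat A' (B' ⧸ Ideal.span (Set.range f')) :=
    Groth.Agent.H46.QRNilFlat.main A' B' I hI r f' hq inferInstance
  haveI hfpB : Algebra.FinitePresentation B' (B' ⧸ Ideal.span (Set.range f')) :=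
    Algebra.FinitePresentation.quotient (Submodule.fg_span (Set.finite_range f'))
  haveI hfp : Algebra.FinitePresentation A' (B' ⧸ Ideal.span (Set.range f')) :=
    Algebra.FinitePresentation.trans A' B' _
  refine ⟨?_, hfp⟩
  rw [← Algebra.smoothLocus_eq_univ_iff, Set.eq_univ_iff_forall]
  intro qs
  obtain ⟨ps, hps⟩ : ∃ ps : PrimeSpectrum A', ps =
      PrimeSpectrum.comap (algebraMap A' (B' ⧸ Ideal.span (Set.range f'))) qs := ⟨_, rfl⟩
  have hIp : I ≤ ps.asIdeal := by
    intro x hx
    obtain ⟨k, hk⟩ := hI x hx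
    exact Ideal.IsPrime.mem_of_pow_mem ps.isPrime k (by rw [hk]; exact zero_mem _)
  -- the prime of the fibre
  obtain ⟨Q, hQ⟩ : ∃ Q : PrimeSpectrum (ps.asIdeal.Fiber (B' ⧸ Ideal.span (Set.range f'))),
      Q = PrimeSpectrum.preimageEquivFiber A' (B' ⧸ Ideal.span (Set.range f')) ps
        ⟨qs, hps.symm⟩ := ⟨_, rfl⟩
  have hqQ : qs.asIdeal = Q.asIdeal.comap
      (algebraMap (B' ⧸ Ideal.span (Set.range f'))
        (ps.asIdeal.Fiber (B' ⧸ Ideal.span (Set.range f')))) := by
    have h1 := (PrimeSpectrum.preimageEquivFiber A' (B' ⧸ Ideal.span (Set.range f')) ps).symm_apply_apply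
      ⟨qs, hps.symm⟩
    rw [← hQ] at h1
    have h2 := congrArg (fun z => z.1.asIdeal) h1
    exact h2.symm
  -- smoothness of the fibre
  letI : Algebra (A' ⧸ I) ps.asIdeal.ResidueField :=
    (Ideal.Quotient.lift I (algebraMap A' ps.asIdeal.ResidueField) (fun a ha =>
      (Ideal.algebraMap_residueField_eq_zero).mpr (hIp ha))).toAlgebra
  haveI : IsScalarTower A' (A' ⧸ I) ps.asIdeal.ResidueField :=
    IsScalarTower.of_algebraMap_eq (fun a => rfl)
  let E : ps.asIdeal.ResidueField ⊗[A' ⧸ I] ((B' ⧸ Ideal.map (algebraMap A' B') I) ⧸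
        Ideal.span (Set.range (fun i => Ideal.Quotient.mk (Ideal.map (algebraMap A' B') I) (f' i))))
      ≃ₐ[ps.asIdeal.ResidueField] ps.asIdeal.ResidueField ⊗[A'] (B' ⧸ Ideal.span (Set.range f')) :=
    (Algebra.TensorProduct.congr AlgEquiv.refl (redEquiv I f')).trans
      (Algebra.TensorProduct.cancelBaseChange A' (A' ⧸ I) ps.asIdeal.ResidueField
        ps.asIdeal.ResidueField (B' ⧸ Ideal.span (Set.range f')))
  haveI hsmK : Algebra.Smooth ps.asIdeal.ResidueField
      (ps.asIdeal.ResidueField ⊗[A'] (B' ⧸ Ideal.span (Set.range f'))) :=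
    Algebra.Smooth.of_equiv (R := ps.asIdeal.ResidueField)
      (A := ps.asIdeal.ResidueField ⊗[A' ⧸ I] ((B' ⧸ Ideal.map (algebraMap A' B') I) ⧸
        Ideal.span (Set.range (fun i => Ideal.Quotient.mk (Ideal.map (algebraMap A' B') I) (f' i)))))
      E
  have hsmQ : Algebra.IsSmoothAt ps.asIdeal.ResidueField Q.asIdeal := by
    change Algebra.FormallySmooth _ _
    infer_instance
  exact Groth.Agent.H25.FibreSmooth.isSmoothAt_of_fibre (R := A') (A := A')
    (B := B' ⧸ Ideal.span (Set.range f')) (K := ps.asIdeal.ResidueField)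
    (A_K := ps.asIdeal.ResidueField)
    (B_K := ps.asIdeal.ResidueField ⊗[A'] (B' ⧸ Ideal.span (Set.range f')))
    (Field.toIsField _) (Ideal.surjectiveOnStalks_residueField ps.asIdeal)
    Q.asIdeal qs.asIdeal hqQ inferInstance hsmQ

end Main

end Groth.Agent.H46.QRNilSmooth
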