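import Mathlib
import Groth.Agent.Lead.RegularLocal3
import Groth.Agent.H46.RegularDeriv

/-!
# Elements of a regular local ring independent modulo `m²` form a regular sequence with regular
quotient
-/

open IsLocalRing RingTheory.Sequence

namespace Groth.Agent.H46

universe u

/-- `f` is independent modulo `m²`. -/
def IndepModSq {R : Type u} [CommRing R] [IsLocalRing R] {m : ℕ} (f : Fin m → R) : Prop :=
  ∀ c : Fin m → R, ∑ j, c j * f j ∈ maximalIdeal R ^ 2 → ∀ j, c j ∈ maximalIdeal R

theorem regular_of_indepModSq : ∀ (m : ℕ) (R : Type u) [CommRing R] [IsRegularLocalRing R]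
    (f : Fin m → R), (∀ i, f i ∈ maximalIdeal R) → IndepModSq f →
    IsRegularLocalRing (R ⧸ Ideal.span (Set.range f)) ∧ IsRegular R (List.ofFn f) := by
  intro m
  induction m with
  | zero =>
    intro R _ _ f _ _
    have h0 : Ideal.span (Set.range f) = ⊥ := by
      rw [Ideal.span_eq_bot]
      rintro _ ⟨i, rfl⟩
      exact i.elim0
    constructor
    · rw [h0]
      exact IsRegularLocalRing.of_ringEquiv (RingEquiv.quotientBot R).symm
    · rw [List.ofFn_zero]
      exact IsRegular.nil R R
  | succ m ih =>
    intro R _ _ f hf hind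
    classical
    set a := f 0 with ha_def
    have ha : a ∈ maximalIdeal R := hf 0
    have ha2 : a ∉ maximalIdeal R ^ 2 := by
      intro hmem
      have h1 := hind (Pi.single 0 1) (by
        rw [Finset.sum_eq_single 0]
        · simpa using hmem
        · intro j _ hj
          simp [Pi.single_eq_of_ne hj]
        · simp) 0
      rw [Pi.single_eq_same] at h1
      exact (Ideal.ne_top_iff_one _).mp (maximalIdeal.isMaximal R).ne_top h1
    have hreg₁ : IsRegularLocalRing (R ⧸ Ideal.span {a}) :=
      isRegularLocalRing_quotient_of_not_mem_sq R a ha ha2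
    let mk₁ := Ideal.Quotient.mk (Ideal.span {a})
    have hmkmax : (maximalIdeal R).map mk₁ = maximalIdeal (R ⧸ Ideal.span {a}) :=
      map_maximalIdeal_of_surjective mk₁ Ideal.Quotient.mk_surjective
    have hmem₁ : ∀ x, x ∈ maximalIdeal R → mk₁ x ∈ maximalIdeal (R ⧸ Ideal.span {a}) := by
      intro x hx
      rw [← hmkmax]
      exact Ideal.mem_map_of_mem _ hx
    let g : Fin m → R := f ∘ Fin.succ
    have hf' : ∀ i, (mk₁ ∘ g) i ∈ maximalIdeal (R ⧸ Ideal.span {a}) := fun i => hmem₁ _ (hf _)
    have hind' : IndepModSq (mk₁ ∘ g) := by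
      intro cbar hc
      choose c hcbar using fun j => Ideal.Quotient.mk_surjective (cbar j)
      have h1 : ∑ j, cbar j * (mk₁ ∘ g) j = mk₁ (∑ j, c j * g j) := by
        rw [map_sum]
        refine Finset.sum_congr rfl fun j _ => ?_
        rw [map_mul, hcbar]
        rfl
      rw [h1, ← hmkmax, ← Ideal.map_pow,
        Ideal.mem_map_iff_of_surjective _ Ideal.Quotient.mk_surjective] at hc
      obtain ⟨y, hy, hy'⟩ := hc
      have h2 : ∑ j, c j * g j - y ∈ Ideal.span {a} := by
        rw [← Ideal.Quotient.eq]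
        exact hy'.symm
      obtain ⟨c₀, hc₀⟩ := Ideal.mem_span_singleton'.mp h2
      have h3 := hind (Fin.cons (-c₀) c) (by
        rw [Fin.sum_univ_succ]
        simp only [Fin.cons_zero, Fin.cons_succ]
        have : -c₀ * f 0 + ∑ j : Fin m, c j * f j.succ = y := by
          have : ∑ j : Fin m, c j * f j.succ = ∑ j, c j * g j := rfl
          rw [this]
          rw [ha_def] at hc₀
          linear_combination (-1 : R) * hc₀
        rw [this]
        exact hy)
      intro j
      have h4 := h3 j.succ
      rw [Fin.cons_succ] at h4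
      rw [← hcbar j]
      exact hmem₁ _ h4
    obtain ⟨ih1, ih2⟩ := ih (R ⧸ Ideal.span {a}) (mk₁ ∘ g) hf' hind'
    have hrange : Ideal.span (Set.range f) = Ideal.span {a} ⊔ Ideal.span (Set.range g) := by
      rw [← Ideal.span_union]
      congr 1
      ext x
      simp only [Set.mem_range, Set.singleton_union, Set.mem_insert_iff, g, Function.comp]
      constructor
      · rintro ⟨i, rfl⟩
        refine Fin.cases ?_ ?_ i
        · left; rfl
        · intro j; right; exact ⟨j, rfl⟩
      · rintro (rfl | ⟨j, rfl⟩)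
        · exact ⟨0, rfl⟩
        · exact ⟨j.succ, rfl⟩
    constructor
    · have hmap : (Ideal.span (Set.range g)).map mk₁ = Ideal.span (Set.range (mk₁ ∘ g)) := by
        rw [Ideal.map_span, Set.range_comp mk₁ g]
      have e : ((R ⧸ Ideal.span {a}) ⧸ Ideal.span (Set.range (mk₁ ∘ g))) ≃+*
          R ⧸ (Ideal.span {a} ⊔ Ideal.span (Set.range g)) :=
        (Ideal.quotEquivOfEq hmap.symm).trans
          (DoubleQuot.quotQuotEquivQuotSup (Ideal.span {a}) (Ideal.span (Set.range g)))
      rw [hrange]
      exact IsRegularLocalRing.of_ringEquiv e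
    · have hdom : IsDomain R := Groth.Agent.Lead.RLR.isDomain R
      have ha0 : a ≠ 0 := by
        intro h0
        exact ha2 (h0 ▸ Ideal.zero_mem _)
      rw [List.ofFn_succ]
      rw [Groth.Agent.Lead.RLR.isRegular_cons_iff_quotient]
      refine ⟨?_, ?_⟩
      · exact (IsRegular.of_ne_zero ha0).left.isSMulRegular
      · rw [List.map_ofFn]
        exact ih2

/-- Jacobian criterion: if `det (D_i f_j)` is a unit then the `f_j` are independent modulo `m²`. -/
theorem indepModSq_of_det_isUnit {R : Type u} [CommRing R] [IsLocalRing R] {m : ℕ}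
    (f : Fin m → R) (hf : ∀ i, f i ∈ maximalIdeal R) (D : Fin m → Derivation ℤ R R)
    (hdet : IsUnit (Matrix.det (Matrix.of (fun i j : Fin m => D i (f j))))) :
    IndepModSq f := by
  intro c hc j
  set M : Matrix (Fin m) (Fin m) R := Matrix.of (fun i j : Fin m => D i (f j)) with hM
  have h1 : ∀ i, (M.mulVec c) i ∈ maximalIdeal R := by
    intro i
    have h2 := derivation_mem_of_mem_sq (D i) (maximalIdeal R) hc
    rw [map_sum] at h2
    have h3 : ∑ j, D i (c j * f j) = (M.mulVec c) i + ∑ j, f j * D i (c j) := by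
      rw [Matrix.mulVec, dotProduct, ← Finset.sum_add_distrib]
      refine Finset.sum_congr rfl fun j _ => ?_
      rw [(D i).leibniz, smul_eq_mul, smul_eq_mul, hM, Matrix.of_apply]
      ring
    rw [h3] at h2
    have h4 : ∑ j, f j * D i (c j) ∈ maximalIdeal R :=
      Ideal.sum_mem _ fun j _ => Ideal.mul_mem_right _ _ (hf j)
    exact (Ideal.add_mem_iff_left _ h4).mp h2
  have h5 : c = M⁻¹.mulVec (M.mulVec c) := by
    rw [Matrix.mulVec_mulVec, Matrix.nonsing_inv_mul M hdet, Matrix.one_mulVec]
  rw [h5, Matrix.mulVec, dotProduct]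
  exact Ideal.sum_mem _ fun i _ => Ideal.mul_mem_left _ _ (h1 i)

end Groth.Agent.H46
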