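import Mathlib
import Groth.Prelude.Def_RegImm
import Groth.Agent.H46.RelGCIOpen
import Groth.Agent.H49.FibreDimAtBC

/-!
# Openness of the relative-global-complete-intersection locus around `V(I)`
-/

set_option autoImplicit false
universe u

open MvPolynomial TensorProduct AlgebraicGeometry CategoryTheory

namespace Groth.Agent.H46.RelGCIOpenIdeal

attribute [local instance] Algebra.TensorProduct.rightAlgebra

section BC

variable (R R' S : Type u) [CommRing R] [CommRing R'] [CommRing S] [Algebra R R'] [Algebra R S]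

/-- Base change invariance of the local fibre dimension, ring form. -/
theorem fibreDimAt_tensor [Algebra.FiniteType R S] (t : PrimeSpectrum (R' ⊗[R] S)) :
    FlatMor.fibreDimAt (Spec.map (CommRingCat.ofHom (algebraMap R' (R' ⊗[R] S))))
      (show ↥(Spec (CommRingCat.of (R' ⊗[R] S))) from t) =
    FlatMor.fibreDimAt (Spec.map (CommRingCat.ofHom (algebraMap R S)))
      (show ↥(Spec (CommRingCat.of S)) from
        PrimeSpectrum.comap (algebraMap S (R' ⊗[R] S)) t) := by
  have hpo := CommRingCat.isPushout_of_isPushout R S R' (R' ⊗[R] S)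
  have hpb := isPullback_SpecMap_of_isPushout _ _ _ _ hpo
  haveI : LocallyOfFiniteType (Spec.map (CommRingCat.ofHom (algebraMap R S))) := by
    rw [HasRingHomProperty.Spec_iff (P := @LocallyOfFiniteType)]
    exact RingHom.finiteType_algebraMap.mpr inferInstance
  exact Groth.Agent.H49.FibreDimAtBC.fibreDimAt_eq_of_isPullback _ _ _ _ hpb t

/-- The local fibre dimension is bounded by the dimension of the fibre ring. -/
theorem fibreDimAt_le_ringKrullDim (t : PrimeSpectrum S) :
    FlatMor.fibreDimAt (Spec.map (CommRingCat.ofHom (algebraMap R S)))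
      (show ↥(Spec (CommRingCat.of S)) from t) ≤
      ringKrullDim ((t.asIdeal.under R).Fiber S) ∧ Nontrivial ((t.asIdeal.under R).Fiber S) := by
  haveI : t.asIdeal.LiesOver (t.asIdeal.under R) := ⟨rfl⟩
  haveI : t.asIdeal.IsPrime := t.isPrime
  let Q : PrimeSpectrum ((t.asIdeal.under R).Fiber S) :=
    PrimeSpectrum.primesOverOrderIsoFiber R S (t.asIdeal.under R) ⟨t.asIdeal, ‹_›, ‹_›⟩
  have hQ : t.asIdeal = Q.asIdeal.comap Algebra.TensorProduct.includeRight.toRingHom :=
    congr($((PrimeSpectrum.primesOverOrderIsoFiber R S (t.asIdeal.under R)).symm_apply_apply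
      ⟨t.asIdeal, ‹_›, ‹_›⟩).1).symm
  refine ⟨?_, Q.nontrivial⟩
  rw [Groth.Agent.H49.FibreDimRing.fibreDimAt_SpecMap R S ⟨t.asIdeal.under R, inferInstance⟩ Q t
    hQ.symm]
  refine (Groth.Agent.H17.Chev.localDim_le_dim Q).trans ?_
  rw [PrimeSpectrum.topologicalKrullDim_eq_ringKrullDim]

/-- Variant with the fibre ring replaced by that of an isomorphic algebra. -/
theorem fibreDimAt_le_of_equiv {T' : Type u} [CommRing T'] [Algebra R T'] (e : S ≃ₐ[R] T')
    (t : PrimeSpectrum S) (m : ℕ) (P : Prop)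
    (h : ∀ p : PrimeSpectrum R, Nontrivial (p.asIdeal.Fiber T') →
      P ∧ ringKrullDim (p.asIdeal.Fiber T') = (m : WithBot ℕ∞)) :
    P ∧ FlatMor.fibreDimAt (Spec.map (CommRingCat.ofHom (algebraMap R S)))
      (show ↥(Spec (CommRingCat.of S)) from t) ≤ (m : WithBot ℕ∞) := by
  obtain ⟨h3, hnt⟩ := fibreDimAt_le_ringKrullDim R S t
  haveI : t.asIdeal.IsPrime := t.isPrime
  let E : (t.asIdeal.under R).Fiber S ≃ₐ[(t.asIdeal.under R).ResidueField]
      (t.asIdeal.under R).Fiber T' :=
    Algebra.TensorProduct.congr AlgEquiv.refl e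
  have hnt' : Nontrivial ((t.asIdeal.under R).Fiber T') := E.injective.nontrivial
  obtain ⟨hP, hdim⟩ := h ⟨t.asIdeal.under R, inferInstance⟩ hnt'
  refine ⟨hP, h3.trans ?_⟩
  rw [ringKrullDim_eq_of_ringEquiv E.toRingEquiv]
  exact hdim.le

end BC

section Main

variable (R : Type u) [CommRing R] (n c : ℕ) (F : Fin c → MvPolynomial (Fin n) R)

/-- Base change of the presentation. -/
noncomputable def bcEquiv (A : Type u) [CommRing A] [Algebra R A] :
    (MvPolynomial (Fin n) A ⧸ Ideal.span (Set.range fun i =>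
      MvPolynomial.map (algebraMap R A) (F i))) ≃ₐ[A] A ⊗[R] (Synt.RelGCIRing R n c F) :=
  (Ideal.quotientEquivAlgOfEq A (((Algebra.Presentation.naive (v := F)).baseChange
    A).span_range_relation_eq_ker)).trans
    (((Algebra.Presentation.naive (v := F)).baseChange A).quotientEquiv.restrictScalars A)

/-- Points over `V(I)` have local fibre dimension `≤ n - c`. -/
theorem fibreDimAt_le_of_le (I : Ideal R)
    (hI : Synt.IsRelGCI (R ⧸ I) n c (fun i => MvPolynomial.map (Ideal.Quotient.mk I) (F i)))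
    (q : PrimeSpectrum (Synt.RelGCIRing R n c F))
    (hq : I.map (algebraMap R (Synt.RelGCIRing R n c F)) ≤ q.asIdeal) :
    c ≤ n ∧ FlatMor.fibreDimAt
      (Spec.map (CommRingCat.ofHom (algebraMap R (Synt.RelGCIRing R n c F))))
        (show ↥(Spec (CommRingCat.of (Synt.RelGCIRing R n c F))) from q) ≤
          ((n - c : ℕ) : WithBot ℕ∞) := by
  let e : (Synt.RelGCIRing R n c F ⧸ I.map (algebraMap R (Synt.RelGCIRing R n c F))) ≃ₐ[R ⧸ I] ((R ⧸ I) ⊗[R] Synt.RelGCIRing R n c F) :=
    Algebra.TensorProduct.quotIdealMapEquivQuotTensor (Synt.RelGCIRing R n c F) I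
  let qbar : Ideal (Synt.RelGCIRing R n c F ⧸ I.map (algebraMap R (Synt.RelGCIRing R n c F))) :=
    q.asIdeal.map (Ideal.Quotient.mk (I.map (algebraMap R (Synt.RelGCIRing R n c F))))
  haveI : qbar.IsPrime := Ideal.map_isPrime_of_surjective Ideal.Quotient.mk_surjective
    (by rw [Ideal.mk_ker]; exact hq)
  let t : PrimeSpectrum ((R ⧸ I) ⊗[R] Synt.RelGCIRing R n c F) := ⟨qbar.comap (e.symm : ((R ⧸ I) ⊗[R] Synt.RelGCIRing R n c F) →+* Synt.RelGCIRing R n c F ⧸ I.map (algebraMap R (Synt.RelGCIRing R n c F))),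
    Ideal.comap_isPrime _ _⟩
  have h1 : PrimeSpectrum.comap (algebraMap (Synt.RelGCIRing R n c F) ((R ⧸ I) ⊗[R] Synt.RelGCIRing R n c F)) t = q := by
    ext s
    change e.symm ((1 : R ⧸ I) ⊗ₜ[R] s) ∈ qbar ↔ s ∈ q.asIdeal
    have : e.symm ((1 : R ⧸ I) ⊗ₜ[R] s) = Ideal.Quotient.mk _ s := by
      rw [AlgEquiv.symm_apply_eq]
      exact (Algebra.TensorProduct.quotIdealMapEquivQuotTensor_mk (Synt.RelGCIRing R n c F) I s).symm
    rw [this]
    exact Ideal.mem_quotient_iff_mem hq
  have h2 := fibreDimAt_tensor R (R ⧸ I) (Synt.RelGCIRing R n c F) t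
  rw [h1] at h2
  rw [← h2]
  have e' : ((R ⧸ I) ⊗[R] Synt.RelGCIRing R n c F) ≃ₐ[R ⧸ I]
      Synt.RelGCIRing (R ⧸ I) n c (fun i => MvPolynomial.map (Ideal.Quotient.mk I) (F i)) :=
    (bcEquiv R n c F (R ⧸ I)).symm
  have key := fibreDimAt_le_of_equiv (R ⧸ I) ((R ⧸ I) ⊗[R] Synt.RelGCIRing R n c F)
    (T' := Synt.RelGCIRing (R ⧸ I) n c (fun i => MvPolynomial.map (Ideal.Quotient.mk I) (F i)))
    e' t (n - c) (c ≤ n)
  have key2 := key hI
  refine ⟨key2.1, ?_⟩
  have key3 := key2.2
  convert key3 using 2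

theorem main (I : Ideal R)
    (hI : Synt.IsRelGCI (R ⧸ I) n c (fun i => MvPolynomial.map (Ideal.Quotient.mk I) (F i))) :
    ∃ h : MvPolynomial (Fin n) R,
      Ideal.Quotient.mk (I.map (algebraMap R (Synt.RelGCIRing R n c F)))
        (Ideal.Quotient.mk (Ideal.span (Set.range F)) h) = 1 ∧
      Synt.IsRelGCI R (n + 1) (c + 1)
        (Fin.snoc (fun i => rename Fin.castSucc (F i)) (rename Fin.castSucc h * X (Fin.last n) - 1)) ∧
      Nonempty (Localization.Away (Ideal.Quotient.mk (Ideal.span (Set.range F)) h) ≃ₐ[R]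
        Synt.RelGCIRing R (n + 1) (c + 1)
          (Fin.snoc (fun i => rename Fin.castSucc (F i)) (rename Fin.castSucc h * X (Fin.last n) - 1))) := by
  let S := Synt.RelGCIRing R n c F
  by_cases hIS : I.map (algebraMap R S) = ⊤
  · -- degenerate case: take `h = 0`
    refine ⟨0, ?_, ?_, ⟨Groth.Agent.H46.RelGCIAway.equiv n c F 0⟩⟩
    · haveI : Subsingleton (S ⧸ I.map (algebraMap R S)) :=
        Ideal.Quotient.subsingleton_iff.2 hIS
      exact Subsingleton.elim _ _
    · intro p' hnt
      exfalso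
      have e := Groth.Agent.H46.RelGCIAway.equiv n c F 0
      have h0 : (1 : Synt.RelGCIRing R (n + 1) (c + 1) (Groth.Agent.H46.RelGCIAway.ext n c F 0))
          = 0 := by
        have : (1 : Localization.Away (Ideal.Quotient.mk (Ideal.span (Set.range F)) 0)) = 0 := by
          have hu := IsLocalization.Away.algebraMap_isUnit (S := Localization.Away
            (Ideal.Quotient.mk (Ideal.span (Set.range F)) 0))
            (Ideal.Quotient.mk (Ideal.span (Set.range F)) 0)
          rw [map_zero, map_zero] at hu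
          exact (isUnit_zero_iff.1 hu).symm
        rw [← map_one e, this, map_zero]
      have h10 : (1 : p'.asIdeal.Fiber (Synt.RelGCIRing R (n + 1) (c + 1)
          (Groth.Agent.H46.RelGCIAway.ext n c F 0))) = 0 := by
        rw [Algebra.TensorProduct.one_def, h0, TensorProduct.tmul_zero]
      have hsub : Subsingleton (p'.asIdeal.Fiber (Synt.RelGCIRing R (n + 1) (c + 1)
          (Groth.Agent.H46.RelGCIAway.ext n c F 0))) := subsingleton_of_zero_eq_one h10.symm
      exact not_nontrivial_iff_subsingleton.2 hsub hnt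
  · -- nondegenerate case
    obtain ⟨M, hM, hle⟩ := Ideal.exists_le_maximal _ hIS
    have hcn : c ≤ n := (fibreDimAt_le_of_le R n c F I hI ⟨M, hM.isPrime⟩ hle).1
    let W : Set (PrimeSpectrum S) := {q : ↥(Spec (CommRingCat.of S)) |
        FlatMor.fibreDimAt (Spec.map (CommRingCat.ofHom (algebraMap R S))) q ≤ ((n - c : ℕ) : WithBot ℕ∞)}
    have hW : IsOpen W := by
      have := (Groth.Agent.H49.FibreDimRing.main R S (n - c)).1
      rw [Groth.Agent.H49.FibreDimRing.setOf_eq] at this
      exact this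
    let J : Ideal S := PrimeSpectrum.vanishingIdeal Wᶜ
    have hJ : PrimeSpectrum.zeroLocus (J : Set S) = Wᶜ := by
      rw [PrimeSpectrum.zeroLocus_vanishingIdeal_eq_closure, hW.isClosed_compl.closure_eq]
    have htop : J ⊔ I.map (algebraMap R S) = ⊤ := by
      by_contra hne
      obtain ⟨N, hN, hle'⟩ := Ideal.exists_le_maximal _ hne
      have hmem : (⟨N, hN.isPrime⟩ : PrimeSpectrum S) ∈ Wᶜ := by
        rw [← hJ]
        intro j hj
        exact hle' (Ideal.mem_sup_left hj)
      exact hmem (fibreDimAt_le_of_le R n c F I hI ⟨N, hN.isPrime⟩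
        (le_trans le_sup_right hle')).2
    obtain ⟨j, hj, i, hi, hji⟩ := Submodule.mem_sup.1 (htop ▸ Submodule.mem_top : (1 : S) ∈ _)
    obtain ⟨h, rfl⟩ := Ideal.Quotient.mk_surjective j
    refine ⟨h, ?_, Groth.Agent.H46.RelGCIOpen.isRelGCI_ext R n c F hcn h ?_,
      ⟨Groth.Agent.H46.RelGCIAway.equiv n c F h⟩⟩
    · rw [← map_one (Ideal.Quotient.mk (I.map (algebraMap R S))), ← hji, map_add,
        Ideal.Quotient.eq_zero_iff_mem.2 hi, add_zero]
    · intro q hq
      by_contra hnot
      have : q ∈ Wᶜ := hnot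
      rw [← hJ] at this
      exact hq (this hj)

end Main

end Groth.Agent.H46.RelGCIOpenIdeal
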