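import Mathlib

/-!
# The residue field at a point of a cofiltered limit of schemes with affine transition maps
-/

set_option autoImplicit false
universe u
open CategoryTheory AlgebraicGeometry Limits

namespace Groth.Agent.H46.ResFieldLimit

/-- every element of the residue field at a point of an affine scheme is a quotient of values of
global sections -/
theorem exists_evaluation_frac {X : Scheme.{u}} [IsAffine X] (x : X) (a : X.residueField x) :
    ∃ u v : Γ(X, ⊤), (X.Γevaluation x).hom v ≠ 0 ∧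
      a * (X.Γevaluation x).hom v = (X.Γevaluation x).hom u := by
  have hX : IsAffineOpen (⊤ : X.Opens) := isAffineOpen_top X
  let _ := X.presheaf.algebra_section_stalk (U := ⊤) ⟨x, trivial⟩
  have hloc := hX.isLocalization_stalk ⟨x, trivial⟩
  obtain ⟨z, rfl⟩ := X.residue_surjective x a
  obtain ⟨⟨u, v⟩, huv⟩ :=
    IsLocalization.surj (hX.primeIdealOf ⟨x, trivial⟩).asIdeal.primeCompl z
  refine ⟨u, v.1, ?_, ?_⟩
  · have hunit : IsUnit (algebraMap Γ(X, ⊤) (X.presheaf.stalk x) v.1) :=
      IsLocalization.map_units _ v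
    have h2 := hunit.map (X.residue x).hom
    exact h2.ne_zero
  · have := congrArg (X.residue x).hom huv
    rw [map_mul] at this
    exact this

theorem affine_case {I : Type u} [SmallCategory I] [IsCofiltered I] (D : I ⥤ Scheme.{u})
    (c : Cone D) (hc : IsLimit c) [∀ i, IsAffine (D.obj i)] (s : c.pt)
    (a : c.pt.residueField s) :
    ∃ (i : I) (b : (D.obj i).residueField ((c.π.app i).base s)),
      ((c.π.app i).residueFieldMap s).hom b = a := by
  have : IsAffine c.pt := Scheme.isAffine_of_isLimit c hc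
  obtain ⟨u, v, hv, huv⟩ := exists_evaluation_frac s a
  obtain ⟨i₁, u₁, hu₁⟩ := exists_appTop_π_eq_of_isAffine_of_isLimit D c hc u
  obtain ⟨i₂, v₂, hv₂⟩ := exists_appTop_π_eq_of_isAffine_of_isLimit D c hc v
  let i := IsCofiltered.min i₁ i₂
  let f₁ : i ⟶ i₁ := IsCofiltered.minToLeft _ _
  let f₂ : i ⟶ i₂ := IsCofiltered.minToRight _ _
  let u' := (D.map f₁).appTop u₁
  let v' := (D.map f₂).appTop v₂
  have hu' : (c.π.app i).appTop u' = u := by
    rw [← hu₁, ← c.w f₁, Scheme.Hom.comp_appTop]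
    rfl
  have hv' : (c.π.app i).appTop v' = v := by
    rw [← hv₂, ← c.w f₂, Scheme.Hom.comp_appTop]
    rfl
  have e1 : ((c.π.app i).residueFieldMap s).hom
      (((D.obj i).Γevaluation ((c.π.app i).base s)).hom u') = (c.pt.Γevaluation s).hom u := by
    rw [← hu']
    exact Scheme.Γevaluation_naturality_apply (c.π.app i) s u'
  have e2 : ((c.π.app i).residueFieldMap s).hom
      (((D.obj i).Γevaluation ((c.π.app i).base s)).hom v') = (c.pt.Γevaluation s).hom v := by
    rw [← hv']
    exact Scheme.Γevaluation_naturality_apply (c.π.app i) s v'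
  have hv0 : ((D.obj i).Γevaluation ((c.π.app i).base s)).hom v' ≠ 0 := by
    intro h0
    apply hv
    rw [← e2, h0, map_zero]
  refine ⟨i, ((D.obj i).Γevaluation ((c.π.app i).base s)).hom u' /
    ((D.obj i).Γevaluation ((c.π.app i).base s)).hom v', ?_⟩
  rw [map_div₀, e1, e2, div_eq_iff hv, huv]

/-- transfer of residue field elements from a restricted morphism to the original one -/
theorem transfer {X Y : Scheme.{u}} (f : X ⟶ Y) (U : X.Opens) (V : Y.Opens) (e : U ≤ f ⁻¹ᵁ V)
    (x : U.toScheme) (b' : V.toScheme.residueField ((f.resLE V U e).base x)) :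
    ∃ b : Y.residueField (f.base (U.ι.base x)),
      (U.ι.residueFieldMap x).hom ((f.residueFieldMap (U.ι.base x)).hom b) =
        ((f.resLE V U e).residueFieldMap x).hom b' := by
  have hcomm : f.resLE V U e ≫ V.ι = U.ι ≫ f := Scheme.Hom.resLE_comp_ι f e
  let b'' : Y.residueField (V.ι.base ((f.resLE V U e).base x)) :=
    (inv (V.ι.residueFieldMap ((f.resLE V U e).base x))).hom b'
  have hb'' : (V.ι.residueFieldMap ((f.resLE V U e).base x)).hom b'' = b' := by
    change ((inv (V.ι.residueFieldMap ((f.resLE V U e).base x))) ≫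
      (V.ι.residueFieldMap ((f.resLE V U e).base x))).hom b' = b'
    rw [IsIso.inv_hom_id]
    rfl
  have key := Scheme.Hom.residueFieldMap_congr hcomm x
  rw [Scheme.residueFieldMap_comp, Scheme.residueFieldMap_comp] at key
  refine ⟨(Y.residueFieldCongr (by rw [← Scheme.Hom.comp_apply, ← Scheme.Hom.comp_apply, hcomm])).hom.hom b'', ?_⟩
  rw [← hb'']
  have := congrArg (fun g => g.hom b'') key
  exact this.symm

theorem main {I : Type u} [SmallCategory I] [IsCofiltered I]
    (D : I ⥤ Scheme.{u}) (c : Limits.Cone D) (hc : Limits.IsLimit c)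
    [∀ (i j : I) (f : i ⟶ j), IsAffineHom (D.map f)] (s : c.pt) (a : c.pt.residueField s) :
    ∃ (i : I) (b : (D.obj i).residueField ((c.π.app i).base s)),
      ((c.π.app i).residueFieldMap s).hom b = a := by
  have i₀ := IsCofiltered.nonempty (C := I).some
  obtain ⟨_, ⟨U₀, hU₀ : IsAffineOpen U₀, rfl⟩, hxU, -⟩ :=
      (D.obj i₀).isBasis_affineOpens.exists_subset_of_mem_open
        (Set.mem_univ ((c.π.app i₀).base s)) isOpen_univ
  have hAff : ∀ {i j} (f : i ⟶ j), IsAffineHom (D.map f) := fun f => inferInstance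
  have (j : Over i₀) : IsAffine ((opensDiagram D i₀ U₀).obj j) := hU₀.preimage (D.map _)
  obtain ⟨s', rfl⟩ : ∃ s' : (c.π.app i₀ ⁻¹ᵁ U₀).toScheme, (c.π.app i₀ ⁻¹ᵁ U₀).ι.base s' = s :=
    ⟨⟨s, hxU⟩, rfl⟩
  obtain ⟨j, b', hb'⟩ := affine_case (opensDiagram D i₀ U₀) (opensCone D c i₀ U₀)
    (isLimitOpensCone D c hc i₀ U₀) s' (((c.π.app i₀ ⁻¹ᵁ U₀).ι.residueFieldMap s').hom a)
  obtain ⟨b, hb⟩ := transfer (c.π.app j.left) (c.π.app i₀ ⁻¹ᵁ U₀) (D.map j.hom ⁻¹ᵁ U₀)
    (by rw [← Scheme.Hom.comp_preimage, c.w]) s' b'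
  refine ⟨j.left, b, ?_⟩
  apply ((c.π.app i₀ ⁻¹ᵁ U₀).ι.residueFieldMap s').hom.injective
  rw [hb]
  exact hb'

end Groth.Agent.H46.ResFieldLimit
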