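import Mathlib
import Groth.Prelude.Def_ClSub2
import Groth.Prelude.Def_Coh
import Groth.Prelude.Def_CohB1
import Groth.Agent.S2074
import Groth.Agent.S4357
import Groth.Agent.H71.QCoh.SupportProper
import Groth.Agent.H4.ProperOver2

/-!
# Properness of the support of a finite type module descends to a stage of a cofiltered limit
-/

set_option autoImplicit false
universe u
open CategoryTheory CategoryTheory.Limits AlgebraicGeometry Scheme.IdealSheafData

namespace Groth.Agent.H46.SupportProperLimit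

theorem range_snd_of_isPullback {P X Y Z : Scheme.{u}} {fst : P ⟶ X} {snd : P ⟶ Y}
    {f : X ⟶ Z} {g : Y ⟶ Z} (h : IsPullback fst snd f g) :
    Set.range snd.base = g.base ⁻¹' Set.range f.base := by
  have := Scheme.image_preimage_eq_of_isPullback h Set.univ
  rwa [Set.preimage_univ, Set.image_univ, Set.image_univ] at this

theorem main {I : Type u} [SmallCategory I] [IsCofiltered I]
    (D : I ⥤ Scheme.{u}) (c : Limits.Cone D) (hc : Limits.IsLimit c)
    [∀ (i j : I) (f : i ⟶ j), IsAffineHom (D.map f)] (i₀ : I) [CompactSpace (D.obj i₀)]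
    [QuasiSeparatedSpace (D.obj i₀)] {X₀ Y₀ : Scheme.{u}} (f₀ : X₀ ⟶ Y₀) (g₀ : Y₀ ⟶ D.obj i₀)
    [CompactSpace X₀] [QuasiSeparatedSpace X₀] [CompactSpace Y₀] [QuasiSeparatedSpace Y₀]
    [LocallyOfFiniteType f₀] (F₀ : X₀.Modules) [Coh.IsQCoh F₀] (hF₀ : CohB1.IsFT F₀)
    {X Y : Scheme.{u}} (f : X ⟶ Y) (g : Y ⟶ c.pt) (qY : Y ⟶ Y₀) (qX : X ⟶ X₀)
    (hY : IsPullback qY g g₀ (c.π.app i₀)) (hX : IsPullback qX f f₀ qY)
    (hF : ClSub.IsProperOver f (CohB1.support ((Scheme.Modules.pullback qX).obj F₀))) :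
    ∃ (i : I) (φ : i ⟶ i₀) (Xi Yi : Scheme.{u}) (fi : Xi ⟶ Yi) (gi : Yi ⟶ D.obj i) (pY : Yi ⟶ Y₀)
      (pX : Xi ⟶ X₀), IsPullback pY gi g₀ (D.map φ) ∧ IsPullback pX fi f₀ pY ∧
        ClSub.IsProperOver fi (CohB1.support ((Scheme.Modules.pullback pX).obj F₀)) := by
  have : SheafOfModules.IsFiniteType (R := X₀.ringCatSheaf) F₀ := hF₀
  have hcl : IsClosed (CohB1.support F₀) := Groth.Agent.H71.QCoh.isClosed_support F₀
  let ι₀ := (vanishingIdeal ⟨CohB1.support F₀, hcl⟩).subschemeι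
  have hι₀ : Set.range ι₀.base = CohB1.support F₀ :=
    Groth.Agent.H4.range_vanishingIdeal_subschemeι _ hcl
  have hcT : CompactSpace ↥(vanishingIdeal ⟨CohB1.support F₀, hcl⟩).subscheme :=
    QuasiCompact.compactSpace_of_compactSpace ι₀
  have hqT : QuasiSeparatedSpace ↥(vanishingIdeal ⟨CohB1.support F₀, hcl⟩).subscheme :=
    quasiSeparatedSpace_of_quasiSeparated ι₀
  -- the limit
  have hfLFT : LocallyOfFiniteType f := MorphismProperty.of_isPullback hX inferInstance
  have hsqT : IsPullback (pullback.snd qX ι₀) (pullback.fst qX ι₀) ι₀ qX :=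
    (IsPullback.of_hasPullback qX ι₀).flip
  have hrT : Set.range (pullback.fst qX ι₀).base =
      CohB1.support ((Scheme.Modules.pullback qX).obj F₀) := by
    rw [Groth.Agent.S4357.result qX F₀ hF₀, range_snd_of_isPullback hsqT, hι₀]
  have hpT : IsProper (pullback.fst qX ι₀ ≫ f) :=
    (Groth.Agent.H4.isProperOver_iff_of_closedImmersion f (pullback.fst qX ι₀) _ hrT).mp hF
  obtain ⟨i, φ, Ti, Yi, fi', gi, pY, pT, h1, h2, h3⟩ := Groth.Agent.S2074.result D c hc i₀
    (ι₀ ≫ f₀) g₀ (pullback.fst qX ι₀ ≫ f) g qY (pullback.snd qX ι₀) hY (hsqT.paste_vert hX)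
  -- the stage
  have hsq : IsPullback (pullback.fst f₀ pY) (pullback.snd f₀ pY) f₀ pY :=
    IsPullback.of_hasPullback f₀ pY
  let j : Ti ⟶ pullback f₀ pY := pullback.lift (pT ≫ ι₀) fi' (by rw [Category.assoc]; exact h2.w)
  have hj1 : j ≫ pullback.fst f₀ pY = pT ≫ ι₀ := pullback.lift_fst _ _ _
  have hj2 : j ≫ pullback.snd f₀ pY = fi' := pullback.lift_snd _ _ _
  have hsqj : IsPullback pT j ι₀ (pullback.fst f₀ pY) := by
    refine IsPullback.of_bot ?_ hj1.symm hsq
    rw [hj2]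
    exact h2
  have hjcl : IsClosedImmersion j := MorphismProperty.of_isPullback hsqj inferInstance
  have hrj : Set.range j.base =
      CohB1.support ((Scheme.Modules.pullback (pullback.fst f₀ pY)).obj F₀) := by
    rw [Groth.Agent.S4357.result (pullback.fst f₀ pY) F₀ hF₀, range_snd_of_isPullback hsqj, hι₀]
  have hfiLFT : LocallyOfFiniteType (pullback.snd f₀ pY) :=
    MorphismProperty.of_isPullback hsq inferInstance
  refine ⟨i, φ, pullback f₀ pY, Yi, pullback.snd f₀ pY, gi, pY, pullback.fst f₀ pY, h1, hsq, ?_⟩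
  have hp : IsProper (j ≫ pullback.snd f₀ pY) := by rw [hj2]; exact h3
  exact (Groth.Agent.H4.isProperOver_iff_of_closedImmersion (pullback.snd f₀ pY) j _ hrj).mpr hp

end Groth.Agent.H46.SupportProperLimit
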