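import Mathlib
import Groth.Prelude.Def_RegImm
import Groth.Agent.H46.IsoDesc
import Groth.Agent.H46.RelGCIOpenIdeal
import Groth.Agent.H46.RelGCIAway
import Groth.Agent.H47.Synt.Transport

/-!
# Auxiliary results for the descent of syntomic maps through directed colimits

* `keyA`: if a presentation over `R` becomes a relative global complete intersection after a
  base change `R → A`, then `R[x]/(F)` is syntomic over `R` near every point in the image of the
  spectrum of the base change.
* naturality of the presentation of `S_g` with respect to coefficient maps.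
-/

set_option autoImplicit false
set_option linter.unusedSectionVars false
universe u

open MvPolynomial TensorProduct AlgebraicGeometry CategoryTheory

namespace Groth.Agent.H46.SyntColimAux

open Groth.Agent.H46.IsoDesc

section BC

attribute [local instance] Algebra.TensorProduct.rightAlgebra

variable (R : Type u) [CommRing R] (n c : ℕ) (F : Fin c → MvPolynomial (Fin n) R)
  (A : Type u) [CommRing A] [Algebra R A]

theorem aeval_tmul_map (p : MvPolynomial (Fin n) R) :
    aeval (fun i => (1 : A) ⊗ₜ[R] (Ideal.Quotient.mk (Ideal.span (Set.range F)) (X i)))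
      (map (algebraMap R A) p) = (1 : A) ⊗ₜ[R] Ideal.Quotient.mk (Ideal.span (Set.range F)) p := by
  induction p using MvPolynomial.induction_on with
  | C r =>
    simp only [map_C, aeval_C]
    rw [Algebra.TensorProduct.algebraMap_apply, Algebra.algebraMap_self_apply,
      Algebra.algebraMap_eq_smul_one, TensorProduct.smul_tmul, ← Algebra.algebraMap_eq_smul_one]
    rfl
  | add p q hp hq => simp only [map_add, hp, hq, tmul_add]
  | mul_X p i hp =>
    simp only [map_mul, map_X, aeval_X, hp, Algebra.TensorProduct.tmul_mul_tmul, mul_one]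

theorem bcEquiv_mk_map (p : MvPolynomial (Fin n) R) :
    Groth.Agent.H46.RelGCIOpenIdeal.bcEquiv R n c F A
      (Ideal.Quotient.mk _ (map (algebraMap R A) p)) = (1 : A) ⊗ₜ[R] (Ideal.Quotient.mk _ p) :=
  aeval_tmul_map R n c F A p

/-- **Key step.** If the base change of the presentation `R[x]/(F)` along `R → A` is a relative
global complete intersection, then near every point of `Spec R[x]/(F)` in the image of the
spectrum of the base change, `R[x]/(F)` is syntomic over `R`. -/
theorem keyA (hA : Synt.IsRelGCI A n c (fun k => map (algebraMap R A) (F k)))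
    (t : PrimeSpectrum (Synt.RelGCIRing A n c (fun k => map (algebraMap R A) (F k)))) :
    ∃ h : MvPolynomial (Fin n) R,
      Ideal.Quotient.mk (Ideal.span (Set.range fun k => map (algebraMap R A) (F k)))
        (map (algebraMap R A) h) ∉ t.asIdeal ∧
      Synt.IsSyntomic R (Localization.Away (Ideal.Quotient.mk (Ideal.span (Set.range F)) h)) := by
  let S := Synt.RelGCIRing R n c F
  let E := Groth.Agent.H46.RelGCIOpenIdeal.bcEquiv R n c F A
  let t' : PrimeSpectrum (A ⊗[R] S) :=
    ⟨t.asIdeal.comap (E.symm : (A ⊗[R] S) →+* _), Ideal.comap_isPrime _ _⟩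
  let q : PrimeSpectrum S := PrimeSpectrum.comap (algebraMap S (A ⊗[R] S)) t'
  have hq_mem : ∀ p : MvPolynomial (Fin n) R, Ideal.Quotient.mk _ p ∈ q.asIdeal ↔
      Ideal.Quotient.mk (Ideal.span (Set.range fun k => map (algebraMap R A) (F k)))
        (map (algebraMap R A) p) ∈ t.asIdeal := by
    intro p
    change E.symm ((1 : A) ⊗ₜ[R] (Ideal.Quotient.mk _ p)) ∈ t.asIdeal ↔ _
    rw [← bcEquiv_mk_map R n c F A p, AlgEquiv.symm_apply_apply]
  have h2 := Groth.Agent.H46.RelGCIOpenIdeal.fibreDimAt_tensor R A S t'
  have key := Groth.Agent.H46.RelGCIOpenIdeal.fibreDimAt_le_of_equiv A (A ⊗[R] S)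
    (T' := Synt.RelGCIRing A n c (fun k => map (algebraMap R A) (F k))) E.symm t' (n - c) (c ≤ n) hA
  obtain ⟨hcn, hdim⟩ := key
  rw [h2] at hdim
  let W : Set (PrimeSpectrum S) := {q : ↥(Spec (CommRingCat.of S)) |
      FlatMor.fibreDimAt (Spec.map (CommRingCat.ofHom (algebraMap R S))) q ≤
        ((n - c : ℕ) : WithBot ℕ∞)}
  have hW : IsOpen W := by
    have := (Groth.Agent.H49.FibreDimRing.main R S (n - c)).1
    rw [Groth.Agent.H49.FibreDimRing.setOf_eq] at this
    exact this
  have hqW : q ∈ W := hdim
  obtain ⟨_, ⟨_, ⟨hbar, rfl⟩, rfl⟩, hqh, hsub⟩ :=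
    PrimeSpectrum.isBasis_basic_opens.exists_subset_of_mem_open hqW hW
  obtain ⟨h, rfl⟩ := Ideal.Quotient.mk_surjective hbar
  refine ⟨h, ?_, ?_⟩
  · rw [← hq_mem]
    exact hqh
  · have hGCI := Groth.Agent.H46.RelGCIOpen.isRelGCI_ext R n c F hcn h (fun q' hq' => hsub hq')
    have hsyn := Groth.Agent.H46.RelGCIFlat.isSyntomic R (n + 1) (c + 1) _ hGCI
    exact Groth.Agent.H47.Synt.isSyntomic_of_algEquiv
      (Groth.Agent.H46.RelGCIAway.equiv n c F h).symm hsyn

end BC

section RingHomForm

variable {R A : Type u} [CommRing R] [CommRing A] (φ : R →+* A) (n c : ℕ)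
  (F : Fin c → MvPolynomial (Fin n) R) (FA : Fin c → MvPolynomial (Fin n) A)
  (hF : ∀ k, map φ (F k) = FA k)

/-- `keyA` for a ring homomorphism and a propositionally base-changed presentation. -/
theorem keyA' (hA : Synt.IsRelGCI A n c FA) (t : PrimeSpectrum (Synt.RelGCIRing A n c FA)) :
    ∃ h : MvPolynomial (Fin n) R,
      qmap φ F FA hF (Ideal.Quotient.mk _ h) ∉ t.asIdeal ∧
      Synt.IsSyntomic R (Localization.Away (Ideal.Quotient.mk (Ideal.span (Set.range F)) h)) := by
  obtain rfl : FA = fun k => map φ (F k) := funext fun k => (hF k).symm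
  let _ : Algebra R A := φ.toAlgebra
  obtain ⟨h, h1, h2⟩ := keyA R n c F A hA t
  exact ⟨h, by rw [qmap_mk]; exact h1, h2⟩

end RingHomForm

section ExtMap

variable {R R' : Type u} [CommRing R] [CommRing R'] (φ : R →+* R') (n c : ℕ)
  (F : Fin c → MvPolynomial (Fin n) R) (h : MvPolynomial (Fin n) R)

open Groth.Agent.H46.RelGCIAway in
theorem ext_map (k : Fin (c + 1)) :
    map φ (ext n c F h k) = ext n c (fun k => map φ (F k)) (map φ h) k := by
  induction k using Fin.lastCases with
  | last =>
    rw [ext_last, ext_last]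
    simp only [map_sub, map_mul, map_one, map_X, map_rename]
  | cast i =>
    rw [ext_castSucc, ext_castSucc, map_rename]

end ExtMap

section AwayMap

variable {X Y : Type u} [CommRing X] [CommRing Y] (ν : X →+* Y) (x : X) (y : Y) (hxy : ν x = y)

/-- The map of localizations away from an element induced by a ring homomorphism. -/
noncomputable def awayMap' : Localization.Away x →+* Localization.Away y :=
  IsLocalization.Away.lift x (g := (algebraMap Y (Localization.Away y)).comp ν) (by
    rw [RingHom.comp_apply, hxy]
    exact IsLocalization.Away.algebraMap_isUnit y)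

theorem awayMap'_algebraMap (a : X) :
    awayMap' ν x y hxy (algebraMap X (Localization.Away x) a) =
      algebraMap Y (Localization.Away y) (ν a) :=
  IsLocalization.Away.lift_eq _ _ _

/-- Primes of the localizations correspond. -/
theorem map_comap_eq_comap_map (q : Ideal Y) [hq : q.IsPrime] (hy : y ∉ q) :
    (q.comap ν).map (algebraMap X (Localization.Away x)) =
      (q.map (algebraMap Y (Localization.Away y))).comap (awayMap' ν x y hxy) := by
  have h1 := IsLocalization.map_under (Submonoid.powers x) (Localization.Away x)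
    ((q.map (algebraMap Y (Localization.Away y))).comap (awayMap' ν x y hxy))
  rw [← h1]
  congr 1
  rw [Ideal.under_def, Ideal.comap_comap]
  have h2 : (awayMap' ν x y hxy).comp (algebraMap X (Localization.Away x)) =
      (algebraMap Y (Localization.Away y)).comp ν :=
    RingHom.ext fun a => awayMap'_algebraMap ν x y hxy a
  rw [h2, ← Ideal.comap_comap]
  congr 1
  refine (IsLocalization.under_map_of_isPrime_disjoint (Submonoid.powers y)
    (Localization.Away y) hq ?_).symm
  rw [Set.disjoint_left]
  rintro _ ⟨k, rfl⟩ hk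
  exact hy (hq.mem_of_pow_mem k hk)

end AwayMap

section AwayEquiv

variable {R X Y : Type u} [CommRing R] [CommRing X] [CommRing Y] [Algebra R X] [Algebra R Y]

/-- An algebra isomorphism induces an isomorphism of localizations away from an element. -/
noncomputable def awayEquiv (E : X ≃ₐ[R] Y) (x : X) (y : Y) (hxy : E x = y) :
    Localization.Away x ≃ₐ[R] Localization.Away y :=
  IsLocalization.algEquivOfAlgEquiv (M := Submonoid.powers x) (T := Submonoid.powers y)
    (Localization.Away x) (Localization.Away y) E (by
      rw [Submonoid.map_powers]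
      congr 1)

end AwayEquiv

section Naturality

variable {R R' : Type u} [CommRing R] [CommRing R'] (φ : R →+* R') (n c : ℕ)
  (F : Fin c → MvPolynomial (Fin n) R) (h : MvPolynomial (Fin n) R)
  (F' : Fin c → MvPolynomial (Fin n) R') (h' : MvPolynomial (Fin n) R')

open Groth.Agent.H46.RelGCIAway

theorem ext_map' (hF : ∀ k, map φ (F k) = F' k) (hh : map φ h = h') (k : Fin (c + 1)) :
    map φ (ext n c F h k) = ext n c F' h' k := by
  rw [ext_map]
  congr 1
  · exact funext hF

theorem qmap_mk_h (hF : ∀ k, map φ (F k) = F' k) (hh : map φ h = h') :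
    qmap φ F F' hF (Ideal.Quotient.mk _ h) = Ideal.Quotient.mk _ h' := by
  rw [qmap_mk, hh]

/-- Naturality of `S_g ≃ R[x, t]/(F, h t - 1)` with respect to coefficient maps. -/
theorem equiv_natural (hF : ∀ k, map φ (F k) = F' k) (hh : map φ h = h')
    (z : Localization.Away (Ideal.Quotient.mk (Ideal.span (Set.range F)) h)) :
    RelGCIAway.equiv n c F' h' (awayMap' (qmap φ F F' hF) _ _ (qmap_mk_h φ n c F h F' h' hF hh) z) =
      qmap φ (ext n c F h) (ext n c F' h') (ext_map' φ n c F h F' h' hF hh)
        (RelGCIAway.equiv n c F h z) := by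
  have key : ((RelGCIAway.equiv n c F' h' :
        Localization.Away (Ideal.Quotient.mk (Ideal.span (Set.range F')) h') →+* _).comp
        (awayMap' (qmap φ F F' hF) _ _ (qmap_mk_h φ n c F h F' h' hF hh))) =
      (qmap φ (ext n c F h) (ext n c F' h') (ext_map' φ n c F h F' h' hF hh)).comp
        (RelGCIAway.equiv n c F h :
          Localization.Away (Ideal.Quotient.mk (Ideal.span (Set.range F)) h) →+* _) := by
    refine IsLocalization.ringHom_ext
      (Submonoid.powers (Ideal.Quotient.mk (Ideal.span (Set.range F)) h)) ?_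
    refine RingHom.ext fun s => ?_
    obtain ⟨a, rfl⟩ := Ideal.Quotient.mk_surjective s
    simp only [RingHom.comp_apply]
    rw [awayMap'_algebraMap, qmap_mk]
    change fwd n c F' h' _ = qmap φ _ _ _ (fwd n c F h _)
    rw [fwd_algebraMap, fwd_algebraMap, toExt_mk, toExt_mk, qmap_mk, map_rename]
  exact RingHom.congr_fun key z

end Naturality

end Groth.Agent.H46.SyntColimAux
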