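import Mathlib
import Groth.Prelude.Def_RegImm
import Groth.Agent.H46.SyntColimAux
import Groth.Agent.H46.SyntLocal

/-!
# Pointwise descent of syntomic charts through weak directed colimits
-/

set_option autoImplicit false
set_option linter.unusedSectionVars false
universe u

open MvPolynomial Groth.Agent.H46.ColimPoly Groth.Agent.H46.IsoDesc
  Groth.Agent.H46.SyntColimAux Groth.Agent.H46.RelGCIAway

namespace Groth.Agent.H46.SyntColimPoint

variable {A₀ : Type u} [CommRing A₀] (m r : ℕ) (R₀ : Fin r → MvPolynomial (Fin m) A₀)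

/-- The relations over an `A₀`-algebra `Λ`. -/
noncomputable def Rel (Λ : Type u) [CommRing Λ] [Algebra A₀ Λ] : Fin r → MvPolynomial (Fin m) Λ :=
  fun l => map (algebraMap A₀ Λ) (R₀ l)

/-- The base change of `A₀[x]/(R₀)` to `Λ`, in presentation form. -/
abbrev T (Λ : Type u) [CommRing Λ] [Algebra A₀ Λ] : Type u :=
  Synt.RelGCIRing Λ m r (Rel m r R₀ Λ)

theorem map_Rel {Λ Λ' : Type u} [CommRing Λ] [Algebra A₀ Λ] [CommRing Λ'] [Algebra A₀ Λ']
    (θ : Λ →ₐ[A₀] Λ') (l : Fin r) : map θ.toRingHom (Rel m r R₀ Λ l) = Rel m r R₀ Λ' l := by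
  unfold Rel
  rw [MvPolynomial.map_map]
  have : θ.toRingHom.comp (algebraMap A₀ Λ) = algebraMap A₀ Λ' := RingHom.ext θ.commutes
  rw [this]

/-- The transition map between base changes. -/
noncomputable def tr {Λ Λ' : Type u} [CommRing Λ] [Algebra A₀ Λ] [CommRing Λ'] [Algebra A₀ Λ']
    (θ : Λ →ₐ[A₀] Λ') : T m r R₀ Λ →+* T m r R₀ Λ' :=
  qmap θ.toRingHom _ _ (map_Rel m r R₀ θ)

theorem tr_mk {Λ Λ' : Type u} [CommRing Λ] [Algebra A₀ Λ] [CommRing Λ'] [Algebra A₀ Λ']
    (θ : Λ →ₐ[A₀] Λ') (p : MvPolynomial (Fin m) Λ) :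
    tr m r R₀ θ (Ideal.Quotient.mk _ p) = Ideal.Quotient.mk _ (map θ.toRingHom p) :=
  qmap_mk _ _ _ _ p

variable {ι : Type u} {G : ι → Type u} [∀ i, CommRing (G i)] [∀ i, Algebra A₀ (G i)]
  {A : Type u} [CommRing A] [Algebra A₀ A] (S : RSys A₀ G A) [Nonempty ι]

/-- **Pointwise descent.**  Around every point of `Spec (A[x]/(R₀))`, syntomic over `A`, there is a
syntomic chart already defined over some stage. -/
theorem exists_chart (hsyn : Synt.IsSyntomic A (T m r R₀ A)) (q : Ideal (T m r R₀ A))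
    [hq : q.IsPrime] :
    ∃ (j : ι) (u : T m r R₀ (G j)), tr m r R₀ (S.g j) u ∉ q ∧
      Synt.IsSyntomic (G j) (Localization.Away u) := by
  classical
  obtain ⟨g', hg', n', c', F', hGCI, ⟨e⟩⟩ :=
    Groth.Agent.H46.SyntLocal.main A (T m r R₀ A) hsyn q
  obtain ⟨gt, rfl⟩ := Ideal.Quotient.mk_surjective g'
  -- descend `gt` and `F'`
  obtain ⟨i₁, gt₁, hgt₁⟩ := exists_map_eq S gt
  obtain ⟨i₂, F₂', hF₂'⟩ := exists_map_eq_family S F'
  obtain ⟨i₀, α₁, α₂, h1, h2⟩ := S.hdir i₁ i₂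
  obtain ⟨gt₀, hgt₀⟩ : ∃ gt₀ : MvPolynomial (Fin m) (G i₀), map (S.g i₀).toRingHom gt₀ = gt :=
    ⟨map α₁.toRingHom gt₁, by rw [map_reach S h1, hgt₁]⟩
  obtain ⟨F₀', hF₀'⟩ : ∃ F₀' : Fin c' → MvPolynomial (Fin n') (G i₀),
      F' = fun k => map (S.g i₀).toRingHom (F₀' k) :=
    ⟨fun k => map α₂.toRingHom (F₂' k), funext fun k => by
      rw [map_reach S h2, hF₂']⟩
  subst hgt₀
  subst hF₀'
  -- the presentation of the localization at stage `i₀`
  let F₁ : Fin (r + 1) → MvPolynomial (Fin (m + 1)) (G i₀) := ext m r (Rel m r R₀ (G i₀)) gt₀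
  have hF₁ : ∀ k, map (S.g i₀).toRingHom (F₁ k) =
      ext m r (Rel m r R₀ A) (map (S.g i₀).toRingHom gt₀) k :=
    fun k => ext_map' (S.g i₀).toRingHom m r (Rel m r R₀ (G i₀)) gt₀ (Rel m r R₀ A) _
      (map_Rel m r R₀ (S.g i₀)) rfl k
  have hI₁ : Ideal.span (Set.range fun k => map (S.g i₀).toRingHom (F₁ k)) =
      Ideal.span (Set.range (ext m r (Rel m r R₀ A) (map (S.g i₀).toRingHom gt₀))) := by
    rw [show (fun k => map (S.g i₀).toRingHom (F₁ k)) =
      ext m r (Rel m r R₀ A) (map (S.g i₀).toRingHom gt₀) from funext hF₁]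
  let β : Synt.RelGCIRing A (m + 1) (r + 1) (fun k => map (S.g i₀).toRingHom (F₁ k)) ≃ₐ[A]
      Localization.Away (Ideal.Quotient.mk (Ideal.span (Set.range (Rel m r R₀ A)))
        (map (S.g i₀).toRingHom gt₀)) :=
    (Ideal.quotientEquivAlgOfEq A hI₁).trans
      (RelGCIAway.equiv m r (Rel m r R₀ A) (map (S.g i₀).toRingHom gt₀)).symm
  obtain ⟨j, θ, hθ, E, hE⟩ := Groth.Agent.H46.IsoDesc.main S i₀ (m + 1) (r + 1) F₁ n' c' F₀'
    (β.trans e)
  -- the point
  let gA : MvPolynomial (Fin m) A := map (S.g i₀).toRingHom gt₀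
  let xA : T m r R₀ A := Ideal.Quotient.mk (Ideal.span (Set.range (Rel m r R₀ A))) gA
  have hdisj : Disjoint (Submonoid.powers xA : Set (T m r R₀ A)) (q : Set (T m r R₀ A)) := by
    rw [Set.disjoint_left]
    rintro _ ⟨k, rfl⟩ hk
    exact hg' (hq.mem_of_pow_mem k hk)
  let qloc : Ideal (Localization.Away xA) := q.map (algebraMap (T m r R₀ A) (Localization.Away xA))
  have hqloc : qloc.IsPrime :=
    IsLocalization.isPrime_of_isPrime_disjoint (Submonoid.powers xA) _ q hq hdisj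
  let t : PrimeSpectrum (Synt.RelGCIRing A n' c' (fun k => map (S.g i₀).toRingHom (F₀' k))) :=
    ⟨qloc.comap (e.symm : _ →+* Localization.Away xA), Ideal.comap_isPrime _ _⟩
  obtain ⟨h, hht, hsynh⟩ := keyA' (S.g j).toRingHom n' c' (fun k => map θ.toRingHom (F₀' k))
    (fun k => map (S.g i₀).toRingHom (F₀' k)) (fun k => map_reach S hθ (F₀' k)) hGCI t
  -- transport the chart to the localization of `T (G j)`
  let v := E.symm (Ideal.Quotient.mk _ h)
  have hEv : E v = Ideal.Quotient.mk _ h := E.apply_symm_apply _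
  have hsynv : Synt.IsSyntomic (G j) (Localization.Away v) :=
    Groth.Agent.H47.Synt.isSyntomic_of_algEquiv (awayEquiv E v _ hEv).symm hsynh
  let gj : MvPolynomial (Fin m) (G j) := map θ.toRingHom gt₀
  have hF₁j : ∀ k, map θ.toRingHom (F₁ k) = ext m r (Rel m r R₀ (G j)) gj k :=
    fun k => ext_map' θ.toRingHom m r (Rel m r R₀ (G i₀)) gt₀ (Rel m r R₀ (G j)) gj
      (map_Rel m r R₀ θ) rfl k
  have hI₁j : Ideal.span (Set.range fun k => map θ.toRingHom (F₁ k)) =
      Ideal.span (Set.range (ext m r (Rel m r R₀ (G j)) gj)) := by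
    rw [show (fun k => map θ.toRingHom (F₁ k)) = ext m r (Rel m r R₀ (G j)) gj from funext hF₁j]
  let xj : T m r R₀ (G j) := Ideal.Quotient.mk (Ideal.span (Set.range (Rel m r R₀ (G j)))) gj
  let βj : Synt.RelGCIRing (G j) (m + 1) (r + 1) (fun k => map θ.toRingHom (F₁ k)) ≃ₐ[G j]
      Localization.Away xj :=
    (Ideal.quotientEquivAlgOfEq (G j) hI₁j).trans
      (RelGCIAway.equiv m r (Rel m r R₀ (G j)) gj).symm
  let w := βj v
  have hsynw : Synt.IsSyntomic (G j) (Localization.Away w) :=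
    Groth.Agent.H47.Synt.isSyntomic_of_algEquiv (awayEquiv βj v w rfl) hsynv
  let qj : Ideal (T m r R₀ (G j)) := q.comap (tr m r R₀ (S.g j))
  have : qj.IsPrime := Ideal.comap_isPrime _ _
  have hxy : tr m r R₀ (S.g j) xj = xA := by
    change tr m r R₀ (S.g j) (Ideal.Quotient.mk _ gj) = Ideal.Quotient.mk _ gA
    rw [tr_mk, map_reach S hθ]
  have hgj : xj ∉ qj := by
    change tr m r R₀ (S.g j) xj ∉ q
    rw [hxy]
    exact hg'
  have hw : w ∉ qj.map (algebraMap (T m r R₀ (G j)) (Localization.Away xj)) := by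
    rw [map_comap_eq_comap_map (tr m r R₀ (S.g j)) xj xA hxy q hg']
    intro hmem
    have hmem' : awayMap' (tr m r R₀ (S.g j)) xj xA hxy w ∈ qloc := hmem
    -- naturality
    have hnat := equiv_natural (S.g j).toRingHom m r (Rel m r R₀ (G j)) gj (Rel m r R₀ A) gA
      (map_Rel m r R₀ (S.g j)) (map_reach S hθ gt₀) w
    have hw' : RelGCIAway.equiv m r (Rel m r R₀ (G j)) gj w =
        Ideal.quotientEquivAlgOfEq (G j) hI₁j v := by
      change RelGCIAway.equiv m r (Rel m r R₀ (G j)) gj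
        ((RelGCIAway.equiv m r (Rel m r R₀ (G j)) gj).symm _) = _
      rw [AlgEquiv.apply_symm_apply]
      rfl
    rw [hw'] at hnat
    have hcomm : qmap (S.g j).toRingHom (ext m r (Rel m r R₀ (G j)) gj)
        (ext m r (Rel m r R₀ A) gA)
        (ext_map' (S.g j).toRingHom m r (Rel m r R₀ (G j)) gj (Rel m r R₀ A) gA
          (map_Rel m r R₀ (S.g j)) (map_reach S hθ gt₀))
        (Ideal.quotientEquivAlgOfEq (G j) hI₁j v) =
        Ideal.quotientEquivAlgOfEq A hI₁
          (qmap (S.g j).toRingHom (fun k => map θ.toRingHom (F₁ k))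
            (fun k => map (S.g i₀).toRingHom (F₁ k)) (fun k => map_reach S hθ (F₁ k)) v) := by
      obtain ⟨p, hp⟩ := Ideal.Quotient.mk_surjective v
      rw [← hp, Ideal.quotientEquivAlgOfEq_mk, qmap_mk, qmap_mk, Ideal.quotientEquivAlgOfEq_mk]
    rw [hcomm] at hnat
    have hβ : β (qmap (S.g j).toRingHom (fun k => map θ.toRingHom (F₁ k))
        (fun k => map (S.g i₀).toRingHom (F₁ k)) (fun k => map_reach S hθ (F₁ k)) v) =
        awayMap' (tr m r R₀ (S.g j)) xj xA hxy w := by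
      change (RelGCIAway.equiv m r (Rel m r R₀ A) gA).symm _ = _
      rw [AlgEquiv.symm_apply_eq]
      exact hnat.symm
    have hEv' := hE v
    rw [hEv, AlgEquiv.trans_apply, hβ] at hEv'
    apply hht
    change e.symm _ ∈ qloc
    rw [hEv', AlgEquiv.symm_apply_apply]
    exact hmem'
  obtain ⟨u, hu, ⟨eu⟩⟩ := Groth.Agent.H46.SyntLocal.exists_away_algEquiv (G j) (T m r R₀ (G j))
    qj xj hgj w hw
  exact ⟨j, u, hu, Groth.Agent.H47.Synt.isSyntomic_of_algEquiv eu.symm hsynw⟩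

end Groth.Agent.H46.SyntColimPoint
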