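import Mathlib
import Groth.Prelude.Def_RegImm
import Groth.Agent.H46.SyntColimPoint
import Groth.Agent.H46.SyntomicLocal
import Groth.Agent.H47.Synt.BaseChange

/-!
# Syntomic ring maps descend through weak directed colimits
-/

set_option autoImplicit false
set_option linter.unusedSectionVars false
universe u

open MvPolynomial TensorProduct Groth.Agent.H46.ColimPoly
  Groth.Agent.H46.IsoDesc Groth.Agent.H46.SyntColimAux Groth.Agent.H46.SyntColimPoint

namespace Groth.Agent.H46.SyntColim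

variable {A₀ : Type u} [CommRing A₀] (m r : ℕ) (R₀ : Fin r → MvPolynomial (Fin m) A₀)

section CBC

attribute [local instance] Algebra.TensorProduct.rightAlgebra

variable {Λ Λ' : Type u} [CommRing Λ] [Algebra A₀ Λ] [CommRing Λ'] [Algebra A₀ Λ']
  (θ : Λ →ₐ[A₀] Λ')

/-- **Chart base change.** -/
theorem isSyntomic_away_tr (u : T m r R₀ Λ) (h : Synt.IsSyntomic Λ (Localization.Away u)) :
    Synt.IsSyntomic Λ' (Localization.Away (tr m r R₀ θ u)) := by
  let _ : Algebra Λ Λ' := θ.toRingHom.toAlgebra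
  have h1 : Synt.IsSyntomic Λ' (Λ' ⊗[Λ] Localization.Away u) :=
    Groth.Agent.H47.Synt.isSyntomic_baseChange Λ Λ' (Localization.Away u) h
  have h2 : Synt.IsSyntomic Λ' (Localization.Away ((1 : Λ') ⊗ₜ[Λ] u)) :=
    Groth.Agent.H47.Synt.isSyntomic_of_algEquiv
      (IsLocalization.Away.tensorProductEquivTMulRight Λ Λ' u (Localization.Away u)) h1
  have hI : Ideal.span (Set.range fun k => map (algebraMap Λ Λ') (Rel m r R₀ Λ k)) =
      Ideal.span (Set.range (Rel m r R₀ Λ')) := by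
    rw [show (fun k => map (algebraMap Λ Λ') (Rel m r R₀ Λ k)) = Rel m r R₀ Λ' from
      funext (map_Rel m r R₀ θ)]
  let Ψ : Λ' ⊗[Λ] T m r R₀ Λ ≃ₐ[Λ'] T m r R₀ Λ' :=
    (Groth.Agent.H46.RelGCIOpenIdeal.bcEquiv Λ m r (Rel m r R₀ Λ) Λ').symm.trans
      (Ideal.quotientEquivAlgOfEq Λ' hI)
  have hΨ : Ψ ((1 : Λ') ⊗ₜ[Λ] u) = tr m r R₀ θ u := by
    obtain ⟨p, rfl⟩ := Ideal.Quotient.mk_surjective u
    rw [tr_mk]
    change Ideal.quotientEquivAlgOfEq Λ' hI
      ((Groth.Agent.H46.RelGCIOpenIdeal.bcEquiv Λ m r (Rel m r R₀ Λ) Λ').symm _) = _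
    rw [← bcEquiv_mk_map Λ m r (Rel m r R₀ Λ) Λ' p, AlgEquiv.symm_apply_apply,
      Ideal.quotientEquivAlgOfEq_mk]
    rfl
  exact Groth.Agent.H47.Synt.isSyntomic_of_algEquiv (awayEquiv Ψ _ _ hΨ) h2

end CBC

section Main

variable {ι : Type u} {G : ι → Type u} [∀ i, CommRing (G i)] [∀ i, Algebra A₀ (G i)]
  {A : Type u} [CommRing A] [Algebra A₀ A] (S : RSys A₀ G A) [Nonempty ι]

omit [Nonempty ι] in
theorem tr_reach {i j : ι} {θ : G i →ₐ[A₀] G j} (hθ : Reach S i j θ) (u : T m r R₀ (G i)) :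
    tr m r R₀ (S.g j) (tr m r R₀ θ u) = tr m r R₀ (S.g i) u := by
  obtain ⟨p, rfl⟩ := Ideal.Quotient.mk_surjective u
  rw [tr_mk, tr_mk, tr_mk, map_reach S hθ]

include S in
/-- **Syntomic maps descend through weak directed colimits** (presentation form). -/
theorem main' (hsyn : Synt.IsSyntomic A (T m r R₀ A)) :
    ∃ i, Synt.IsSyntomic (G i) (T m r R₀ (G i)) := by
  classical
  -- the set of elements of `T A` coming from syntomic charts at finite stages
  let s : Set (T m r R₀ A) := {x | ∃ (j : ι) (u : T m r R₀ (G j)),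
    tr m r R₀ (S.g j) u = x ∧ Synt.IsSyntomic (G j) (Localization.Away u)}
  have hs : Ideal.span s = ⊤ := by
    by_contra hne
    obtain ⟨M, hM, hle⟩ := Ideal.exists_le_maximal _ hne
    have := hM.isPrime
    obtain ⟨j, u, hu, hsynu⟩ := exists_chart m r R₀ S hsyn M
    exact hu (hle (Ideal.subset_span ⟨j, u, rfl, hsynu⟩))
  obtain ⟨s', hs's, hs'⟩ := (Ideal.span_eq_top_iff_finite s).mp hs
  choose jx ux hux hsynx using fun x : s' => hs's x.2
  obtain ⟨J₀, hJ₀⟩ := exists_common S jx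
  choose α hα using hJ₀
  -- move all charts to the stage `J₀`
  let ũ : s' → T m r R₀ (G J₀) := fun x => tr m r R₀ (α x) (ux x)
  have hũ : ∀ x, tr m r R₀ (S.g J₀) (ũ x) = x.1 := fun x => by
    rw [tr_reach m r R₀ S (hα x), hux]
  have hsynũ : ∀ x, Synt.IsSyntomic (G J₀) (Localization.Away (ũ x)) := fun x =>
    isSyntomic_away_tr m r R₀ _ _ (hsynx x)
  choose p hp using fun x : s' => Ideal.Quotient.mk_surjective (ũ x)
  -- `1` is a combination of the charts and the relations, over `A`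
  let gens : s' ⊕ Fin r → MvPolynomial (Fin m) (G J₀) := Sum.elim p (Rel m r R₀ (G J₀))
  have hgens : (fun k => map (S.g J₀).toRingHom (gens k)) =
      Sum.elim (fun x => map (S.g J₀).toRingHom (p x)) (Rel m r R₀ A) := by
    funext k
    rcases k with x | l
    · rfl
    · exact map_Rel m r R₀ (S.g J₀) l
  have hmkp : ∀ x : s', Ideal.Quotient.mk (Ideal.span (Set.range (Rel m r R₀ A)))
      (map (S.g J₀).toRingHom (p x)) = x.1 := fun x => by
    rw [← tr_mk, hp, hũ]
  have h1 : map (S.g J₀).toRingHom (1 : MvPolynomial (Fin m) (G J₀)) ∈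
      Ideal.span (Set.range fun k => map (S.g J₀).toRingHom (gens k)) := by
    rw [hgens, Set.Sum.elim_range, Ideal.span_union, map_one]
    have h1' : (1 : T m r R₀ A) ∈ Ideal.span (s' : Set (T m r R₀ A)) := by
      rw [hs']; exact Submodule.mem_top
    have himg : (s' : Set (T m r R₀ A)) = Ideal.Quotient.mk
        (Ideal.span (Set.range (Rel m r R₀ A))) '' (Set.range fun x : s' =>
          map (S.g J₀).toRingHom (p x)) := by
      ext y
      constructor
      · intro hy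
        exact ⟨_, ⟨⟨y, hy⟩, rfl⟩, hmkp ⟨y, hy⟩⟩
      · rintro ⟨_, ⟨x, rfl⟩, rfl⟩
        rw [hmkp]
        exact x.2
    rw [himg, ← Ideal.map_span] at h1'
    obtain ⟨y, hy, hy1⟩ := (Ideal.mem_map_iff_of_surjective _
      Ideal.Quotient.mk_surjective).mp h1'
    have hdiff : 1 - y ∈ Ideal.span (Set.range (Rel m r R₀ A)) := by
      rw [← Ideal.Quotient.eq_zero_iff_mem, map_sub, map_one, hy1, sub_self]
    have : (1 : MvPolynomial (Fin m) A) = y + (1 - y) := by ring
    rw [this]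
    exact Submodule.add_mem_sup hy hdiff
  obtain ⟨J, θ, hθ, hmem⟩ := exists_reach_mem_span S J₀ 1 gens h1
  refine ⟨J, ?_⟩
  -- the charts at stage `J`
  let w : s' → T m r R₀ (G J) := fun x => tr m r R₀ θ (ũ x)
  have hw : ∀ x, Synt.IsSyntomic (G J) (Localization.Away (w x)) := fun x =>
    isSyntomic_away_tr m r R₀ θ _ (hsynũ x)
  have hspan : Ideal.span (Set.range w) = ⊤ := by
    rw [Ideal.eq_top_iff_one]
    have h2 := Ideal.mem_map_of_mem (Ideal.Quotient.mk (Ideal.span (Set.range (Rel m r R₀ (G J)))))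
      hmem
    rw [map_one, map_one, Ideal.map_span] at h2
    refine (Ideal.span_le.mpr ?_) h2
    rintro _ ⟨_, ⟨k, rfl⟩, rfl⟩
    rcases k with x | l
    · refine Ideal.subset_span ⟨x, ?_⟩
      change tr m r R₀ θ (ũ x) = Ideal.Quotient.mk _ (map θ.toRingHom (p x))
      rw [← hp x, tr_mk]
    · change Ideal.Quotient.mk _ (map θ.toRingHom (Rel m r R₀ (G J₀) l)) ∈ _
      have h0 : Ideal.Quotient.mk (Ideal.span (Set.range (Rel m r R₀ (G J))))
          (Rel m r R₀ (G J) l) = 0 :=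
        Ideal.Quotient.eq_zero_iff_mem.mpr (Ideal.subset_span ⟨l, rfl⟩)
      rw [map_Rel m r R₀ θ l, h0]
      exact Submodule.zero_mem _
  refine Groth.Agent.H46.isSyntomic_of_span (G J) (T m r R₀ (G J)) (Finset.univ.image w) ?_ ?_
  · rw [Finset.coe_image, Finset.coe_univ, Set.image_univ]
    exact hspan
  · intro g hg
    obtain ⟨x, -, rfl⟩ := Finset.mem_image.mp hg
    exact hw x

end Main

section TensorForm

variable {A₀ : Type u} [CommRing A₀]

/-- Base change of a finitely presented algebra, in presentation form. -/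
theorem exists_presentation (C₀ : Type u) [CommRing C₀] [Algebra A₀ C₀]
    [Algebra.FinitePresentation A₀ C₀] :
    ∃ (m r : ℕ) (R₀ : Fin r → MvPolynomial (Fin m) A₀),
      ∀ (Λ : Type u) [CommRing Λ] [Algebra A₀ Λ], Nonempty (Λ ⊗[A₀] C₀ ≃ₐ[Λ] T m r R₀ Λ) := by
  obtain ⟨m, f, hf, hfg⟩ := Algebra.FinitePresentation.out (R := A₀) (A := C₀)
  obtain ⟨r, R₀, hR₀⟩ := Submodule.fg_iff_exists_fin_generating_family.mp hfg
  refine ⟨m, r, R₀, fun Λ _ _ => ?_⟩
  have hker : Ideal.span (Set.range R₀) = RingHom.ker f.toRingHom := hR₀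
  let ε : Synt.RelGCIRing A₀ m r R₀ ≃ₐ[A₀] C₀ :=
    (Ideal.quotientEquivAlgOfEq A₀ hker).trans (Ideal.quotientKerAlgEquivOfSurjective hf)
  exact ⟨(Algebra.TensorProduct.congr (AlgEquiv.refl (R := Λ) (A₁ := Λ)) ε.symm).trans
    (Groth.Agent.H46.RelGCIOpenIdeal.bcEquiv A₀ m r R₀ Λ).symm⟩

variable {ι : Type u} {G : ι → Type u} [∀ i, CommRing (G i)] [∀ i, Algebra A₀ (G i)]
  {A : Type u} [CommRing A] [Algebra A₀ A] (S : RSys A₀ G A) [Nonempty ι]

include S in
/-- **Syntomic maps descend through weak directed colimits** (tensor form). -/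
theorem main (C₀ : Type u) [CommRing C₀] [Algebra A₀ C₀] [Algebra.FinitePresentation A₀ C₀]
    (hsyn : Synt.IsSyntomic A (A ⊗[A₀] C₀)) : ∃ i, Synt.IsSyntomic (G i) (G i ⊗[A₀] C₀) := by
  obtain ⟨m, r, R₀, hΦ⟩ := exists_presentation (A₀ := A₀) C₀
  obtain ⟨ΦA⟩ := hΦ A
  obtain ⟨i, hi⟩ := main' m r R₀ S (Groth.Agent.H47.Synt.isSyntomic_of_algEquiv ΦA hsyn)
  obtain ⟨Φi⟩ := hΦ (G i)
  exact ⟨i, Groth.Agent.H47.Synt.isSyntomic_of_algEquiv Φi.symm hi⟩

end TensorForm

end Groth.Agent.H46.SyntColim
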