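import Mathlib
import Groth.Prelude.Def_RegImm
import Groth.Agent.H46.SyntColim
import Groth.Agent.H47.ColimBC

/-!
# Syntomic maps descend through weak directed colimits: the `B₀ ⊗[A₀] -` form
-/

set_option autoImplicit false
set_option linter.unusedSectionVars false
universe u

open TensorProduct

namespace Groth.Agent.H46.SyntColimBC

variable {ι : Type u} [Preorder ι] [IsDirected ι (· ≤ ·)] [Nonempty ι]
  {A₀ : Type u} [CommRing A₀] {G : ι → Type u} [∀ i, CommRing (G i)] [∀ i, Algebra A₀ (G i)]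
  {A : Type u} [CommRing A] [Algebra A₀ A] (S : Groth.Agent.H47.ColimKL.Sys A₀ G A)
  (B₀ : Type u) [CommRing B₀] [Algebra A₀ B₀]

/-- The base change `B₀ ⊗[A₀] -` of a weak directed system is a reach system over `B₀`. -/
noncomputable def bcRSys :
    Groth.Agent.H46.ColimPoly.RSys B₀ (fun i => B₀ ⊗[A₀] G i) (B₀ ⊗[A₀] A) where
  g i := Groth.Agent.H47.ColimKL.rho B₀ (S.g i)
  hsurj a := by
    obtain ⟨i, w', hw'⟩ := Groth.Agent.H47.ColimKL.exists_rep_rho S B₀ (fun _ : Unit => a)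
    exact ⟨i, w' (), hw' ()⟩
  hdir i i' := by
    obtain ⟨k, h1, h2⟩ := exists_ge_ge i i'
    refine ⟨k, Groth.Agent.H47.ColimKL.rho B₀ (S.f i k h1),
      Groth.Agent.H47.ColimKL.rho B₀ (S.f i' k h2), ?_, ?_⟩
    · exact AlgHom.ext fun x => Groth.Agent.H47.ColimKL.rho_reach S B₀
        (Groth.Agent.H47.ColimKL.Reach.step S h1) x
    · exact AlgHom.ext fun x => Groth.Agent.H47.ColimKL.rho_reach S B₀
        (Groth.Agent.H47.ColimKL.Reach.step S h2) x
  hker i x hx := by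
    classical
    obtain ⟨j, θ, hθ, hk⟩ := Groth.Agent.H47.ColimKL.exists_reach_kill_rho S B₀ i {x}
      (fun u hu => by rw [Finset.mem_singleton.mp hu]; exact hx)
    exact ⟨j, Groth.Agent.H47.ColimKL.rho B₀ θ,
      AlgHom.ext fun y => Groth.Agent.H47.ColimKL.rho_reach S B₀ hθ y,
      hk x (Finset.mem_singleton_self x)⟩

include S in
/-- **Syntomic maps descend through weak directed colimits** (`B₀ ⊗[A₀] -` form). -/
theorem syntomic_descends (C₀ : Type u) [CommRing C₀] [Algebra B₀ C₀]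
    [Algebra.FinitePresentation B₀ C₀]
    (h : Synt.IsSyntomic (B₀ ⊗[A₀] A) ((B₀ ⊗[A₀] A) ⊗[B₀] C₀)) :
    ∃ i, Synt.IsSyntomic (B₀ ⊗[A₀] G i) ((B₀ ⊗[A₀] G i) ⊗[B₀] C₀) :=
  Groth.Agent.H46.SyntColim.main (bcRSys S B₀) C₀ h

end Groth.Agent.H46.SyntColimBC
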