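import Mathlib
import Groth.Prelude.Def_RegImm
import Groth.Agent.H46.NLLoc
import Groth.Agent.H46.SyntLocal
import Groth.Agent.H46.RelGCIReg

/-!
# The conormal module of a syntomic algebra is finite projective (Stacks 10.136.16)
-/

set_option autoImplicit false

open TensorProduct

universe u

namespace Groth.Agent.H46.SyntConormal

open Groth.Agent.H19.QRegCot in
/-- Elementwise form of the independence of the classes of the `F i` in the conormal module. -/
theorem mem_of_sum_mul_mem_sq (R : Type u) [CommRing R] (n c : ℕ)
    (F : Fin c → MvPolynomial (Fin n) R) (h : Synt.IsRelGCI R n c F)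
    (a : Fin c → MvPolynomial (Fin n) R)
    (ha : ∑ i, a i * F i ∈ Ideal.span (Set.range F) ^ 2) (i : Fin c) :
    a i ∈ Ideal.span (Set.range F) := by
  have hLI := Groth.Agent.H46.RelGCIReg.linearIndependent_cotangent R n c F h
  rw [Fintype.linearIndependent_iff] at hLI
  have h0 := hLI (fun j => Ideal.Quotient.mk _ (a j)) (by
    rw [sum_mk_smul_toCotangent, Ideal.toCotangent_eq_zero, coe_sum_smul]
    exact ha) i
  exact Ideal.Quotient.eq_zero_iff_mem.mp h0

/-- The conormal module of a presentation of an algebra with kernel generated by a relative global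
complete intersection sequence is free. -/
theorem free_cotangent {R : Type u} [CommRing R] {A : Type u} [CommRing A] [Algebra R A]
    (n c : ℕ) (F : Fin c → MvPolynomial (Fin n) R) (h : Synt.IsRelGCI R n c F)
    (β : MvPolynomial (Fin n) R →ₐ[R] A) (hβ : Function.Surjective β)
    (hker : RingHom.ker β = Ideal.span (Set.range F)) :
    Module.Free A (Algebra.Extension.ofSurjective β hβ).Cotangent ∧
      Module.Finite A (Algebra.Extension.ofSurjective β hβ).Cotangent := by
  classical
  have hker' : Ideal.span (Set.range F) = (Algebra.Extension.ofSurjective β hβ).ker := hker.symm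
  have hsp := Algebra.Extension.Cotangent.span_eq_top_of_span_eq_ker
    (P := Algebra.Extension.ofSurjective β hβ) F hker'
  have hLI : LinearIndependent A (fun i : Fin c =>
      (Algebra.Extension.Cotangent.mk (P := Algebra.Extension.ofSurjective β hβ)
        ⟨F i, hker'.le (Ideal.subset_span ⟨i, rfl⟩)⟩)) := by
    rw [Fintype.linearIndependent_iff]
    intro g hg i
    choose a ha using fun j => (Algebra.Extension.ofSurjective β hβ).algebraMap_surjective (g j)
    have hsmul : ∀ j, g j • (Algebra.Extension.Cotangent.mk
        (P := Algebra.Extension.ofSurjective β hβ)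
        ⟨F j, hker'.le (Ideal.subset_span ⟨j, rfl⟩)⟩) =
        Algebra.Extension.Cotangent.mk (P := Algebra.Extension.ofSurjective β hβ)
          (a j • ⟨F j, hker'.le (Ideal.subset_span ⟨j, rfl⟩)⟩) := by
      intro j
      rw [map_smul, ← ha j]
      exact (algebraMap_smul A (a j) _)
    simp only [hsmul] at hg
    rw [← map_sum, Algebra.Extension.Cotangent.mk_eq_zero_iff] at hg
    let a' : Fin c → MvPolynomial (Fin n) R := a
    have hg' : ∑ j, a' j * F j ∈ Ideal.span (Set.range F) ^ 2 := by
      rw [hker']
      have hval : (((∑ j, a j • (⟨F j, hker'.le (Ideal.subset_span ⟨j, rfl⟩)⟩ :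
          (Algebra.Extension.ofSurjective β hβ).ker) :
          (Algebra.Extension.ofSurjective β hβ).ker) :
          (Algebra.Extension.ofSurjective β hβ).Ring)) = ∑ j, a' j * F j := by
        rw [Submodule.coe_sum]
        rfl
      rw [← hval]
      exact hg
    have hmem := mem_of_sum_mul_mem_sq R n c F h a' hg' i
    rw [← hker] at hmem
    rw [← ha i]
    exact hmem
  let b := Module.Basis.mk hLI hsp.ge
  exact ⟨Module.Free.of_basis b, Module.Finite.of_basis b⟩

/-- Locally on a syntomic algebra `T`, the (localized) conormal module of a presentation of `T` is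
finite projective. -/
theorem exists_projective_away (R T : Type u) [CommRing R] [CommRing T] [Algebra R T]
    (hT : Synt.IsSyntomic R T) (m : ℕ) (β : MvPolynomial (Fin m) R →ₐ[R] T)
    (hβ : Function.Surjective β) (q : Ideal T) [q.IsPrime] :
    ∃ g' : T, g' ∉ q ∧
      Module.Projective (Localization.Away g') (LocalizedModule (Submonoid.powers g')
        (Algebra.Extension.ofSurjective β hβ).Cotangent) ∧
      Module.Finite (Localization.Away g') (LocalizedModule (Submonoid.powers g')
        (Algebra.Extension.ofSurjective β hβ).Cotangent) := by
  obtain ⟨g', hg', n', c', F', hGCI, ⟨e⟩⟩ := Groth.Agent.H46.SyntLocal.main R T hT q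
  refine ⟨g', hg', ?_⟩
  let β' : MvPolynomial (Fin n') R →ₐ[R] Localization.Away g' :=
    (e.symm : Synt.RelGCIRing R n' c' F' →ₐ[R] Localization.Away g').comp
      (Ideal.Quotient.mkₐ R (Ideal.span (Set.range F')))
  have hβ' : Function.Surjective β' :=
    e.symm.surjective.comp (Ideal.Quotient.mkₐ_surjective R _)
  have hker : RingHom.ker β' = Ideal.span (Set.range F') := by
    ext x
    rw [RingHom.mem_ker]
    change e.symm (Ideal.Quotient.mk _ x) = 0 ↔ _
    rw [EmbeddingLike.map_eq_zero_iff, Ideal.Quotient.eq_zero_iff_mem]
  obtain ⟨hfree, hfin⟩ := free_cotangent n' c' F' hGCI β' hβ' hker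
  obtain ⟨E⟩ := Groth.Agent.H46.NLLoc.main R T g' m n' β hβ β' hβ'
  have hproj : Module.Projective (Localization.Away g')
      (LocalizedModule (Submonoid.powers g') (Algebra.Extension.ofSurjective β hβ).Cotangent ×
        (Fin n' → Localization.Away g')) := Module.Projective.of_equiv E.symm
  have hfin' : Module.Finite (Localization.Away g')
      (LocalizedModule (Submonoid.powers g') (Algebra.Extension.ofSurjective β hβ).Cotangent ×
        (Fin n' → Localization.Away g')) := Module.Finite.equiv E.symm
  refine ⟨Module.Projective.of_split
      (LinearMap.inl (Localization.Away g') (LocalizedModule (Submonoid.powers g')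
        (Algebra.Extension.ofSurjective β hβ).Cotangent) (Fin n' → Localization.Away g'))
      (LinearMap.fst (Localization.Away g') (LocalizedModule (Submonoid.powers g')
        (Algebra.Extension.ofSurjective β hβ).Cotangent) (Fin n' → Localization.Away g')) ?_,
    Module.Finite.of_surjective (LinearMap.fst (Localization.Away g') (LocalizedModule
      (Submonoid.powers g') (Algebra.Extension.ofSurjective β hβ).Cotangent)
      (Fin n' → Localization.Away g')) LinearMap.fst_surjective⟩
  ext x
  simp

/-- The conormal module of any finite-type presentation of a syntomic algebra is projective. -/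
theorem projective_cotangent (R T : Type u) [CommRing R] [CommRing T] [Algebra R T]
    (hT : Synt.IsSyntomic R T) (m : ℕ) (β : MvPolynomial (Fin m) R →ₐ[R] T)
    (hβ : Function.Surjective β) :
    Module.Projective T (Algebra.Extension.ofSurjective β hβ).Cotangent := by
  let s : Set T := {g' | Module.Projective (Localization.Away g')
      (LocalizedModule (Submonoid.powers g') (Algebra.Extension.ofSurjective β hβ).Cotangent) ∧
    Module.Finite (Localization.Away g')
      (LocalizedModule (Submonoid.powers g') (Algebra.Extension.ofSurjective β hβ).Cotangent)}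
  have hs : Ideal.span s = ⊤ := by
    by_contra hne
    obtain ⟨𝔪, hmax, hle⟩ := Ideal.exists_le_maximal _ hne
    obtain ⟨g', hg', h1, h2⟩ := exists_projective_away R T hT m β hβ 𝔪
    exact hg' (hle (Ideal.subset_span ⟨h1, h2⟩))
  have hfp : Module.FinitePresentation T (Algebra.Extension.ofSurjective β hβ).Cotangent :=
    Module.FinitePresentation.of_localizationSpan s hs (fun g => by
      have := g.2.1
      have := g.2.2
      exact Module.finitePresentation_of_projective _ _)
  have hflat : Module.Flat T (Algebra.Extension.ofSurjective β hβ).Cotangent :=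
    Module.flat_of_localized_span _ _ s hs (fun g => by
      have := g.2.1
      have : Module.Flat (Localization.Away g.1) (LocalizedModule.Away g.1
        (Algebra.Extension.ofSurjective β hβ).Cotangent) := inferInstance
      exact Module.Flat.trans T (Localization.Away g.1) _)
  exact Module.Flat.projective_of_finitePresentation

/-- cotangent modules of equal ideals -/
noncomputable def cotEquiv {Pr : Type*} [CommRing Pr] {K I : Ideal Pr} (h : K = I) :
    K.Cotangent ≃ₗ[Pr] I.Cotangent := by
  subst h
  exact LinearEquiv.refl _ _

/-- the conormal module of an extension with known kernel -/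
noncomputable def extCotEquiv {R S : Type u} [CommRing R] [CommRing S] [Algebra R S]
    (P : Algebra.Extension.{u} R S) (I : Ideal P.Ring) (hker : P.ker = I) :
    P.Cotangent ≃ₗ[P.Ring] I.Cotangent :=
  P.cotangentEquivCotangentKer.trans (cotEquiv hker)

/-- upgrade a linear equivalence along a surjection of rings -/
noncomputable def extendScalars {A B : Type*} [CommRing A] [CommRing B] (φ : A → B)
    (hφ : Function.Surjective φ) {M N : Type*} [AddCommGroup M] [AddCommGroup N]
    [Module A M] [Module B M] [Module A N] [Module B N]
    (hM : ∀ (a : A) (x : M), φ a • x = a • x) (hN : ∀ (a : A) (y : N), φ a • y = a • y)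
    (e : M ≃ₗ[A] N) : M ≃ₗ[B] N :=
  { e with
    map_smul' := fun b x => by
      obtain ⟨a, rfl⟩ := hφ b
      simp only [AddHom.toFun_eq_coe, LinearMap.coe_toAddHom, LinearEquiv.coe_coe,
        RingHom.id_apply]
      rw [hM, hN, map_smul] }

/-- Stacks 10.136.16: the localized conormal module of a presentation whose localization is
syntomic is finite projective. -/
theorem main (R : Type u) [CommRing R] (n : ℕ)
    (I : Ideal (MvPolynomial (Fin n) R)) (hI : I.FG) (g : MvPolynomial (Fin n) R ⧸ I)
    (hg : Synt.IsSyntomic R (Localization.Away g)) :
    Module.Finite (Localization.Away g) (LocalizedModule (Submonoid.powers g) I.Cotangent) ∧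
      Module.Projective (Localization.Away g)
        (LocalizedModule (Submonoid.powers g) I.Cotangent) := by
  constructor
  · have : Module.Finite (MvPolynomial (Fin n) R) I := Module.Finite.iff_fg.mpr hI
    have : Module.Finite (MvPolynomial (Fin n) R) I.Cotangent :=
      Module.Finite.of_surjective I.toCotangent I.toCotangent_surjective
    have : Module.Finite (MvPolynomial (Fin n) R ⧸ I) I.Cotangent :=
      Module.Finite.of_restrictScalars_finite (MvPolynomial (Fin n) R) _ _
    exact Module.Finite.of_isLocalizedModule (Submonoid.powers g)
      (LocalizedModule.mkLinearMap (Submonoid.powers g) I.Cotangent)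
  · have hfp : Algebra.FinitePresentation R (Localization.Away g) := hg.2.1
    obtain ⟨m, β, hβ⟩ := Algebra.FiniteType.iff_quotient_mvPolynomial''.mp
      (inferInstance : Algebra.FiniteType R (Localization.Away g))
    have hα : Function.Surjective (Ideal.Quotient.mkₐ R I) := Ideal.Quotient.mkₐ_surjective R I
    have hC := projective_cotangent R (Localization.Away g) hg m β hβ
    obtain ⟨E⟩ := Groth.Agent.H46.NLLoc.main R (MvPolynomial (Fin n) R ⧸ I) g n m
      (Ideal.Quotient.mkₐ R I) hα β hβ
    have hproj : Module.Projective (Localization.Away g)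
        (LocalizedModule (Submonoid.powers g)
          (Algebra.Extension.ofSurjective (Ideal.Quotient.mkₐ R I) hα).Cotangent ×
          (Fin m → Localization.Away g)) := Module.Projective.of_equiv E.symm
    have hproj' : Module.Projective (Localization.Away g)
        (LocalizedModule (Submonoid.powers g)
          (Algebra.Extension.ofSurjective (Ideal.Quotient.mkₐ R I) hα).Cotangent) :=
      Module.Projective.of_split
        (LinearMap.inl (Localization.Away g) (LocalizedModule (Submonoid.powers g)
          (Algebra.Extension.ofSurjective (Ideal.Quotient.mkₐ R I) hα).Cotangent)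
          (Fin m → Localization.Away g))
        (LinearMap.fst (Localization.Away g) (LocalizedModule (Submonoid.powers g)
          (Algebra.Extension.ofSurjective (Ideal.Quotient.mkₐ R I) hα).Cotangent)
          (Fin m → Localization.Away g)) (by ext x; simp)
    have hker : (Algebra.Extension.ofSurjective (Ideal.Quotient.mkₐ R I) hα).ker = I := by
      ext x
      rw [Algebra.Extension.ker, RingHom.mem_ker]
      change Ideal.Quotient.mk I x = 0 ↔ _
      exact Ideal.Quotient.eq_zero_iff_mem
    let e₁ : (Algebra.Extension.ofSurjective (Ideal.Quotient.mkₐ R I) hα).Cotangent ≃ₗ[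
        MvPolynomial (Fin n) R] I.Cotangent :=
      extCotEquiv (Algebra.Extension.ofSurjective (Ideal.Quotient.mkₐ R I) hα) I hker
    let e₀ : (Algebra.Extension.ofSurjective (Ideal.Quotient.mkₐ R I) hα).Cotangent ≃ₗ[
        MvPolynomial (Fin n) R ⧸ I] I.Cotangent :=
      extendScalars (Ideal.Quotient.mk I) Ideal.Quotient.mk_surjective
        (fun a x => algebraMap_smul (MvPolynomial (Fin n) R ⧸ I) a x)
        (fun a y => algebraMap_smul (MvPolynomial (Fin n) R ⧸ I) a y) e₁
    exact Module.Projective.of_equiv
      (IsLocalizedModule.mapEquiv (Submonoid.powers g)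
        (LocalizedModule.mkLinearMap (Submonoid.powers g) _)
        (LocalizedModule.mkLinearMap (Submonoid.powers g) _) (Localization.Away g) e₀)

end Groth.Agent.H46.SyntConormal
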