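import Mathlib
import Groth.Agent.H46.SyntLocal
import Groth.Agent.H46.RelGCIOpenIdeal
import Groth.Agent.H46.TensorAway

/-!
# Lifting syntomic algebras over `R/I` locally to relative global complete intersections over `R`
-/

set_option autoImplicit false
universe u

open MvPolynomial TensorProduct

namespace Groth.Agent.H46.SyntLift

/-- If `g ≡ 1` modulo `IS`, then `(R/I) ⊗ S ≃ (R/I) ⊗ S_g`. -/
theorem nonempty_tensor_equiv_away (R : Type u) [CommRing R] (I : Ideal R) (S : Type u)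
    [CommRing S] [Algebra R S] (g : S)
    (hg : Ideal.Quotient.mk (I.map (algebraMap R S)) g = 1) :
    Nonempty ((R ⧸ I) ⊗[R] S ≃ₐ[R ⧸ I] (R ⧸ I) ⊗[R] Localization.Away g) := by
  letI alg : Algebra ((R ⧸ I) ⊗[R] S) ((R ⧸ I) ⊗[R] Localization.Away g) :=
    (Groth.Agent.H46.tensorAwayMap R (R ⧸ I) S (Localization.Away g)).toRingHom.toAlgebra
  haveI loc : IsLocalization.Away ((1 : R ⧸ I) ⊗ₜ[R] g) ((R ⧸ I) ⊗[R] Localization.Away g) :=
    Groth.Agent.H46.isLocalization_away_tensor R (R ⧸ I) S (Localization.Away g) g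
  haveI tower : IsScalarTower (R ⧸ I) ((R ⧸ I) ⊗[R] S) ((R ⧸ I) ⊗[R] Localization.Away g) :=
    IsScalarTower.of_algebraMap_eq fun k =>
      ((Groth.Agent.H46.tensorAwayMap R (R ⧸ I) S (Localization.Away g)).commutes k).symm
  have h1 : (1 : R ⧸ I) ⊗ₜ[R] g = 1 := by
    have := congrArg (Algebra.TensorProduct.quotIdealMapEquivQuotTensor S I) hg
    rwa [Algebra.TensorProduct.quotIdealMapEquivQuotTensor_mk, map_one] at this
  have hu : IsUnit ((1 : R ⧸ I) ⊗ₜ[R] g) := h1 ▸ isUnit_one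
  exact ⟨(IsLocalization.atUnit ((R ⧸ I) ⊗[R] S) ((R ⧸ I) ⊗[R] Localization.Away g) _
    hu).restrictScalars (R ⧸ I)⟩

/-- The quotient `S₁/IS₁` is an `R/I`-algebra compatibly with `R`. -/
instance isScalarTower_quot (R : Type u) [CommRing R] (I : Ideal R) (S₁ : Type u) [CommRing S₁]
    [Algebra R S₁] : IsScalarTower R (R ⧸ I) (S₁ ⧸ I.map (algebraMap R S₁)) :=
  IsScalarTower.of_algebraMap_eq fun _ => rfl

theorem exists_lift (R : Type u) [CommRing R] (I : Ideal R) (Sb : Type u) [CommRing Sb]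
    [Algebra R Sb] [Algebra (R ⧸ I) Sb] [IsScalarTower R (R ⧸ I) Sb]
    (h : Synt.IsSyntomic (R ⧸ I) Sb) (q : Ideal Sb) [q.IsPrime] :
    ∃ g : Sb, g ∉ q ∧ ∃ (n c : ℕ) (F : Fin c → MvPolynomial (Fin n) R), Synt.IsRelGCI R n c F ∧
      Nonempty (Localization.Away g ≃ₐ[R]
        (Synt.RelGCIRing R n c F ⧸ I.map (algebraMap R (Synt.RelGCIRing R n c F)))) := by
  obtain ⟨g, hg, n, c, Fb, hRel, ⟨e⟩⟩ := Groth.Agent.H46.SyntLocal.main (R ⧸ I) Sb h q
  have hlift : ∀ i, ∃ F : MvPolynomial (Fin n) R,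
      MvPolynomial.map (Ideal.Quotient.mk I) F = Fb i :=
    fun i => MvPolynomial.map_surjective _ Ideal.Quotient.mk_surjective _
  choose F hF using hlift
  have hFb : Fb = fun i => MvPolynomial.map (Ideal.Quotient.mk I) (F i) :=
    funext fun i => (hF i).symm
  subst hFb
  obtain ⟨h', hh', hRel', ⟨e₁⟩⟩ := Groth.Agent.H46.RelGCIOpenIdeal.main R n c F I hRel
  refine ⟨g, hg, n + 1, c + 1, _, hRel', ?_⟩
  obtain ⟨e₂⟩ := nonempty_tensor_equiv_away R I (Synt.RelGCIRing R n c F)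
    (Ideal.Quotient.mk (Ideal.span (Set.range F)) h') hh'
  let e₀ := Groth.Agent.H46.RelGCIOpenIdeal.bcEquiv R n c F (R ⧸ I)
  let e₃ := Algebra.TensorProduct.congr (AlgEquiv.refl (R := R ⧸ I) (A₁ := R ⧸ I)) e₁
  let e₄ := (Algebra.TensorProduct.quotIdealMapEquivQuotTensor
    (Synt.RelGCIRing R (n + 1) (c + 1)
      (Fin.snoc (fun i => rename Fin.castSucc (F i)) (rename Fin.castSucc h' * X (Fin.last n) - 1)))
    I).symm
  exact ⟨(e.trans (e₀.trans (e₂.trans (e₃.trans e₄)))).restrictScalars R⟩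

theorem main (R : Type u) [CommRing R] (I : Ideal R) (Sb : Type u) [CommRing Sb]
    [Algebra R Sb] [Algebra (R ⧸ I) Sb] [IsScalarTower R (R ⧸ I) Sb]
    (h : Synt.IsSyntomic (R ⧸ I) Sb) :
    ∃ s : Finset Sb, Ideal.span (s : Set Sb) = ⊤ ∧ ∀ g ∈ s,
      ∃ (n c : ℕ) (F : Fin c → MvPolynomial (Fin n) R), Synt.IsRelGCI R n c F ∧
        Nonempty (Localization.Away g ≃ₐ[R]
          (Synt.RelGCIRing R n c F ⧸ I.map (algebraMap R (Synt.RelGCIRing R n c F)))) := by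
  let G : Set Sb := {g | ∃ (n c : ℕ) (F : Fin c → MvPolynomial (Fin n) R), Synt.IsRelGCI R n c F ∧
        Nonempty (Localization.Away g ≃ₐ[R]
          (Synt.RelGCIRing R n c F ⧸ I.map (algebraMap R (Synt.RelGCIRing R n c F))))}
  have htop : Ideal.span G = ⊤ := by
    by_contra hne
    obtain ⟨M, hM, hle⟩ := Ideal.exists_le_maximal _ hne
    haveI : M.IsPrime := hM.isPrime
    obtain ⟨g, hg, hgG⟩ := exists_lift R I Sb h M
    exact hg (hle (Ideal.subset_span hgG))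
  obtain ⟨s, hsG, hs⟩ := (Ideal.span_eq_top_iff_finite G).1 htop
  exact ⟨s, hs, fun g hg => hsG hg⟩

end Groth.Agent.H46.SyntLift
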