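import Mathlib
import Groth.Prelude.Def_RegImm
import Groth.Agent.H24.LimitLocus
import Groth.Agent.H24.LimitLocusSmooth
import Groth.Agent.H24.DirectedStage
import Groth.Agent.H47.Synt.Scheme
import Groth.Agent.H47.Synt.BaseChange
import Groth.Agent.H46.SyntColim
import Groth.Agent.H46.LimitLocusResp

/-!
# Syntomic morphisms descend to a stage of a cofiltered limit
-/

set_option autoImplicit false
universe u
open CategoryTheory CategoryTheory.Limits AlgebraicGeometry TensorProduct Groth.Agent.H24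
  Groth.Agent.H47.Synt

namespace Groth.Agent.H46.SyntLimit

set_option backward.isDefEq.respectTransparency false in
theorem synt_fst_iff {T X₀ S₀ : Scheme.{u}} [IsAffine T] [IsAffine X₀] [IsAffine S₀]
    (t : T ⟶ S₀) (h₀ : X₀ ⟶ S₀) :
    SyntMor (pullback.fst t h₀) ↔
      letI := t.appTop.hom.toAlgebra
      letI := h₀.appTop.hom.toAlgebra
      Synt.IsSyntomic Γ(T, ⊤) (Γ(T, ⊤) ⊗[Γ(S₀, ⊤)] Γ(X₀, ⊤)) := by
  let _ := t.appTop.hom.toAlgebra
  let _ := h₀.appTop.hom.toAlgebra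
  have hpush : IsPushout t.appTop h₀.appTop (pullback.fst t h₀).appTop (pullback.snd t h₀).appTop :=
    isPushout_appTop_of_isPullback (IsPullback.of_hasPullback t h₀)
  have htens := CommRingCat.isPushout_tensorProduct Γ(S₀, ⊤) Γ(T, ⊤) Γ(X₀, ⊤)
  let e := htens.isoIsPushout _ _ hpush
  have he : CommRingCat.ofHom (Algebra.TensorProduct.includeLeftRingHom :
      Γ(T, ⊤) →+* Γ(T, ⊤) ⊗[Γ(S₀, ⊤)] Γ(X₀, ⊤)) ≫ e.hom = (pullback.fst t h₀).appTop :=
    htens.inl_isoIsPushout_hom _ _ hpush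
  rw [HasRingHomProperty.iff_of_isAffine (P := SyntMor),
    ← syntHom_algebraMap_iff (R := Γ(T, ⊤)) (S := Γ(T, ⊤) ⊗[Γ(S₀, ⊤)] Γ(X₀, ⊤))]
  have halg : algebraMap Γ(T, ⊤) (Γ(T, ⊤) ⊗[Γ(S₀, ⊤)] Γ(X₀, ⊤)) =
      (CommRingCat.ofHom (Algebra.TensorProduct.includeLeftRingHom :
      Γ(T, ⊤) →+* Γ(T, ⊤) ⊗[Γ(S₀, ⊤)] Γ(X₀, ⊤))).hom := rfl
  rw [halg, ← he]
  exact syntHom_respectsIso.cancel_right_isIso _ e.hom

set_option backward.isDefEq.respectTransparency false in
/-- The all-affine core descent statement for syntomic morphisms. -/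
theorem coreDescent_synt : CoreDescent.{u} SyntMor.{u} := by
  intro J _ _ D' _ c' hc' j₀ _ X₀' _ h₀ _ hlim
  have h1 := (prop_limMap_id_iff_fst D' c' j₀ h₀ SyntMor).mp hlim
  obtain ⟨α, _, hdir, hne, F, hsurj, hinj⟩ := exists_directed_stages D' c' j₀ hc'
  have hπaff : IsAffineHom (c'.π.app j₀) := isAffineHom_π_app D' c' hc' j₀
  have hpt : IsAffine c'.pt := isAffine_of_isAffineHom (c'.π.app j₀)
  have hpt' : IsAffine (((Functor.const J).obj c'.pt).obj j₀) := hpt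
  let G : α → Type u := fun a => Γ(D'.obj (F.obj a).unop.left, ⊤)
  let iB : Algebra Γ(D'.obj j₀, ⊤) Γ(X₀', ⊤) := h₀.appTop.hom.toAlgebra
  let iA : Algebra Γ(D'.obj j₀, ⊤) Γ(c'.pt, ⊤) := (c'.π.app j₀).appTop.hom.toAlgebra
  let iG : ∀ a, Algebra Γ(D'.obj j₀, ⊤) (G a) := fun a =>
    (D'.map (F.obj a).unop.hom).appTop.hom.toAlgebra
  let g : ∀ a b, a ≤ b → G a →ₐ[Γ(D'.obj j₀, ⊤)] G b := fun a b h =>
    { toRingHom := (D'.map (F.map (homOfLE h)).unop.left).appTop.hom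
      commutes' := fun r => by
        change ((D'.map (F.map (homOfLE h)).unop.left).appTop.hom.comp
          (D'.map (F.obj a).unop.hom).appTop.hom) r = (D'.map (F.obj b).unop.hom).appTop.hom r
        rw [← CommRingCat.hom_comp, ← Scheme.Hom.comp_appTop, ← D'.map_comp,
          Over.w (F.map (homOfLE h)).unop] }
  let gA : ∀ a, G a →ₐ[Γ(D'.obj j₀, ⊤)] Γ(c'.pt, ⊤) := fun a =>
    { toRingHom := (c'.π.app (F.obj a).unop.left).appTop.hom
      commutes' := fun r => by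
        change ((c'.π.app (F.obj a).unop.left).appTop.hom.comp
          (D'.map (F.obj a).unop.hom).appTop.hom) r = (c'.π.app j₀).appTop.hom r
        rw [← CommRingCat.hom_comp, ← Scheme.Hom.comp_appTop, c'.w]
        rfl }
  have hdir' : IsDirected α (· ≤ ·) := hdir
  have hne' : Nonempty α := hne
  let S : Groth.Agent.H47.ColimKL.Sys Γ(D'.obj j₀, ⊤) G Γ(c'.pt, ⊤) :=
    { f := g
      g := gA
      hg := fun i j h => by
        apply AlgHom.ext
        intro x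
        change ((c'.π.app (F.obj j).unop.left).appTop.hom.comp
          (D'.map (F.map (homOfLE h)).unop.left).appTop.hom) x =
          (c'.π.app (F.obj i).unop.left).appTop.hom x
        rw [← CommRingCat.hom_comp, ← Scheme.Hom.comp_appTop, c'.w]
        rfl
      hsurj := fun a => by
        obtain ⟨i, t, ht⟩ := hsurj a
        exact ⟨i, t, ht⟩
      hker := fun i x hx => by
        obtain ⟨b, h, hb⟩ := hinj i x hx
        exact ⟨b, h, hb⟩ }
  have hfp : Algebra.FinitePresentation Γ(D'.obj j₀, ⊤) Γ(X₀', ⊤) :=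
    (HasRingHomProperty.iff_of_isAffine (P := @LocallyOfFinitePresentation)).mp inferInstance
  have hsynA : Synt.IsSyntomic Γ(c'.pt, ⊤) (Γ(c'.pt, ⊤) ⊗[Γ(D'.obj j₀, ⊤)] Γ(X₀', ⊤)) :=
    (synt_fst_iff (c'.π.app j₀) h₀).mp h1
  obtain ⟨a, ha⟩ := Groth.Agent.H46.SyntColim.main
    (Groth.Agent.H46.ColimPoly.RSys.ofSys S) Γ(X₀', ⊤) hsynA
  refine ⟨(F.obj a).unop, (prop_stageMap_id_iff_fst D' j₀ h₀ SyntMor _).mpr ?_⟩
  exact (synt_fst_iff (D'.map (F.obj a).unop.hom) h₀).mpr ha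

end Groth.Agent.H46.SyntLimit
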