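import Groth.Prelude.Def_DiffOp
import Mathlib.RingTheory.TensorProduct.Basic
import Mathlib.LinearAlgebra.TensorProduct.Tower

set_option autoImplicit false
universe u

namespace Groth.Agent.H46

open TensorProduct Diff16

section

variable (R S : Type u) [CommRing R] [CommRing S] [Algebra R S]
variable (M : Type u) [AddCommGroup M] [Module S M] [Module R M] [IsScalarTower R S M]

/-- Right multiplication minus left multiplication by `b` on `S ⊗[R] M`. -/
noncomputable def cMap (b : S) : S ⊗[R] M →ₗ[S] S ⊗[R] M :=
  LinearMap.baseChange S ((LinearMap.lsmul S M b).restrictScalars R) - b • LinearMap.id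

theorem cMap_tmul (b s : S) (m : M) :
    cMap R S M b (s ⊗ₜ[R] m) = s ⊗ₜ[R] (b • m) - (b * s) ⊗ₜ[R] m := by
  simp [cMap, TensorProduct.smul_tmul']

/-- The relation submodules: `relSub k` is killed by the linearisation of `D` exactly when `D`
has order at most `k`. -/
noncomputable def relSub : ℕ → Submodule S (S ⊗[R] M)
  | 0 => ⨆ b : S, LinearMap.range (cMap R S M b)
  | k + 1 => ⨆ b : S, (relSub k).map (cMap R S M b)

variable {R S M}
variable {N : Type u} [AddCommGroup N] [Module S N] [Module R N] [IsScalarTower R S N]

theorem liftBaseChange_commutator (D : M →ₗ[R] N) (b : S) :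
    LinearMap.liftBaseChange S (Diff16.commutator R S M N D b) =
      LinearMap.liftBaseChange S D ∘ₗ cMap R S M b := by
  apply TensorProduct.AlgebraTensorModule.ext
  intro s m
  simp only [LinearMap.liftBaseChange_tmul, LinearMap.comp_apply, cMap_tmul, map_sub,
    Diff16.commutator, LinearMap.sub_apply, LinearMap.restrictScalars_apply,
    LinearMap.lsmul_apply, smul_sub, mul_smul]
  rw [smul_comm b s]

theorem isDiffOpLE_iff_relSub_le (k : ℕ) : ∀ (D : M →ₗ[R] N),
    Diff16.IsDiffOpLE R S M N k D ↔ relSub R S M k ≤ LinearMap.ker (LinearMap.liftBaseChange S D) := by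
  induction k with
  | zero =>
    intro D
    simp only [Diff16.IsDiffOpLE, relSub, iSup_le_iff]
    constructor
    · intro h b
      rintro _ ⟨x, rfl⟩
      rw [LinearMap.mem_ker, ← LinearMap.comp_apply, ← liftBaseChange_commutator]
      have : Diff16.commutator R S M N D b = 0 := by
        ext m
        simp [Diff16.commutator, h b m]
      rw [this]
      simp
    · intro h b m
      have h1 := h b ⟨(1 : S) ⊗ₜ[R] m, rfl⟩
      rw [LinearMap.mem_ker, cMap_tmul, map_sub, LinearMap.liftBaseChange_tmul,
        LinearMap.liftBaseChange_tmul, mul_one, one_smul, sub_eq_zero] at h1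
      exact h1
  | succ k ih =>
    intro D
    simp only [Diff16.IsDiffOpLE, relSub, iSup_le_iff]
    refine forall_congr' fun b => ?_
    rw [ih, liftBaseChange_commutator, LinearMap.ker_comp, Submodule.map_le_iff_le_comap]

end

end Groth.Agent.H46
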