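import Mathlib

namespace Groth.Agent.H46
open IsLocalRing
universe u

theorem finite_quotient_of_dim_zero_of_finite_residueField (R S : Type u) [CommRing R] [CommRing S]
    [IsLocalRing R] [IsLocalRing S] [Algebra R S] [IsLocalHom (algebraMap R S)]
    [Algebra.EssFiniteType R S]
    (hres : Module.Finite (IsLocalRing.ResidueField R) (IsLocalRing.ResidueField S))
    (hdim : ringKrullDim (S ⧸ (IsLocalRing.maximalIdeal R).map (algebraMap R S)) = 0) :
    Module.Finite R (S ⧸ (IsLocalRing.maximalIdeal R).map (algebraMap R S)) := by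
  set I := (IsLocalRing.maximalIdeal R).map (algebraMap R S) with hI
  have hIle : I ≤ maximalIdeal S := by
    exact ((IsLocalRing.local_hom_TFAE (algebraMap R S)).out 0 2).mp ‹_›
  have hIne : I ≠ ⊤ := fun h => (maximalIdeal.isMaximal S).ne_top (top_le_iff.mp (h ▸ hIle))
  have : Nontrivial (S ⧸ I) := Ideal.Quotient.nontrivial_iff.mpr hIne
  have : IsLocalRing (S ⧸ I) := IsLocalRing.of_surjective' (Ideal.Quotient.mk I) Ideal.Quotient.mk_surjective
  -- Noetherian
  have h1 : Algebra.EssFiniteType R (S ⧸ I) :=
    Algebra.EssFiniteType.of_surjective (Ideal.Quotient.mkₐ R I) Ideal.Quotient.mk_surjective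
  have h2 : Algebra.EssFiniteType (R ⧸ maximalIdeal R) (S ⧸ I) :=
    Algebra.EssFiniteType.of_comp R (R ⧸ maximalIdeal R) (S ⧸ I)
  have hN : IsNoetherianRing (S ⧸ I) := by
    let : Field (R ⧸ maximalIdeal R) := Ideal.Quotient.field _
    exact Algebra.EssFiniteType.isNoetherianRing (R ⧸ maximalIdeal R) _
  have hA : IsArtinianRing (S ⧸ I) := by
    rw [isArtinianRing_iff_krullDimLE_zero]
    exact ⟨hdim.le⟩
  -- the residue field of S is a finite R-module
  have hfin : Module.Finite R (ResidueField S) := by
    have : Module.Finite R (ResidueField R) :=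
      Module.Finite.of_surjective (Algebra.linearMap R (ResidueField R)) (residue_surjective)
    exact Module.Finite.trans (ResidueField R) (ResidueField S)
  let f : S ⧸ I →ₐ[R] ResidueField S := Ideal.Quotient.liftₐ I (IsScalarTower.toAlgHom R S _) (by
    intro a ha
    exact (residue_eq_zero_iff a).mpr (hIle ha))
  have hf : Function.Surjective f := by
    intro x
    obtain ⟨s, rfl⟩ := residue_surjective x
    exact ⟨Ideal.Quotient.mk I s, rfl⟩
  refine Module.finite_of_surjective_of_ker_le_nilradical f hf ?_ (IsNoetherian.noetherian _)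
  rw [Ring.KrullDimLE.nilradical_eq_maximalIdeal]
  exact IsLocalRing.le_maximalIdeal (RingHom.ker_ne_top _)

end Groth.Agent.H46
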